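import Cfsg.Agent.TO.X.Iface
import Cfsg.Agent.KZ.DatX.Main_m3
import Cfsg.Agent.TO.Rows_m3
import Cfsg.Agent.TO.Blk_m3
import Cfsg.Agent.H97.TC.Zcent
import Cfsg.Agent.Nodes.Coroot
import Cfsg.Agent.KZ.Exc.EGram
import Cfsg.Agent.Lib.FinFast
import Cfsg.Agent.ChevFast.E8
import Cfsg.Agent.H430.CfGraph
import Cfsg.Agent.S2121
import Cfsg.Agent.S2122
import Cfsg.Agent.S2115
import Cfsg.Agent.H867.TitsOut
import Cfsg.Agent.Prune
set_option linter.all false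

section
prune_inst 0x7ff6a9f8ebb9a9dfdfff7e37a6d8cffc19800fffe6dff9437fe069df0bbf030009c1fba509e010fc0ed6601410387813fb7eefffe86fdc7ffffddff41ffbee4fe5f7350851948c340fbc0ff603f077886f3fffffffffffffffffffffffffffbeffbfffffffff

-- part: TO/X/PlA
section
prune_inst 0x9140714465620000001c859033001a23370000900048880070220340074fd860e04020414a202d00080a080818040048110000000200000002000000000301000000000081080200280090800082610000000000000000000000000000041004000000000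
set_option linter.all false
open scoped Cfsg.Agent.FastGrp

/-!
# S4817, exceptional groups: pure planes, the lattice tools (helper61)

* `Fm C l G` : an invariant form; `WM.inv`, `Cj.mv`, `PurePl.mv`;
* `Rf C G a` : the reflection of `a` lies in the Weyl group; `alc` : the alcove lemma for parabolic subgroups;
* `qf`, `iso` : pure planes are isotropic; `Hs` : the histogram of the values of the roots.
-/

set_option autoImplicit false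
set_option maxHeartbeats 400000

namespace Cfsg.Agent.TO.X.Pl

open Cfsg Cfsg.Lie Matrix Cfsg.Agent.KZ.DatX Cfsg.Agent.TO.X
open Cfsg.Agent.ChevalleyStructure.CoxeterGeomTypes (cartanOf)

variable {C : ChevalleyDatum} {l : ℕ} {G : Matrix (Fin l) (Fin l) ℤ} {p : ℕ}

/-- an invariant form on the cocharacter lattice -/
structure Fm (C : ChevalleyDatum) (l : ℕ) (G : Matrix (Fin l) (Fin l) ℤ) : Prop where
  two : ∀ i, cartanOf C l i i = 2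
  sym : Gᵀ = G
  cor : ∀ i, ∃ n : ℤ, 0 < n ∧ G *ᵥ cartanOf C l i = n • Pi.single i 1
  psd : ∀ y, 0 ≤ y ⬝ᵥ G *ᵥ y

theorem sM_eq (i : Fin l) : sM C l i = 1 - vecMulVec (cartanOf C l i) (Pi.single i 1) := by
  ext a b
  simp only [sM, Matrix.of_apply, Matrix.sub_apply, Matrix.one_apply, vecMulVec_apply, Pi.single_apply, mul_ite,
    mul_one, mul_zero]

theorem refl_mulVec (c a v : Fin l → ℤ) : (1 - vecMulVec c a) *ᵥ v = v - (a ⬝ᵥ v) • c := by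
  rw [sub_mulVec, one_mulVec, vecMulVec_mulVec, op_smul_eq_smul]

theorem vecMul_refl (c a v : Fin l → ℤ) : v ᵥ* (1 - vecMulVec c a) = v - (v ⬝ᵥ c) • a := by
  rw [vecMul_sub, vecMul_one, vecMul_vecMulVec]

theorem sM_sq (h : ∀ i, cartanOf C l i i = 2) (i : Fin l) : sM C l i * sM C l i = 1 := by
  refine Matrix.ext_iff_mulVec.2 fun v => ?_
  rw [← mulVec_mulVec, one_mulVec, sM_mulVec, sM_mulVec]
  funext a
  simp only [h]
  ring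

theorem WM.simple (i : Fin l) : WM C l (sM C l i) := ⟨[i], by simp⟩

theorem WM.ind {P : Matrix (Fin l) (Fin l) ℤ → Prop} (h1 : P 1) (h2 : ∀ i W, WM C l W → P W → P (sM C l i * W))
    {W : Matrix (Fin l) (Fin l) ℤ} (hW : WM C l W) : P W := by
  obtain ⟨L, rfl⟩ := hW
  induction L with
  | nil => exact h1
  | cons i L ih =>
    rw [List.map_cons, List.prod_cons]
    exact h2 i _ ⟨L, rfl⟩ ih

theorem WM.inv (h : ∀ i, cartanOf C l i i = 2) {W : Matrix (Fin l) (Fin l) ℤ} (hW : WM C l W) :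
    ∃ W', WM C l W' ∧ W' * W = 1 ∧ W * W' = 1 := by
  refine WM.ind (P := fun W => ∃ W', WM C l W' ∧ W' * W = 1 ∧ W * W' = 1) ⟨1, WM.one, mul_one _, mul_one _⟩ ?_ hW
  rintro i W - ⟨W', h1, h2, h3⟩
  refine ⟨W' * sM C l i, h1.mul (WM.simple i), ?_, ?_⟩
  · rw [mul_assoc, ← mul_assoc (sM C l i), sM_sq h, one_mul, h2]
  · rw [mul_assoc, ← mul_assoc W, h3, one_mul, sM_sq h]

/-- the members of `L` normalise the simple reflections -/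
def Nm (C : ChevalleyDatum) (L : List (Matrix (Fin l) (Fin l) ℤ)) : Prop :=
  ∀ B ∈ L, ∀ i, ∃ j, B * sM C l i = sM C l j * B

theorem Nm.one : Nm C [(1 : Matrix (Fin l) (Fin l) ℤ)] := fun B hB i => by
  rw [List.mem_singleton.1 hB]
  exact ⟨i, by rw [one_mul, mul_one]⟩

theorem Nm.wm {L : List (Matrix (Fin l) (Fin l) ℤ)} (h : Nm C L) {B W : Matrix (Fin l) (Fin l) ℤ} (hB : B ∈ L)
    (hW : WM C l W) : ∃ W', WM C l W' ∧ B * W = W' * B := by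
  refine WM.ind (P := fun W => ∃ W', WM C l W' ∧ B * W = W' * B) ⟨1, WM.one, by rw [one_mul, mul_one]⟩ ?_ hW
  rintro i W - ⟨W', h1, h2⟩
  obtain ⟨j, hj⟩ := h B hB i
  exact ⟨sM C l j * W', (WM.simple j).mul h1, by rw [← mul_assoc, hj, mul_assoc, h2, mul_assoc]⟩

theorem mv_zero (A : Matrix (Fin l) (Fin l) ℤ) : mv A (0 : Fin l → ZMod p) = 0 := mulVec_zero _

theorem Cj.mv (h2 : ∀ i, cartanOf C l i i = 2) {L : List (Matrix (Fin l) (Fin l) ℤ)} (hN : Nm C L)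
    {u v : Fin l → ZMod p} (H : Cj C (AdmS p L) u v) {W : Matrix (Fin l) (Fin l) ℤ} (hW : WM C l W) :
    Cj C (AdmS p L) (mv W u) (mv W v) := by
  obtain ⟨W1, A, h1, ⟨c, hc, B, hB, rfl⟩, rfl⟩ := H
  obtain ⟨W', h3, h4, -⟩ := WM.inv h2 hW
  obtain ⟨W2, h5, h6⟩ := hN.wm hB h3
  refine ⟨W * W1 * W2, c • B, (hW.mul h1).mul h5, ⟨c, hc, B, hB, rfl⟩, ?_⟩
  rw [← mv_mul, ← mv_mul]
  congr 1
  rw [mul_assoc (W * W1), mul_smul_comm c W2, ← h6, mul_assoc (W * W1), smul_mul_assoc, mul_assoc B, h4, mul_one, mul_assoc]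

theorem PurePl.mv (h2 : ∀ i, cartanOf C l i i = 2) {L : List (Matrix (Fin l) (Fin l) ℤ)} (hN : Nm C L)
    {u x : Fin l → ZMod p} (H : PurePl C (AdmS p L) u x) {W : Matrix (Fin l) (Fin l) ℤ} (hW : WM C l W) :
    PurePl C (AdmS p L) (mv W u) (mv W x) := by
  obtain ⟨W', -, h4, -⟩ := WM.inv h2 hW
  refine ⟨fun i j h => H.ind i j ?_, fun i j h => ?_⟩
  · rw [← mv_smul, ← mv_smul, ← mv_add] at h
    rw [← mv_one (i • u + j • x), ← h4, mv_mul, h, mv_zero]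
  · rw [← mv_smul, ← mv_smul, ← mv_add] at h ⊢
    exact Cj.mv h2 hN (H.cj i j fun e => h (by rw [e, mv_zero])) hW

theorem PurePl.add {Adm : Matrix (Fin l) (Fin l) ℤ → Prop} {u x : Fin l → ZMod p} (H : PurePl C Adm u x) (t : ZMod p) :
    PurePl C Adm u (x + t • u) := by
  have e : ∀ i j : ZMod p, i • u + j • (x + t • u) = (i + j * t) • u + j • x := fun i j => by module
  refine ⟨fun i j h => ?_, fun i j h => ?_⟩
  · rw [e] at h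
    obtain ⟨h1, rfl⟩ := H.ind _ _ h
    exact ⟨by rwa [zero_mul, add_zero] at h1, rfl⟩
  · rw [e] at h ⊢
    exact H.cj _ _ h

/-! ### reflections -/

theorem Fm.mul_sM (F : Fm C l G) (i : Fin l) (v : Fin l → ℤ) : G *ᵥ (sM C l i *ᵥ v) = (G *ᵥ v) ᵥ* sM C l i := by
  obtain ⟨n, -, hn⟩ := F.cor i
  have h1 : (G *ᵥ v) ⬝ᵥ cartanOf C l i = n * v i := by
    rw [← vecMul_transpose, F.sym, ← dotProduct_mulVec, hn, dotProduct_smul, dotProduct_single, mul_one, smul_eq_mul]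
  rw [sM_eq, refl_mulVec, vecMul_refl, mulVec_sub, mulVec_smul, hn, h1, single_dotProduct, one_mul, smul_smul, mul_comm]

/-- the reflection of `a` lies in the Weyl group -/
def Rf (C : ChevalleyDatum) (G : Matrix (Fin l) (Fin l) ℤ) (a : Fin l → ℤ) : Prop :=
  ∃ (c : Fin l → ℤ) (n : ℤ), 0 < n ∧ WM C l (1 - vecMulVec c a) ∧ G *ᵥ c = n • a ∧ a ⬝ᵥ c = 2

theorem Rf.simple (F : Fm C l G) (i : Fin l) : Rf C G (Pi.single i 1) := by
  obtain ⟨n, h1, h2⟩ := F.cor i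
  exact ⟨cartanOf C l i, n, h1, sM_eq (C := C) i ▸ WM.simple i, h2, by rw [single_dotProduct, one_mul, F.two]⟩

theorem Rf.neg {a : Fin l → ℤ} (h : Rf C G a) : Rf C G (-a) := by
  obtain ⟨c, n, h1, h2, h3, h4⟩ := h
  refine ⟨-c, n, h1, ?_, by rw [mulVec_neg, h3, smul_neg], by rw [neg_dotProduct_neg, h4]⟩
  rwa [neg_vecMulVec, vecMulVec_neg, neg_neg]

theorem Rf.step (F : Fm C l G) {a : Fin l → ℤ} (h : Rf C G a) (i : Fin l) : Rf C G (a ᵥ* sM C l i) := by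
  obtain ⟨c, n, h1, h2, h3, h4⟩ := h
  refine ⟨sM C l i *ᵥ c, n, h1, ?_, by rw [F.mul_sM, h3, smul_vecMul], ?_⟩
  · have e : 1 - vecMulVec (sM C l i *ᵥ c) (a ᵥ* sM C l i) = sM C l i * (1 - vecMulVec c a) * sM C l i := by
      rw [mul_sub, sub_mul, mul_one, sM_sq F.two, mul_vecMulVec, vecMulVec_mul]
    rw [e]
    exact ((WM.simple i).mul h2).mul (WM.simple i)
  · rw [← dotProduct_mulVec, mulVec_mulVec, sM_sq F.two, one_mulVec, h4]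

/-- reduction modulo `p` -/
def cz (p : ℕ) (v : Fin l → ℤ) : Fin l → ZMod p := fun i => (v i : ZMod p)

theorem vl_cz (a v : Fin l → ℤ) : vl a (cz p v) = ((a ⬝ᵥ v : ℤ) : ZMod p) := by
  simp only [vl, cz, dotProduct, Int.cast_sum, Int.cast_mul]

theorem mv_cz (A : Matrix (Fin l) (Fin l) ℤ) (v : Fin l → ℤ) : mv A (cz p v) = cz p (A *ᵥ v) :=
  funext fun i => vl_cz (A i) v

theorem cz_val [NeZero p] (v : Fin l → ZMod p) : cz p (fun i => ((v i).val : ℤ)) = v :=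
  funext fun i => by rw [cz, Int.cast_natCast, ZMod.natCast_zmod_val]

theorem mv_refl [NeZero p] (c a : Fin l → ℤ) (v : Fin l → ZMod p) : mv (1 - vecMulVec c a) v = v - vl a v • cz p c := by
  rw [← cz_val v, mv_cz, refl_mulVec, vl_cz]
  funext i
  simp only [cz, Pi.sub_apply, Pi.smul_apply, smul_eq_mul, Int.cast_sub, Int.cast_mul]

/-- **The alcove lemma** for the parabolic subgroup which fixes `u`. -/
theorem alc [NeZero p] (F : Fm C l G) (u x : Fin l → ZMod p) (Θ : List (Fin l → ℕ))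
    (h : ∀ θ ∈ Θ, Rf C G (fun i => (θ i : ℤ)) ∧ ∑ i, θ i < 30 ∧ ∀ i, θ i ≠ 0 → u i = 0) :
    ∃ W, WM C l W ∧ mv W u = u ∧ ∀ θ ∈ Θ, ∑ i, θ i * (mv W x i).val ≤ p := by
  obtain ⟨y, ⟨W, h1, h2, h3⟩, hmin⟩ := (measure fun y : Fin l → ℤ =>
    (((30 : ℤ) • y - 1) ⬝ᵥ G *ᵥ ((30 : ℤ) • y - 1)).toNat).wf.has_min
    {y | ∃ W, WM C l W ∧ mv W u = u ∧ cz p y = mv W x} ⟨_, 1, WM.one, mv_one u, (cz_val x).trans (mv_one x).symm⟩
  have key : ∀ a, Rf C G a → vl a u = 0 → ∀ k : ℤ, 30 * (k * p) < a ⬝ᵥ 1 → k * p ≤ a ⬝ᵥ y := by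
    rintro a ⟨c, n, g1, g2, g3, g4⟩ g5 k g6
    by_contra g7
    refine hmin (y - (a ⬝ᵥ y - k * p) • c) ⟨(1 - vecMulVec c a) * W, g2.mul h1, ?_, ?_⟩ ?_
    · rw [mv_mul, h2, mv_refl, g5, zero_smul, sub_zero]
    · rw [mv_mul, ← h3, mv_refl, vl_cz]
      funext i
      simp only [cz, Pi.sub_apply, Pi.smul_apply, smul_eq_mul, Int.cast_sub, Int.cast_mul, Int.cast_natCast,
        ZMod.natCast_self, mul_zero, sub_zero]
    · show Int.toNat _ < Int.toNat _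
      obtain ⟨t, ht⟩ : ∃ t, t = a ⬝ᵥ y - k * p := ⟨_, rfl⟩
      obtain ⟨z, hz⟩ : ∃ z, z = (30 : ℤ) • y - 1 := ⟨_, rfl⟩
      have e1 : (30 : ℤ) • (y - t • c) - 1 = z - (30 * t) • c := by
        rw [hz]
        module
      have e2 : c ⬝ᵥ G *ᵥ z = n * (a ⬝ᵥ z) := by
        rw [dotProduct_mulVec, ← mulVec_transpose, F.sym, g3, smul_dotProduct, smul_eq_mul]
      have e3 : a ⬝ᵥ z = 30 * (a ⬝ᵥ y) - a ⬝ᵥ 1 := by rw [hz, dotProduct_sub, dotProduct_smul, smul_eq_mul]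
      have e4 : (z - (30 * t) • c) ⬝ᵥ G *ᵥ (z - (30 * t) • c) =
          z ⬝ᵥ G *ᵥ z - 60 * (n * ((-t) * (a ⬝ᵥ 1 - 30 * (k * p)))) := by
        rw [mulVec_sub, mulVec_smul, g3, sub_dotProduct, dotProduct_sub, dotProduct_sub, smul_dotProduct, e2,
          smul_dotProduct, dotProduct_smul, dotProduct_smul, dotProduct_smul, dotProduct_smul, dotProduct_comm z a,
          dotProduct_comm c a, g4, e3, show a ⬝ᵥ y = t + k * p by rw [ht]; ring]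
        simp only [smul_eq_mul]
        ring
      have e5 : 0 < n * ((-t) * (a ⬝ᵥ 1 - 30 * (k * p))) := mul_pos g1 (mul_pos (by omega) (by omega))
      have e6 := F.psd (z - (30 * t) • c)
      rw [← ht, e1, ← hz]
      omega
  refine ⟨W, h1, h2, fun θ hθ => ?_⟩
  obtain ⟨g1, g2, g3⟩ := h θ hθ
  have hp : 0 < p := Nat.pos_of_ne_zero (NeZero.ne p)
  have k1 : ∀ i, θ i ≠ 0 → 0 ≤ y i := fun i hi => by
    have := key _ (Rf.simple F i) (by rw [← cz_val u, vl_cz, single_dotProduct, one_mul, g3 i hi]; simp) 0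
      (by rw [single_dotProduct]; simp)
    rwa [zero_mul, single_dotProduct, one_mul] at this
  have k2 := key _ g1.neg (Finset.sum_eq_zero fun i _ => by
    by_cases hi : θ i = 0
    · simp [hi]
    · rw [g3 i hi, mul_zero]) (-1) (by
    have : ((fun i => (θ i : ℤ)) ⬝ᵥ 1) = ((∑ i, θ i : ℕ) : ℤ) := by simp [dotProduct]
    rw [neg_dotProduct, this]
    omega)
  rw [neg_dotProduct, neg_one_mul, neg_le_neg_iff] at k2
  refine Int.ofNat_le.1 (le_trans ?_ k2)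
  rw [Nat.cast_sum]
  refine Finset.sum_le_sum fun i _ => ?_
  by_cases hi : θ i = 0
  · simp [hi]
  · rw [Nat.cast_mul, ← h3, cz, ZMod.val_intCast]
    refine mul_le_mul_of_nonneg_left ?_ (Int.natCast_nonneg _)
    have h4 := Int.emod_add_mul_ediv (y i) p
    have h5 := mul_nonneg (Int.natCast_nonneg p) (Int.ediv_nonneg (k1 i hi) (Int.natCast_nonneg p))
    omega

/-! ### the form modulo `p` -/

/-- the form -/
def qf (G : Matrix (Fin l) (Fin l) ℤ) (u v : Fin l → ZMod p) : ZMod p := u ⬝ᵥ mv G v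

theorem qf_cz (u v : Fin l → ℤ) : qf G (cz p u) (cz p v) = ((u ⬝ᵥ G *ᵥ v : ℤ) : ZMod p) := by
  rw [qf, mv_cz, ← vl_cz]
  rfl

theorem qf_comm [NeZero p] (F : Fm C l G) (u v : Fin l → ZMod p) : qf G u v = qf G v u := by
  rw [← cz_val u, ← cz_val v, qf_cz, qf_cz, dotProduct_mulVec, ← mulVec_transpose, F.sym, dotProduct_comm]

theorem qf_wm [NeZero p] (F : Fm C l G) {W : Matrix (Fin l) (Fin l) ℤ} (hW : WM C l W) (u v : Fin l → ZMod p) :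
    qf G (mv W u) (mv W v) = qf G u v := by
  refine WM.ind (P := fun W => qf G (mv W u) (mv W v) = qf G u v) (by rw [mv_one, mv_one]) (fun i W _ h => ?_) hW
  rw [mv_mul, mv_mul, ← h, ← cz_val (mv W u), ← cz_val (mv W v), mv_cz, mv_cz, qf_cz, qf_cz, F.mul_sM, dotProduct_comm,
    ← dotProduct_mulVec, mulVec_mulVec, sM_sq F.two, one_mulVec, dotProduct_comm]

theorem qf_expand [NeZero p] (F : Fm C l G) (u x : Fin l → ZMod p) (i j : ZMod p) :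
    qf G (i • u + j • x) (i • u + j • x) = i ^ 2 * qf G u u + 2 * i * j * qf G u x + j ^ 2 * qf G x x := by
  have h := qf_comm F x u
  simp only [qf, mv_add, mv_smul, add_dotProduct, dotProduct_add, smul_dotProduct, dotProduct_smul, smul_eq_mul] at h ⊢
  rw [h]
  ring

/-- **pure planes are isotropic** -/
theorem iso [Fact p.Prime] (F : Fm C l G) (h2 : (2 : ZMod p) ≠ 0)
    (hs : ∀ b c : ZMod p, ∃ i, ∀ s, s ≠ 0 → i ^ 2 + b * i + c ≠ s ^ 2) {u x : Fin l → ZMod p}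
    (H : PurePl C (AdmS p [1]) u x) : qf G u u = 0 ∧ qf G u x = 0 ∧ qf G x x = 0 := by
  have key : ∀ i : ZMod p, ∃ s : ZMod p, s ≠ 0 ∧ i ^ 2 * qf G u u + 2 * i * qf G u x + qf G x x = s ^ 2 * qf G u u := by
    intro i
    obtain ⟨W, A, h1, ⟨c, hc, B, hB, rfl⟩, h3⟩ := H.cj i 1 fun e => one_ne_zero (H.ind _ _ e).2
    refine ⟨c, fun e => hc ((ZMod.intCast_zmod_eq_zero_iff_dvd c p).1 e), ?_⟩
    have h4 := qf_expand F u x i 1
    have h5 := qf_expand F u x c 0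
    rw [h3, List.mem_singleton.1 hB, mv_mul, qf_wm F h1, smul_mv, mv_one] at h4
    rw [zero_smul, add_zero] at h5
    linear_combination h5 - h4
  have h0 : qf G u u = 0 := by
    by_contra h0
    obtain ⟨i, hi⟩ := hs (2 * qf G u x / qf G u u) (qf G x x / qf G u u)
    obtain ⟨s, h1, h3⟩ := key i
    refine hi s h1 ?_
    field_simp
    linear_combination h3
  obtain ⟨s, -, h1⟩ := key 0
  obtain ⟨t, -, h3⟩ := key 1
  rw [h0] at h1 h3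
  refine ⟨h0, (mul_eq_zero.1 (show 2 * qf G u x = 0 by linear_combination h3 - h1)).resolve_left h2, ?_⟩
  linear_combination h1

/-! ### the histogram -/

/-- a list of natural numbers as a vector -/
def fz (l : ℕ) (a : List ℕ) : Fin l → ℤ := fun i => (a.getD i 0 : ℕ)

/-- the histogram of the squares of the values -/
def Hs (P : List (ℕ × List ℕ)) (v : Fin l → ZMod p) : ℕ := (P.map fun e => 256 ^ (e.1 + (vl (fz l e.2) v ^ 2).val)).sum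

/-- the simple reflections permute `P` up to sign -/
def Pm (C : ChevalleyDatum) (l : ℕ) (P : List (ℕ × List ℕ)) (σ : ℕ → List ℕ → List ℕ) : Prop :=
  ∀ i : Fin l, (P.map fun e => (e.1, σ i e.2)).Perm P ∧
    ∀ e ∈ P, fz l e.2 ᵥ* sM C l i = fz l (σ i e.2) ∨ fz l e.2 ᵥ* sM C l i = -fz l (σ i e.2)

theorem vl_neg (a : Fin l → ℤ) (v : Fin l → ZMod p) : vl (-a) v = -vl a v := by
  simp [vl, Finset.sum_neg_distrib]

theorem Hs_wm {P : List (ℕ × List ℕ)} {σ : ℕ → List ℕ → List ℕ} (h : Pm C l P σ) {W : Matrix (Fin l) (Fin l) ℤ}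
    (hW : WM C l W) (v : Fin l → ZMod p) : Hs P (mv W v) = Hs P v := by
  refine WM.ind (P := fun W => Hs P (mv W v) = Hs P v) (by rw [mv_one]) (fun i W _ h1 => ?_) hW
  rw [mv_mul, ← h1, Hs, Hs, ← (((h i).1).map _).sum_eq (l₂ := P.map fun e => 256 ^ (e.1 + (vl (fz l e.2) (mv W v) ^ 2).val)),
    List.map_map]
  refine congrArg List.sum (List.map_congr_left fun e he => ?_)
  rw [← vl_vecMul]
  rcases (h i).2 e he with h2 | h2
  · rw [h2]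
    rfl
  · rw [h2, vl_neg, neg_sq]
    rfl

theorem rf_of (F : Fm C l G) {P : List (ℕ × List ℕ)} {σ : ℕ → List ℕ → List ℕ} (h : Pm C l P σ)
    (h1 : ∀ e ∈ P, (∃ i : Fin l, fz l e.2 = Pi.single i 1) ∨ ∃ i : Fin l, (σ i e.2).sum < e.2.sum) :
    ∀ e ∈ P, Rf C G (fz l e.2) := by
  intro e he
  induction hn : e.2.sum using Nat.strong_induction_on generalizing e with
  | _ n ih =>
    rcases h1 e he with ⟨i, h2⟩ | ⟨i, h2⟩
    · rw [h2]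
      exact Rf.simple F i
    · have h3 : Rf C G (fz l (σ i e.2)) :=
        ih _ (hn ▸ h2) (e.1, σ i e.2) ((h i).1.subset (List.mem_map_of_mem he)) rfl
      have h4 : fz l e.2 = (fz l e.2 ᵥ* sM C l i) ᵥ* sM C l i := by rw [vecMul_vecMul, sM_sq F.two, vecMul_one]
      rw [h4]
      rcases (h i).2 e he with h5 | h5
      · rw [h5]
        exact h3.step F i
      · rw [h5]
        exact h3.neg.step F i

end Cfsg.Agent.TO.X.Pl

private theorem dce_0f24b4afa4e9 : _root_.True := by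
  try have : _root_.True := by simp only [_root_.Cfsg.Agent.TO.X.Pl.Hs.eq_1]
  try have : _root_.True := by simp only [_root_.Cfsg.Agent.TO.X.Pl.qf.eq_1]
  try have : _root_.True := by simp only [_root_.Cfsg.Agent.TO.X.Pl.cz.eq_1]
  exact _root_.True.intro
end

-- part: TO/X/PlC
section
prune_inst 0x9140710465620200001c859233001c23b70000900008880038220344030f5462e041a0414a203d100808100808040000000000000000000002000000000301000800100481080300280098000002610000000000000000000000000000041004000000000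
set_option linter.all false
open scoped Cfsg.Agent.FastGrp

-- part: TO/X/PlB
section
/-!
# S4817, exceptional groups: pure planes, the search (helper61)

* `Ty C l A Gt P` : the tables of a type, `ty_of`;
* `go` : the loop over the vectors in an alcove; `chk1`, `chk2`, `chk3` : the tests;
* `Job.plane`, `Job.rank` : the classification of the pure planes, the bound for the rank.
-/

set_option autoImplicit false
set_option maxHeartbeats 400000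
set_option linter.unusedSectionVars false

namespace Cfsg.Agent.TO.X.Pl

open Cfsg Cfsg.Lie Matrix Cfsg.Agent.KZ.DatX Cfsg.Agent.TO.X
open Cfsg.Agent.ChevalleyStructure.CoxeterGeomTypes (cartanOf)

variable {C : ChevalleyDatum} {l : ℕ} {p : ℕ}

/-- the scalar product -/
noncomputable def dt (a : List ℕ) : List ℕ → ℕ :=
  List.rec (fun _ => 0) (fun x _ ih b => List.rec 0 (fun y b _ => Nat.add (Nat.mul x y) (ih b)) b) a

theorem dt_eq (l : ℕ) : ∀ a b : List ℕ, a.length ≤ l → dt a b = ∑ i : Fin l, a.getD i 0 * b.getD i 0 := by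
  induction l with
  | zero =>
    intro a b h
    rw [List.length_eq_zero_iff.1 (Nat.le_zero.1 h)]
    rfl
  | succ l ih =>
    intro a b h
    cases a with
    | nil => simp [dt]
    | cons x a =>
      cases b with
      | nil => simp [dt]
      | cons y b =>
        rw [Fin.sum_univ_succ]
        exact congrArg (x * y + ·) (ih a b (Nat.le_of_succ_le_succ h))

/-- a list of natural numbers as a vector modulo `p` -/
def cv (p l : ℕ) (r : List ℕ) : Fin l → ZMod p := fun i => (r.getD i 0 : ℕ)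

theorem cz_fz (r : List ℕ) : cz p (fz l r) = cv p l r := funext fun _ => Int.cast_natCast _

theorem vl_cv {a : List ℕ} (h : a.length ≤ l) (r : List ℕ) : vl (fz l a) (cv p l r) = (dt a r : ℕ) := by
  simp only [vl, fz, cv, dt_eq l a r h, Int.cast_natCast, Nat.cast_sum, Nat.cast_mul]

/-- the residues -/
def nl (v : Fin l → ZMod p) : List ℕ := List.ofFn fun i => (v i).val

theorem nl_getD (v : Fin l → ZMod p) (i : Fin l) : (nl v).getD i 0 = (v i).val := by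
  rw [nl, List.getD_eq_getElem?_getD, List.getElem?_ofFn, dif_pos i.2]
  rfl

theorem cv_nl [NeZero p] (v : Fin l → ZMod p) : cv p l (nl v) = v :=
  funext fun i => by rw [cv, nl_getD, ZMod.natCast_zmod_val]

theorem getD_range (f : ℕ → ℕ) (i : Fin l) : ((List.range l).map f).getD i 0 = f i := by
  rw [List.getD_eq_getElem?_getD, List.getElem?_map, List.getElem?_range i.2]
  rfl

/-! ### the tables -/

/-- the matrix of the form -/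
def gm (l : ℕ) (Gt : List (List ℕ)) : Matrix (Fin l) (Fin l) ℤ := Matrix.of fun i => fz l (Gt.getD i [])

/-- a coordinate of a reflected root -/
def rz (l : ℕ) (A : List (List ℤ)) (i : ℕ) (a : List ℕ) (j : ℕ) : ℤ :=
  (a.getD j 0 : ℕ) - if j = i then ∑ k : Fin l, ((a.getD k 0 : ℕ) : ℤ) * (A.getD i []).getD k 0 else 0

/-- the reflected root up to sign -/
def sg (l : ℕ) (A : List (List ℤ)) (i : ℕ) (a : List ℕ) : List ℕ := (List.range l).map fun j => (rz l A i a j).natAbs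

theorem fz_vecMul {A : List (List ℤ)} (h : IsRows C l A) (i : Fin l) (a : List ℕ) :
    fz l a ᵥ* sM C l i = fun j : Fin l => rz l A i a j := by
  rw [sM_eq, vecMul_refl]
  funext j
  simp only [rz, h i, getD_ofFn, Pi.sub_apply, Pi.smul_apply, Pi.single_apply, smul_eq_mul, mul_ite, mul_one, mul_zero,
    Fin.val_inj]
  rfl

/-- the tables of a type -/
structure Ty (C : ChevalleyDatum) (l : ℕ) (A : List (List ℤ)) (Gt : List (List ℕ)) (P : List (ℕ × List ℕ)) : Prop where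
  rows : IsRows C l A
  fm : Fm C l (gm l Gt)
  pm : Pm C l P (sg l A)
  rf : ∀ e ∈ P, Rf C (gm l Gt) (fz l e.2)
  len : ∀ e ∈ P, e.2.length ≤ l
  ht : ∀ e ∈ P, ∑ i : Fin l, e.2.getD i 0 < 30
  gl : Gt.length ≤ l ∧ ∀ r ∈ Gt, r.length ≤ l

variable {A : List (List ℤ)} {Gt : List (List ℕ)} {P : List (ℕ × List ℕ)}

/-- evaluate `n` first -/
noncomputable def fsFc (n : ℕ) (f : ℕ → Bool) : Bool := Nat.rec (f 0) (fun m _ => f (Nat.succ m)) n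

theorem fsFc_eq (n : ℕ) (f : ℕ → Bool) : fsFc n f = f n := by cases n <;> rfl

theorem ty_of (m : ℤ) (h0 : IsRows C l A)
    (h1 : ∀ i : Fin l, (P.map fun e => (e.1, sg l A i e.2)).Perm P)
    (h2 : ∀ i : Fin l, ∀ e ∈ P, 0 ≤ rz l A i e.2 i ∨ ∀ j : Fin l, j = i ∨ e.2.getD j 0 = 0)
    (h3 : ∀ e ∈ P, e.2.length ≤ l ∧ ∑ i : Fin l, e.2.getD i 0 < 30 ∧
      ((∃ i : Fin l, ∀ j, fz l e.2 j = if j = i then 1 else 0) ∨ ∃ i : Fin l, (sg l A i e.2).sum < e.2.sum))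
    (h4 : 0 < m ∧ Gt.length ≤ l ∧ ∀ r ∈ Gt, r.length ≤ l)
    (h5 : ∀ i j, m * gm l Gt i j = (P.map fun e => fz l e.2 i * fz l e.2 j).sum)
    (h6 : ∀ i, cartanOf C l i i = 2 ∧ 0 < ∑ j, gm l Gt i j * cartanOf C l i j ∧
      ∀ k, k ≠ i → ∑ j, gm l Gt k j * cartanOf C l i j = 0) : Ty C l A Gt P := by
  replace h2 : ∀ i : Fin l, ∀ e ∈ P, (∀ j : Fin l, rz l A i e.2 j = fz l (sg l A i e.2) j) ∨
      ∀ j : Fin l, rz l A i e.2 j = -fz l (sg l A i e.2) j := by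
    intro i e he
    have k1 : ∀ j : Fin l, fz l (sg l A i e.2) j = |rz l A i e.2 j| := fun j =>
      (congrArg Nat.cast (getD_range _ j)).trans (Int.natCast_natAbs _)
    have k2 : ∀ j : Fin l, j ≠ i → rz l A i e.2 j = (e.2.getD j 0 : ℕ) := fun j hj => by
      rw [rz, if_neg (Fin.val_ne_of_ne hj), sub_zero]
    simp only [k1]
    rcases le_total 0 (rz l A i e.2 i) with h | h
    · refine Or.inl fun j => (abs_of_nonneg ?_).symm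
      by_cases hj : j = i
      · rwa [hj]
      · rw [k2 j hj]
        exact Nat.cast_nonneg _
    rcases h2 i e he with h' | h'
    · refine Or.inl fun j => (abs_of_nonneg ?_).symm
      by_cases hj : j = i
      · rwa [hj]
      · rw [k2 j hj]
        exact Nat.cast_nonneg _
    · refine Or.inr fun j => ?_
      by_cases hj : j = i
      · rw [hj, abs_of_nonpos h, neg_neg]
      · rw [k2 j hj, (h' j).resolve_left hj]
        rfl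
  have F : Fm C l (gm l Gt) := by
    refine ⟨fun i => (h6 i).1, Matrix.ext fun i j => mul_left_cancel₀ h4.1.ne' ((h5 j i).trans
      (Eq.trans (by simp only [mul_comm]) (h5 i j).symm)), fun i => ⟨_, (h6 i).2.1, funext fun k => ?_⟩, fun y => ?_⟩
    · rw [Pi.smul_apply, Pi.single_apply, smul_eq_mul, mul_ite, mul_one, mul_zero]
      split_ifs with h
      · rw [h]
        rfl
      · exact (h6 i).2.2 k h
    · have e : ∀ Q : List (ℕ × List ℕ), 0 ≤ ∑ i, ∑ j, y i * (Q.map fun e => fz l e.2 i * fz l e.2 j).sum * y j := by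
        intro Q
        induction Q with
        | nil => simp only [_root_.List.map_nil, _root_.List.sum_nil, _root_.MulZeroClass.mul_zero, _root_.MulZeroClass.zero_mul, _root_.Finset.sum_const_zero, _root_.Std.le_refl]
        | cons e Q ih =>
          simp only [List.map_cons, List.sum_cons, mul_add, add_mul, Finset.sum_add_distrib]
          refine add_nonneg (le_of_le_of_eq (mul_self_nonneg (∑ i, y i * fz l e.2 i)) ?_) ih
          rw [Finset.sum_mul_sum]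
          exact Finset.sum_congr rfl fun i _ => Finset.sum_congr rfl fun j _ => by ring
      refine (mul_nonneg_iff_of_pos_left h4.1).1 (le_of_le_of_eq (e P) ?_)
      simp only [dotProduct, mulVec, Finset.mul_sum, ← h5]
      exact Finset.sum_congr rfl fun i _ => Finset.sum_congr rfl fun j _ => by ring
  have M : Pm C l P (sg l A) := fun i => ⟨h1 i, fun e he => by
    rw [fz_vecMul h0]
    exact (h2 i e he).imp funext funext⟩
  exact ⟨h0, F, M, rf_of F M fun e he => (h3 e he).2.2.imp_left fun ⟨i, hi⟩ =>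
    ⟨i, funext fun j => (hi j).trans (Pi.single_apply i 1 j).symm⟩, fun e he => (h3 e he).1, fun e he => (h3 e he).2.1, h4.2⟩

/-- the form applied to a vector -/
noncomputable def gv (Gt : List (List ℕ)) (u : List ℕ) : List ℕ := Gt.map fun r => dt r u

theorem Ty.cv_gv (T : Ty C l A Gt P) (u : List ℕ) : cv p l (gv Gt u) = mv (gm l Gt) (cv p l u) := by
  funext i
  have h : (Gt.getD i []).length ≤ l := by
    rw [List.getD_eq_getElem?_getD]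
    cases e : Gt[(i : ℕ)]? with
    | none => exact Nat.zero_le _
    | some r => exact T.gl.2 r (List.mem_of_getElem? e)
  exact (congrArg Nat.cast (List.getD_map Gt [] fun r => dt r u)).trans (vl_cv h u).symm

theorem Ty.qf_cv (T : Ty C l A Gt P) (u y : List ℕ) : qf (gm l Gt) (cv p l y) (cv p l u) = (dt (gv Gt u) y : ℕ) := by
  rw [qf, ← T.cv_gv, dt_eq l _ _ (by rw [gv, List.length_map]; exact T.gl.1), dotProduct_comm]
  simp only [dotProduct, cv, Nat.cast_sum, Nat.cast_mul]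

/-! ### the loop -/

/-- a loop -/
noncomputable def lp (n : ℕ) (f : ℕ → Bool) : Bool := Nat.rec true (fun k ih => cond (f k) ih false) n

theorem lp_iff {n : ℕ} {f : ℕ → Bool} : lp n f = true ↔ ∀ x < n, f x = true := by
  induction n with
  | zero => exact ⟨fun _ _ h => absurd h (Nat.not_lt_zero _), fun _ => rfl⟩
  | succ k ih =>
    show cond (f k) (lp k f) false = true ↔ _
    rw [Nat.forall_lt_succ_right, ← ih]
    cases f k <;> simp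

/-- the loop over the vectors with three linear bounds -/
noncomputable def go (lf : ℕ → List ℕ → Bool) (sp : List (ℕ × ℕ × ℕ × ℕ × ℕ)) : ℕ → ℕ → ℕ → ℕ → List ℕ → Bool :=
  List.rec (fun s _ _ _ acc => lf s acc) (fun e _ ih s b0 b1 b2 acc => lp e.1 fun v =>
    cond (Nat.ble (Nat.mul e.2.2.1 v) b0) (cond (Nat.ble (Nat.mul e.2.2.2.1 v) b1) (cond (Nat.ble (Nat.mul e.2.2.2.2 v) b2)
      (ih (Nat.add s (Nat.mul e.2.1 v)) (Nat.sub b0 (Nat.mul e.2.2.1 v)) (Nat.sub b1 (Nat.mul e.2.2.2.1 v))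
        (Nat.sub b2 (Nat.mul e.2.2.2.2 v)) (v :: acc)) true) true) true) sp

theorem go_spec {lf : ℕ → List ℕ → Bool} {sp : List (ℕ × ℕ × ℕ × ℕ × ℕ)} {ys : List ℕ}
    (h : List.Forall₂ (fun e y => y < e.1) sp ys) : ∀ s b0 b1 b2 acc, go lf sp s b0 b1 b2 acc = true →
      dt (sp.map fun e => e.2.2.1) ys ≤ b0 → dt (sp.map fun e => e.2.2.2.1) ys ≤ b1 →
      dt (sp.map fun e => e.2.2.2.2) ys ≤ b2 → lf (s + dt (sp.map fun e => e.2.1) ys) (ys.reverse ++ acc) = true := by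
  induction h with
  | nil => exact fun _ _ _ _ _ h _ _ _ => h
  | @cons e y sp ys h1 _ ih =>
    intro s b0 b1 b2 acc h g0 g1 g2
    replace g0 : e.2.2.1 * y + dt (sp.map fun e => e.2.2.1) ys ≤ b0 := g0
    replace g1 : e.2.2.2.1 * y + dt (sp.map fun e => e.2.2.2.1) ys ≤ b1 := g1
    replace g2 : e.2.2.2.2 * y + dt (sp.map fun e => e.2.2.2.2) ys ≤ b2 := g2
    have h2 := lp_iff.1 h y h1
    rw [Nat.ble_eq_true_of_le (show Nat.mul e.2.2.1 y ≤ b0 from le_of_add_le_left g0),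
      Nat.ble_eq_true_of_le (show Nat.mul e.2.2.2.1 y ≤ b1 from le_of_add_le_left g1),
      Nat.ble_eq_true_of_le (show Nat.mul e.2.2.2.2 y ≤ b2 from le_of_add_le_left g2)] at h2
    have h3 := ih _ _ _ _ _ h2 (Nat.le_sub_of_add_le' g0) (Nat.le_sub_of_add_le' g1) (Nat.le_sub_of_add_le' g2)
    rw [List.reverse_cons, List.append_assoc]
    exact (congrArg (lf · _) (add_assoc s _ _)).symm.trans h3

/-- the loop over all coordinates -/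
noncomputable def run (p l : ℕ) (lf : ℕ → List ℕ → Bool) (hi g m0 m1 m2 : ℕ → ℕ) : Bool :=
  go (fun s acc => lf s acc.reverse) ((List.range l).map fun i => (hi i, g i, m0 i, m1 i, m2 i)) 0 p p p []

theorem run_spec {lf : ℕ → List ℕ → Bool} {hi g m0 m1 m2 : ℕ → ℕ} (h : run p l lf hi g m0 m1 m2 = true)
    (v : Fin l → ZMod p) (h1 : ∀ i : Fin l, (v i).val < hi i) (g0 : ∑ i : Fin l, m0 i * (v i).val ≤ p)
    (g1 : ∑ i : Fin l, m1 i * (v i).val ≤ p) (g2 : ∑ i : Fin l, m2 i * (v i).val ≤ p) :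
    lf (∑ i : Fin l, g i * (v i).val) (nl v) = true := by
  have e : ∀ f : ℕ → ℕ, dt ((List.range l).map f) (nl v) = ∑ i : Fin l, f i * (v i).val := fun f => by
    rw [dt_eq l _ _ (by simp)]
    simp only [getD_range, nl_getD]
  have h2 := go_spec (ys := nl v) (List.forall₂_iff_get.2 ⟨by simp [nl], fun i k1 k2 => by
    simpa [nl] using h1 ⟨i, by simpa [nl] using k2⟩⟩) _ _ _ _ _ h
  simp only [List.map_map, Function.comp_def, e, zero_add, List.append_nil, List.reverse_reverse] at h2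
  exact h2 g0 g1 g2

/-! ### the tests -/

/-- the values of the roots on two vectors -/
noncomputable def TT (p : ℕ) (P : List (ℕ × List ℕ)) (u y : List ℕ) : List (ℕ × ℕ × ℕ) :=
  P.map fun e => (e.1, Nat.mod (dt e.2 u) p, Nat.mod (dt e.2 y) p)

/-- the histogram of `y + t u` -/
noncomputable def hT (p : ℕ) (T : List (ℕ × ℕ × ℕ)) (t : ℕ) : ℕ :=
  List.rec 0 (fun e _ ih => Nat.add (Nat.shiftLeft 1 (Nat.mul 8 (Nat.add e.1
    (Nat.mod (Nat.mul (Nat.add e.2.2 (Nat.mul t e.2.1)) (Nat.add e.2.2 (Nat.mul t e.2.1))) p)))) ih) T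

theorem hT_eq (h : ∀ e ∈ P, e.2.length ≤ l) (u y : List ℕ) (t : ℕ) :
    hT p (TT p P u y) t = Hs P ((t : ZMod p) • cv p l u + cv p l y) := by
  induction P with
  | nil => rfl
  | cons e P ih =>
    have h1 := h e List.mem_cons_self
    show 1 <<< (8 * (e.1 + (dt e.2 y % p + t * (dt e.2 u % p)) * (dt e.2 y % p + t * (dt e.2 u % p)) % p)) +
      hT p (TT p P u y) t = 256 ^ (e.1 + (vl (fz l e.2) ((t : ZMod p) • cv p l u + cv p l y) ^ 2).val) + Hs P _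
    rw [ih fun e he => h e (List.mem_cons_of_mem _ he), Nat.shiftLeft_eq, one_mul, pow_mul, ← ZMod.val_natCast, vl_add,
      vl_smul, vl_cv h1, vl_cv h1]
    congr 4
    push_cast
    simp only [ZMod.natCast_mod]
    ring

/-- the histograms of the conjugates of `u` -/
noncomputable def HU (p : ℕ) (P : List (ℕ × List ℕ)) (alt : List ℕ → List (List ℕ)) (u : List ℕ) : List ℕ :=
  (alt u).flatMap fun w => (List.range' 1 (p - 1)).map fun c => hT p (TT p P w []) c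

/-- all points off the line of `u` have an admissible histogram -/
noncomputable def okH (p : ℕ) (P : List (ℕ × List ℕ)) (alt : List ℕ → List (List ℕ)) (u y : List ℕ) : Bool :=
  lp p fun t => (HU p P alt u).any fun h => Nat.beq h (hT p (TT p P u y) t)

/-- the tests of isotropy -/
noncomputable def pre (iso : Bool) (p : ℕ) (Gt : List (List ℕ)) (s : ℕ) (y : List ℕ) : Bool :=
  cond iso (cond (Nat.beq (Nat.mod s p) 0) (Nat.beq (Nat.mod (dt (gv Gt y) y) p) 0) false) true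

/-- the number of the roots which vanish on `v` -/
def Zn (P : List (ℕ × List ℕ)) (v : Fin l → ZMod p) : ℕ := P.countP fun e => decide (vl (fz l e.2) v = 0)

theorem Zn_wm {σ : ℕ → List ℕ → List ℕ} (h : Pm C l P σ) {W : Matrix (Fin l) (Fin l) ℤ} (hW : WM C l W)
    (v : Fin l → ZMod p) : Zn P (mv W v) = Zn P v := by
  refine WM.ind (P := fun W => Zn P (mv W v) = Zn P v) (by rw [mv_one]) (fun i W _ h1 => ?_) hW
  rw [mv_mul, ← h1, Zn, Zn, ← (h i).1.countP_eq fun e => decide (vl (fz l e.2) (mv W v) = 0), List.countP_map]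
  refine List.countP_congr fun e he => ?_
  rw [← vl_vecMul, Function.comp_apply, decide_eq_true_iff, decide_eq_true_iff]
  rcases (h i).2 e he with h2 | h2
  · rw [h2]
  · rw [h2, vl_neg, neg_eq_zero]

theorem Zn_sum [Fact p.Prime] (P : List (ℕ × List ℕ)) (u x : Fin l → ZMod p) :
    ∑ t : ZMod p, Zn P (t • u + x) + Zn P u =
      P.length + p * P.countP fun e => decide (vl (fz l e.2) x = 0) && decide (vl (fz l e.2) u = 0) := by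
  induction P with
  | nil => simp [Zn]
  | cons e P ih =>
    have key : (∑ t : ZMod p, if t * vl (fz l e.2) u + vl (fz l e.2) x = 0 then 1 else 0) +
        (if vl (fz l e.2) u = 0 then 1 else 0) =
        1 + p * if vl (fz l e.2) x = 0 ∧ vl (fz l e.2) u = 0 then 1 else 0 := by
      by_cases h1 : vl (fz l e.2) u = 0
      · by_cases h2 : vl (fz l e.2) x = 0 <;> simp [h1, h2, add_comm]
      · rw [Finset.sum_eq_single (-vl (fz l e.2) x / vl (fz l e.2) u) (fun t _ ht => if_neg fun k => ht (by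
          rw [eq_div_iff h1]
          exact eq_neg_of_add_eq_zero_left k)) (fun k => absurd (Finset.mem_univ _) k), div_mul_cancel₀ _ h1]
        simp [h1]
    simp only [Zn, List.countP_cons, Finset.sum_add_distrib, List.length_cons, vl_add, vl_smul, decide_eq_true_eq,
      Bool.and_eq_true, mul_add] at ih ⊢
    omega

theorem Zn_pure [Fact p.Prime] {σ : ℕ → List ℕ → List ℕ} (h : Pm C l P σ) {u x : Fin l → ZMod p}
    (H : PurePl C (AdmS p [1]) u x) : (p + 1) * Zn P u =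
      P.length + p * P.countP fun e => decide (vl (fz l e.2) x = 0) && decide (vl (fz l e.2) u = 0) := by
  rw [← Zn_sum, Finset.sum_congr rfl (g := fun _ => Zn P u), Finset.sum_const, Finset.card_univ, ZMod.card, smul_eq_mul,
    add_mul, one_mul]
  intro t _
  obtain ⟨W, _, h1, ⟨c, hc, B, hB, rfl⟩, h2⟩ := H.cj t 1 fun e => one_ne_zero (H.ind _ _ e).2
  rw [one_smul] at h2
  rw [h2, mv_mul, Zn_wm h h1, List.mem_singleton.1 hB, smul_mv, mv_one]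
  refine List.countP_congr fun e _ => ?_
  rw [decide_eq_true_iff, decide_eq_true_iff, vl_smul, mul_eq_zero,
    or_iff_right fun e => hc ((ZMod.intCast_zmod_eq_zero_iff_dvd c p).1 e)]

/-- a root vanishes -/
noncomputable def vz (p : ℕ) (u : List ℕ) (e : ℕ × List ℕ) : Bool := Nat.beq (Nat.mod (dt e.2 u) p) 0

theorem vz_eq {e : ℕ × List ℕ} (h : e.2.length ≤ l) (u : List ℕ) :
    vz p u e = decide (vl (fz l e.2) (cv p l u) = 0) := by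
  rw [vl_cv h, Bool.eq_iff_iff, decide_eq_true_iff, ZMod.natCast_eq_zero_iff, vz, Nat.beq_eq]
  exact (Nat.dvd_iff_mod_eq_zero ..).symm

/-- the count of the roots, for `u` alone -/
noncomputable def okU (iso : Bool) (p : ℕ) (P : List (ℕ × List ℕ)) (u : List ℕ) : Bool :=
  cond iso (Nat.beq ((P.filter (vz p u)).length % p) (P.length % p)) true

/-- the count of the roots -/
noncomputable def okZ (iso : Bool) (p : ℕ) (P : List (ℕ × List ℕ)) (u y : List ℕ) : Bool :=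
  cond iso (Nat.beq ((p + 1) * (P.filter (vz p u)).length) (P.length + p * (P.filter (vz p u)).countP (vz p y))) true

/-- membership in the span of a pair -/
def inSp (p l : ℕ) (s : List ℕ × List ℕ) (v : List ℤ) : Bool := (List.range p).any fun i => (List.range p).any fun j =>
  (List.range l).all fun k => (v.getD k 0 - (i * s.1.getD k 0 + j * s.2.getD k 0 : ℕ)) % p == 0

/-- the span of a pair -/
def sp2 (p l : ℕ) (s : List ℕ × List ℕ) : Submodule (ZMod p) (Fin l → ZMod p) :=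
  Submodule.span (ZMod p) {cv p l s.1, cv p l s.2}

theorem inSp_spec {s : List ℕ × List ℕ} {v : Fin l → ℤ} (h : inSp p l s (List.ofFn v) = true) : cz p v ∈ sp2 p l s := by
  obtain ⟨i, -, h⟩ := List.any_eq_true.1 h
  obtain ⟨j, -, h⟩ := List.any_eq_true.1 h
  refine Submodule.mem_span_pair.2 ⟨i, j, funext fun k => ?_⟩
  have h1 := (ZMod.intCast_zmod_eq_zero_iff_dvd _ p).2
    (Int.dvd_of_emod_eq_zero (beq_iff_eq.1 (List.all_eq_true.1 h k (List.mem_range.2 k.2))))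
  rw [getD_ofFn] at h1
  push_cast at h1
  exact (sub_eq_zero.1 h1).symm

theorem finrank_pair [Fact p.Prime] (a b : Fin l → ZMod p) :
    Module.finrank (ZMod p) (Submodule.span (ZMod p) {a, b}) ≤ 2 := by
  classical
  refine (finrank_span_le_card _).trans ?_
  rw [Set.toFinset_insert, Set.toFinset_singleton]
  exact Finset.card_le_two

/-- the data of a search -/
structure Job (l : ℕ) where
  p : ℕ
  iso : Bool
  A : List (List ℤ)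
  Gt : List (List ℕ)
  P : List (ℕ × List ℕ)
  alt : List ℕ → List (List ℕ)
  std : List (List ℕ × List ℕ)
  th : List ℕ
  j1 : Fin l
  j2 : Fin l

/-- a certificate for a vector in the alcove -/
abbrev Ent (l : ℕ) : Type := List ℕ × Fin l × List (List ℕ) × List (List ℕ × List (Fin l))

namespace Job

variable (J : Job l)

/-- the first search -/
noncomputable def chk1 (K : List (List ℕ)) : Bool := J.P.any (fun e => e.2 == J.th) &&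
  run J.p l (fun _ y => y.all (· == 0) || (!pre J.iso J.p J.Gt 0 y || (!okU J.iso J.p J.P y || K.any (· == y)))) (fun _ => J.p) (fun _ => 0)
    (fun i => J.th.getD i 0) (fun _ => 0) fun _ => 0

/-- the words for the survivors -/
def fnl (fin : List (List ℕ × List (Fin l))) (u y : List ℕ) : Bool := fin.any fun e => e.1 == y && J.std.any fun s =>
  inSp J.p l s (app J.A e.2 (List.ofFn (fz l u))) && inSp J.p l s (app J.A e.2 (List.ofFn (fz l y)))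

/-- the second search -/
noncomputable def chk2 (e : Ent l) : Bool := !(e.1.getD e.2.1 0 % J.p == 0) &&
  ((e.2.2.1.all fun θ => J.P.any (fun a => a.2 == θ) &&
    (List.range l).all fun i => θ.getD i 0 == 0 || e.1.getD i 0 % J.p == 0) &&
  run J.p l (fun s y => cond (pre J.iso J.p J.Gt s y) (cond (okZ J.iso J.p J.P e.1 y)
      (cond (okH J.p J.P J.alt e.1 y) (J.fnl e.2.2.2 e.1 y) true) true) true)
    (fun i => cond (Nat.beq i e.2.1) 1 J.p) (fun i => (gv J.Gt e.1).getD i 0) (fun i => (e.2.2.1.getD 0 []).getD i 0)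
    (fun i => (e.2.2.1.getD 1 []).getD i 0) fun i => (e.2.2.1.getD 2 []).getD i 0)

/-- the third search -/
noncomputable def chk3 (s : List ℕ × List ℕ) : Bool :=
  run J.p l (fun r y => cond (cond J.iso (cond (Nat.beq (Nat.mod r J.p) 0) (pre true J.p J.Gt (dt (gv J.Gt s.2) y) y) false) true)
      (!lp J.p fun t => okH J.p J.P J.alt s.1 ((List.range l).map fun k => y.getD k 0 + t * s.2.getD k 0)) true)
    (fun i => cond (Nat.beq i J.j1 || Nat.beq i J.j2) 1 J.p) (fun i => (gv J.Gt s.1).getD i 0) (fun _ => 0) (fun _ => 0)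
    fun _ => 0

/-- the assumptions -/
structure Ok (C : ChevalleyDatum) (L : List (Matrix (Fin l) (Fin l) ℤ)) : Prop where
  ty : Ty C l J.A J.Gt J.P
  nm : Nm C L
  alt : ∀ B ∈ L, ∀ u, ∃ w ∈ J.alt u, cv J.p l w = mv B (cv J.p l u)
  iso : J.iso = true → L = [1] ∧ (2 : ZMod J.p) ≠ 0 ∧ ∀ b c : ZMod J.p, ∃ i, ∀ s, s ≠ 0 → i ^ 2 + b * i + c ≠ s ^ 2

variable {J} {L : List (Matrix (Fin l) (Fin l) ℤ)} [Fact J.p.Prime] (O : J.Ok C L)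
include O

theorem Ok.okH {u y : List ℕ} (H : PurePl C (AdmS J.p L) (cv J.p l u) (cv J.p l y)) : okH J.p J.P J.alt u y = true := by
  refine lp_iff.2 fun t _ => ?_
  obtain ⟨W, _, h1, ⟨c, hc, B, hB, rfl⟩, h2⟩ := H.cj t 1 fun e => one_ne_zero (H.ind _ _ e).2
  obtain ⟨w, hw, h3⟩ := O.alt B hB u
  have h4 : (c : ZMod J.p) ≠ 0 := fun e => hc ((ZMod.intCast_zmod_eq_zero_iff_dvd c J.p).1 e)
  have h5 := ZMod.val_lt (c : ZMod J.p)
  have h6 := (ZMod.val_ne_zero _).2 h4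
  refine List.any_eq_true.2 ⟨_, List.mem_flatMap.2 ⟨w, hw, List.mem_map_of_mem (a := (c : ZMod J.p).val)
    (List.mem_range'_1.2 ⟨by omega, by omega⟩)⟩, Nat.beq_eq.mpr ?_⟩
  rw [one_smul] at h2
  rw [hT_eq O.ty.len, hT_eq O.ty.len, h2, mv_mul, Hs_wm O.ty.pm h1, smul_mv, h3, ZMod.natCast_zmod_val,
    show cv J.p l [] = 0 from funext fun _ => Nat.cast_zero, add_zero]

theorem Ok.pre {u x : Fin l → ZMod J.p} (H : PurePl C (AdmS J.p L) u x) {s : ℕ} {y : List ℕ}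
    (hs : (s : ZMod J.p) = 0 ∨ (s : ZMod J.p) = qf (gm l J.Gt) x u) (hy : cv J.p l y = u ∨ cv J.p l y = x) :
    pre J.iso J.p J.Gt s y = true := by
  cases e : J.iso
  · rfl
  · obtain ⟨rfl, h1, h2⟩ := O.iso e
    obtain ⟨h3, h4, h5⟩ := Pl.iso O.ty.fm h1 h2 H
    have h6 : ∀ n : ℕ, (n : ZMod J.p) = 0 → Nat.beq (Nat.mod n J.p) 0 = true := fun n h =>
      Nat.beq_eq.mpr (Nat.mod_eq_zero_of_dvd ((ZMod.natCast_eq_zero_iff n J.p).1 h))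
    rw [Pl.pre, h6 s (hs.elim id fun h => h.trans ((qf_comm O.ty.fm _ _).trans h4)), h6]
    · rfl
    · rw [← O.ty.qf_cv]
      rcases hy with h | h <;> rwa [h]

theorem Ok.len (u : List ℕ) : (J.P.filter (vz J.p u)).length = Zn J.P (cv J.p l u) :=
  List.countP_eq_length_filter.symm.trans (List.countP_congr fun e he => by rw [vz_eq (O.ty.len e he)])

theorem Ok.okU {u : List ℕ} {x : Fin l → ZMod J.p} (H : PurePl C (AdmS J.p L) (cv J.p l u) x) :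
    okU J.iso J.p J.P u = true := by
  cases e : J.iso
  · rfl
  · obtain ⟨rfl, -⟩ := O.iso e
    refine Nat.beq_eq.mpr ?_
    rw [O.len, ← Nat.add_mul_mod_self_left J.P.length, ← Zn_pure O.ty.pm H, add_mul, one_mul, add_comm,
      Nat.add_mul_mod_self_left]

theorem Ok.okZ {u y : List ℕ} (H : PurePl C (AdmS J.p L) (cv J.p l u) (cv J.p l y)) : okZ J.iso J.p J.P u y = true := by
  cases e : J.iso
  · rfl
  · obtain ⟨rfl, -⟩ := O.iso e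
    refine Nat.beq_eq.mpr ?_
    rw [O.len, Zn_pure O.ty.pm H, List.countP_filter]
    congr 2
    exact List.countP_congr fun e he => by rw [vz_eq (O.ty.len e he), vz_eq (O.ty.len e he)]

theorem Ok.sum_gv (u : List ℕ) (v : Fin l → ZMod J.p) :
    ((∑ i : Fin l, (gv J.Gt u).getD i 0 * (v i).val : ℕ) : ZMod J.p) = qf (gm l J.Gt) v (cv J.p l u) := by
  rw [qf, ← O.ty.cv_gv, dotProduct_comm]
  simp only [dotProduct, cv, Nat.cast_sum, Nat.cast_mul, ZMod.natCast_zmod_val]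

theorem Ok.two {e : Ent l} (h : J.chk2 e = true) {x : Fin l → ZMod J.p} (H : PurePl C (AdmS J.p L) (cv J.p l e.1) x) :
    ∃ s ∈ J.std, ∃ W, WM C l W ∧ mv W (cv J.p l e.1) ∈ sp2 J.p l s ∧ mv W x ∈ sp2 J.p l s := by
  rw [chk2, Bool.and_eq_true, Bool.and_eq_true, Bool.not_eq_true', beq_eq_false_iff_ne, List.all_eq_true] at h
  obtain ⟨h1, h2, h3⟩ := h
  have h4 : cv J.p l e.1 e.2.1 ≠ 0 := fun k => h1 (Nat.mod_eq_zero_of_dvd ((ZMod.natCast_eq_zero_iff _ _).1 k))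
  have h5 : ∀ θ ∈ e.2.2.1, ∀ i : Fin l, θ.getD i 0 ≠ 0 → cv J.p l e.1 i = 0 := fun θ hθ i hi => by
    have k := List.all_eq_true.1 (Bool.and_eq_true_iff.1 (h2 θ hθ)).2 i (List.mem_range.2 i.2)
    rw [Bool.or_eq_true, beq_iff_eq, beq_iff_eq] at k
    exact (ZMod.natCast_eq_zero_iff _ _).2 (Nat.dvd_of_mod_eq_zero (k.resolve_left hi))
  obtain ⟨W, g1, g2, g3⟩ := alc O.ty.fm (cv J.p l e.1) x (e.2.2.1.map fun θ i => θ.getD i 0) fun θ' hθ' => by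
    obtain ⟨θ, hθ, rfl⟩ := List.mem_map.1 hθ'
    obtain ⟨a, ha, k⟩ := List.any_eq_true.1 (Bool.and_eq_true_iff.1 (h2 θ hθ)).1
    obtain rfl := beq_iff_eq.1 k
    exact ⟨O.ty.rf a ha, O.ty.ht a ha, h5 _ hθ⟩
  obtain ⟨t, ht⟩ : ∃ t, t = -(mv W x e.2.1) / cv J.p l e.1 e.2.1 := ⟨_, rfl⟩
  obtain ⟨y, hy⟩ : ∃ y, y = mv W x + t • cv J.p l e.1 := ⟨_, rfl⟩
  have H1 : PurePl C (AdmS J.p L) (cv J.p l e.1) y := by
    have k := PurePl.mv O.ty.fm.two O.nm H g1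
    rw [g2] at k
    exact hy ▸ PurePl.add k t
  have g4 : ∀ c : ℕ, ∑ i : Fin l, (e.2.2.1.getD c []).getD i 0 * (y i).val ≤ J.p := fun c => by
    rw [List.getD_eq_getElem?_getD]
    cases k : e.2.2.1[c]? with
    | none => simp only [_root_.Option.getD_none, _root_.List.getD_eq_getElem?_getD, _root_.List.length_nil, _root_.not_lt_zero, _root_.not_false_eq_true, _root_.getElem?_neg, _root_.MulZeroClass.zero_mul, _root_.Finset.sum_const_zero, _root_.zero_le]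
    | some θ =>
      have hθ := List.mem_of_getElem? k
      refine le_of_eq_of_le (Finset.sum_congr rfl fun i _ => ?_) (g3 _ (List.mem_map_of_mem hθ))
      by_cases hi : θ.getD i 0 = 0
      · exact (congrArg (· * _) hi).trans ((zero_mul _).trans ((zero_mul _).symm.trans (congrArg (· * _) hi).symm))
      · rw [hy, Pi.add_apply, Pi.smul_apply, h5 θ hθ i hi, smul_zero, add_zero]
        rfl
  have g5 := run_spec h3 y (fun i => by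
    cases k : Nat.beq i e.2.1
    · exact ZMod.val_lt _
    · rw [Fin.ext (Nat.eq_of_beq_eq_true k), hy, Pi.add_apply, Pi.smul_apply, ht, smul_eq_mul, div_mul_cancel₀ _ h4,
        add_neg_cancel, ZMod.val_zero]
      exact Nat.one_pos) (g4 0) (g4 1) (g4 2)
  rw [O.pre H1 (Or.inr (O.sum_gv _ _)) (Or.inr (cv_nl y)), O.okZ (by rwa [cv_nl]), O.okH (by rwa [cv_nl]), cond_true,
    cond_true, cond_true] at g5
  obtain ⟨f, -, g6⟩ := List.any_eq_true.1 g5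
  obtain ⟨s, hs, g7⟩ := List.any_eq_true.1 (Bool.and_eq_true_iff.1 g6).2
  rw [Bool.and_eq_true, app_ofFn O.ty.rows, app_ofFn O.ty.rows] at g7
  have g8 := inSp_spec g7.1
  have g9 := inSp_spec g7.2
  rw [← mv_cz, cz_fz] at g8 g9
  refine ⟨s, hs, (f.2.map (sM C l)).prod * W, WM.mul ⟨_, rfl⟩ g1, by rwa [mv_mul, g2], ?_⟩
  rw [cv_nl, hy, mv_add, mv_smul] at g9
  rw [mv_mul]
  exact (Submodule.add_mem_iff_left _ (Submodule.smul_mem _ _ g8)).1 g9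

/-- **the pure planes** -/
theorem Ok.plane {CT : List (Ent l)} (h1 : J.chk1 (CT.map Prod.fst) = true) (h2 : ∀ e ∈ CT, J.chk2 e = true)
    {u x : Fin l → ZMod J.p} (H : PurePl C (AdmS J.p L) u x) :
    ∃ s ∈ J.std, ∃ W, WM C l W ∧ Submodule.span (ZMod J.p) {mv W u, mv W x} = sp2 J.p l s := by
  rw [chk1, Bool.and_eq_true] at h1
  obtain ⟨a, ha, k⟩ := List.any_eq_true.1 h1.1
  obtain ⟨W, g1, -, g3⟩ := alc O.ty.fm 0 u [fun i => J.th.getD i 0] fun θ hθ => by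
    rw [List.mem_singleton.1 hθ, ← beq_iff_eq.1 k]
    exact ⟨O.ty.rf a ha, O.ty.ht a ha, fun _ _ => rfl⟩
  have H1 := PurePl.mv O.ty.fm.two O.nm H g1
  have g4 := run_spec h1.2 (mv W u) (fun _ => ZMod.val_lt _) (g3 _ (List.mem_singleton_self _)) (by simp only [_root_.MulZeroClass.zero_mul, _root_.Finset.sum_const_zero, _root_.zero_le]) (by simp only [_root_.MulZeroClass.zero_mul, _root_.Finset.sum_const_zero, _root_.zero_le])
  rw [O.pre H1 (Or.inl Nat.cast_zero) (Or.inl (cv_nl _)), O.okU (by rwa [cv_nl]), Bool.not_true, Bool.false_or,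
    Bool.false_or, Bool.or_eq_true] at g4
  rcases g4 with g4 | g4
  · refine absurd (H1.ind 1 0 ?_).1 one_ne_zero
    rw [one_smul, zero_smul, add_zero]
    funext i
    exact (ZMod.val_eq_zero _).1 (beq_iff_eq.1 (List.all_eq_true.1 g4 _ (List.mem_ofFn.2 ⟨i, rfl⟩)))
  · obtain ⟨_, g5, g6⟩ := List.any_eq_true.1 g4
    obtain ⟨e, he, rfl⟩ := List.mem_map.1 g5
    have g7 : cv J.p l e.1 = mv W u := by rw [beq_iff_eq.1 g6, cv_nl]
    obtain ⟨s, hs, W', k1, k2, k3⟩ := O.two (h2 e he) (g7 ▸ H1)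
    have H2 := PurePl.mv O.ty.fm.two O.nm H1 k1
    rw [g7] at k2
    refine ⟨s, hs, W' * W, k1.mul g1, ?_⟩
    rw [mv_mul, mv_mul]
    refine Submodule.eq_of_le_of_finrank_le (Submodule.span_le.2 (Set.pair_subset k2 k3)) ?_
    have k4 := finrank_span_eq_card (LinearIndependent.pair_iff.2 H2.ind)
    rw [Matrix.range_cons, Matrix.range_cons, Matrix.range_empty, Set.union_empty, Set.singleton_union] at k4
    rw [k4]
    exact finrank_pair _ _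

/-- **the rank** -/
theorem Ok.rank {CT : List (Ent l)} (h1 : J.chk1 (CT.map Prod.fst) = true) (h2 : ∀ e ∈ CT, J.chk2 e = true)
    (h3 : ∀ s ∈ J.std, cv J.p l s.1 J.j1 * cv J.p l s.2 J.j2 - cv J.p l s.1 J.j2 * cv J.p l s.2 J.j1 ≠ 0)
    (h4 : ∀ s ∈ J.std, J.chk3 s = true) {B : Submodule (ZMod J.p) (Fin l → ZMod J.p)} (H : PureSp C (AdmS J.p L) B) :
    Module.finrank (ZMod J.p) B ≤ 2 := by
  by_contra hB
  obtain ⟨u, hu⟩ := (Module.finrank_pos_iff_exists_ne_zero (R := ZMod J.p) (M := B)).1 (by omega)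
  obtain ⟨x, hx⟩ := exists_linearIndependent_pair_of_one_lt_finrank (R := ZMod J.p) (by omega) hu
  obtain ⟨s, hs, W, g1, g2⟩ := O.plane h1 h2 (H.pl u.2 x.2 fun i j e =>
    LinearIndependent.pair_iff.1 hx i j (Subtype.ext e))
  obtain ⟨W', -, g3, -⟩ := WM.inv O.ty.fm.two g1
  obtain ⟨B', hB'⟩ : ∃ B', B' = B.map (W.map (Int.cast : ℤ → ZMod J.p)).mulVecLin := ⟨_, rfl⟩
  have hm : ∀ v, v ∈ B' ↔ ∃ z ∈ B, mv W z = v := fun v => hB' ▸ Submodule.mem_map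
  have H' : PureSp C (AdmS J.p L) B' := fun a' ha' b' hb' k1 k2 => by
    obtain ⟨a, ha, rfl⟩ := (hm a').1 ha'
    obtain ⟨b, hb, rfl⟩ := (hm b').1 hb'
    exact Cj.mv O.ty.fm.two O.nm (H a ha b hb (fun e => k1 (by rw [e, mv_zero])) fun e => k2 (by rw [e, mv_zero])) g1
  have g4 : sp2 J.p l s ≤ B' := g2 ▸ Submodule.span_le.2 (Set.pair_subset ((hm _).2 ⟨_, u.2, rfl⟩) ((hm _).2 ⟨_, x.2, rfl⟩))
  have g5 : ¬ B' ≤ sp2 J.p l s := fun k => by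
    have k1 : B ≤ Submodule.span (ZMod J.p) {u.1, x.1} := fun z hz => by
      obtain ⟨i, j, k2⟩ := Submodule.mem_span_pair.1 (g2.ge (k ((hm _).2 ⟨z, hz, rfl⟩)))
      refine Submodule.mem_span_pair.2 ⟨i, j, ?_⟩
      rw [← mv_one z, ← g3, mv_mul, ← k2, ← mv_smul, ← mv_smul, ← mv_add, ← mv_mul, g3, mv_one]
    exact hB ((Submodule.finrank_mono k1).trans (finrank_pair _ _))
  obtain ⟨z, hz, g6⟩ := SetLike.not_le_iff_exists.1 g5
  have d := h3 s hs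
  obtain ⟨a, ha⟩ : ∃ a, a = cv J.p l s.1 := ⟨_, rfl⟩
  obtain ⟨b, hb⟩ : ∃ b, b = cv J.p l s.2 := ⟨_, rfl⟩
  have m1 : a ∈ sp2 J.p l s := ha ▸ Submodule.subset_span (Set.mem_insert _ _)
  have m2 : b ∈ sp2 J.p l s := hb ▸ Submodule.subset_span (Set.mem_insert_of_mem _ rfl)
  rw [← ha, ← hb] at d
  obtain ⟨y, hy⟩ : ∃ y, y = z + (((z J.j2 * b J.j1 - z J.j1 * b J.j2) / (a J.j1 * b J.j2 - a J.j2 * b J.j1)) • a +
    ((z J.j1 * a J.j2 - z J.j2 * a J.j1) / (a J.j1 * b J.j2 - a J.j2 * b J.j1)) • b) := ⟨_, rfl⟩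
  have m3 := add_mem (Submodule.smul_mem _ ((z J.j2 * b J.j1 - z J.j1 * b J.j2) / (a J.j1 * b J.j2 - a J.j2 * b J.j1)) m1)
    (Submodule.smul_mem _ ((z J.j1 * a J.j2 - z J.j2 * a J.j1) / (a J.j1 * b J.j2 - a J.j2 * b J.j1)) m2)
  have y1 : y ∈ B' := hy ▸ add_mem hz (g4 m3)
  have y2 : y ∉ sp2 J.p l s := fun k => g6 ((Submodule.add_mem_iff_left _ m3).1 (hy ▸ k))
  have pl : ∀ c ∈ sp2 J.p l s, c ≠ 0 → ∀ w ∈ sp2 J.p l s, PurePl C (AdmS J.p L) c (y + w) := fun c hc hc0 w hw =>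
    H'.pl (g4 hc) (add_mem y1 (g4 hw)) fun i j e => by
      obtain rfl : j = 0 := by
        by_contra hj
        refine y2 ((Submodule.add_mem_iff_left _ hw).1 ((Submodule.smul_mem_iff _ hj).1 ?_))
        rw [eq_neg_of_add_eq_zero_right e]
        exact neg_mem (Submodule.smul_mem _ _ hc)
      rw [zero_smul, add_zero] at e
      exact ⟨(smul_eq_zero.1 e).resolve_right hc0, rfl⟩
  have a0 : a ≠ 0 := fun k => d (by rw [k]; simp)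
  have b0 : b ≠ 0 := fun k => d (by rw [k]; simp)
  have g7 := run_spec (h4 s hs) y (fun i => by
    cases k : (Nat.beq i J.j1 || Nat.beq i J.j2)
    · exact ZMod.val_lt _
    · have k1 : y i = 0 := by
        rw [Bool.or_eq_true] at k
        rcases k with k | k <;> rw [Fin.ext (Nat.eq_of_beq_eq_true k), hy] <;>
          simp only [Pi.add_apply, Pi.smul_apply, smul_eq_mul]
        · linear_combination (-z J.j1) * mul_inv_cancel₀ d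
        · linear_combination (-z J.j2) * mul_inv_cancel₀ d
      rw [k1, ZMod.val_zero]
      exact Nat.one_pos) (by simp only [_root_.MulZeroClass.zero_mul, _root_.Finset.sum_const_zero, _root_.zero_le]) (by simp only [_root_.MulZeroClass.zero_mul, _root_.Finset.sum_const_zero, _root_.zero_le]) (by simp only [_root_.MulZeroClass.zero_mul, _root_.Finset.sum_const_zero, _root_.zero_le])
  have p1 := pl a m1 a0 0 (zero_mem _)
  have p2 := pl b m2 b0 0 (zero_mem _)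
  rw [add_zero] at p1 p2
  have g8 := O.pre p1 (Or.inr ((O.sum_gv s.1 y).trans (by rw [ha]))) (Or.inr (cv_nl y))
  have g9 := O.pre p2 (s := dt (gv J.Gt s.2) (nl y)) (Or.inr (by rw [← O.ty.qf_cv, cv_nl, hb])) (Or.inr (cv_nl y))
  rw [lp_iff.2 fun t _ => O.okH (by
    rw [← ha, show cv J.p l ((List.range l).map fun k => (nl y).getD k 0 + t * s.2.getD k 0) = y + (t : ZMod J.p) • b from
      funext fun i => by rw [cv, getD_range, nl_getD, Nat.cast_add, Nat.cast_mul, ZMod.natCast_zmod_val, hb]; rfl]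
    exact pl a m1 a0 _ (Submodule.smul_mem _ _ m2))] at g7
  cases e : J.iso
  · rw [e] at g7
    exact Bool.false_ne_true g7
  · rw [e] at g7 g8 g9
    rw [g9] at g7
    rw [Pl.pre] at g8
    cases k : Nat.beq (Nat.mod (∑ i : Fin l, (gv J.Gt s.1).getD i 0 * (y i).val) J.p) 0
    · rw [k] at g8
      exact Bool.false_ne_true g8
    · rw [k] at g7
      exact Bool.false_ne_true g7

end Job

/-! ### a faster loop -/

/-- reverse first -/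
noncomputable def fsRv (acc : List ℕ) (f : List ℕ → Bool) : List ℕ → Bool :=
  List.rec (fun r => f r) (fun a _ ih r => ih (a :: r)) acc

theorem fsRv_eq (acc : List ℕ) (f : List ℕ → Bool) : ∀ r, fsRv acc f r = f (acc.reverse ++ r) := by
  induction acc with
  | nil => exact fun _ => rfl
  | cons a acc ih => exact fun r => (ih (a :: r)).trans (by rw [List.reverse_cons, List.append_assoc]; rfl)

/-- the type of the loops -/
abbrev FsF : Type := ℕ → ℕ → ℕ → ℕ → ℕ → List ℕ → List ℕ → Bool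

/-- `c + v r` -/
noncomputable def fsUp (v : ℕ) (c : List ℕ) : List ℕ → List ℕ :=
  List.rec (fun _ => []) (fun a _ ih r => List.rec [] (fun b r _ => Nat.add a (Nat.mul v b) :: ih r) r) c

/-- a quadratic form in triangular shape -/
noncomputable def fsQ (y : List ℕ) : List (ℕ × List ℕ) → List ℕ → ℕ :=
  List.rec (fun _ _ => 0) (fun v _ ih R c => List.rec 0 (fun e R _ => List.rec 0 (fun c0 c _ =>
    v * (c0 + e.1 * v) + ih R (fsUp v c e.2)) c) R) y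

/-- one level -/
noncomputable def fsLv (p : ℕ) (z : Bool) (h g m0 m1 m2 d : ℕ) (r : List ℕ) (nx : FsF) : FsF := fun s b0 b1 b2 q c acc =>
  @List.rec ℕ (fun _ => Bool) false (fun c0 c _ =>
  @Nat.rec (fun _ => Bool) true (fun v ih =>
    @Bool.rec (fun _ => Bool) ih (@Bool.rec (fun _ => Bool) ih (@Bool.rec (fun _ => Bool) ih
      (@Bool.rec (fun _ => Bool) ih (@Bool.rec (fun _ => Bool) false ih
        (nx (Nat.add s (Nat.mul g v)) (Nat.sub b0 (Nat.mul m0 v)) (Nat.sub b1 (Nat.mul m1 v)) (Nat.sub b2 (Nat.mul m2 v))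
          (Nat.add q (Nat.mul v (Nat.add c0 (Nat.mul d v)))) (fsUp v c r) (v :: acc)))
        (Nat.ble (Nat.mul m2 v) b2)) (Nat.ble (Nat.mul m1 v) b1)) (Nat.ble (Nat.mul m0 v) b0))
      (@Bool.rec (fun _ => Bool) true (Nat.beq (Nat.mod (Nat.add s (Nat.mul g v)) p) 0) z)) h) c

theorem fsLv_spec {p : ℕ} {z : Bool} {h g m0 m1 m2 d : ℕ} {r : List ℕ} {nx : FsF} {s b0 b1 b2 q c0 : ℕ} {c acc : List ℕ}
    (H : fsLv p z h g m0 m1 m2 d r nx s b0 b1 b2 q (c0 :: c) acc = true) : ∀ v < h, (z = true → (s + g * v) % p = 0) →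
      Nat.ble (Nat.mul m0 v) b0 = true → Nat.ble (Nat.mul m1 v) b1 = true → Nat.ble (Nat.mul m2 v) b2 = true →
      nx (Nat.add s (Nat.mul g v)) (Nat.sub b0 (Nat.mul m0 v)) (Nat.sub b1 (Nat.mul m1 v)) (Nat.sub b2 (Nat.mul m2 v))
        (q + v * (c0 + d * v)) (fsUp v c r) (v :: acc) = true := by
  induction h with
  | zero => exact fun _ h => absurd h (Nat.not_lt_zero _)
  | succ k ih =>
    have key : ∀ (I X a0 a1 a2 a3 : Bool), @Bool.rec (fun _ => Bool) I (@Bool.rec (fun _ => Bool) I (@Bool.rec (fun _ => Bool) I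
        (@Bool.rec (fun _ => Bool) I (@Bool.rec (fun _ => Bool) false I X) a3) a2) a1) a0 = true →
        I = true ∧ (a0 = true → a1 = true → a2 = true → a3 = true → X = true) := by decide
    obtain ⟨h1, h2⟩ := key _ _ _ _ _ _ H
    intro v hv hz
    rcases Nat.lt_succ_iff_lt_or_eq.1 hv with hv | rfl
    · exact ih h1 v hv hz
    · refine h2 ?_
      cases z
      · rfl
      · exact Nat.beq_eq.mpr (hz rfl)

/-- the loops are built first -/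
noncomputable def fsSp (p : ℕ) (lf : ℕ → List ℕ → Bool) (sp : List (ℕ × ℕ × ℕ × ℕ × ℕ)) :
    List (ℕ × List ℕ) → (Bool → FsF → Bool) → Bool :=
  List.rec (fun _ f => f true fun s _ _ _ q _ acc =>
      @Bool.rec (fun _ => Bool) true (fsRv acc (lf s) []) (Nat.beq (Nat.mod q p) 0))
    (fun e _ ih R f => List.rec false (fun dr R _ => ih R fun z r => fsFc e.1 fun h => fsFc e.2.1 fun g =>
      fsFc e.2.2.1 fun m0 => fsFc e.2.2.2.1 fun m1 => fsFc e.2.2.2.2 fun m2 => Prod.rec (fun d rw =>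
        cond (cond z (Nat.beq (Nat.mod g p) 0) false) (f true (fsLv p z h g m0 m1 m2 d rw r))
          (f false (fsLv p z h g m0 m1 m2 d rw r))) dr) R) sp

theorem go_skip {lf : ℕ → List ℕ → Bool} (hs : ∀ s y, s % p ≠ 0 → lf s y = true) {sp : List (ℕ × ℕ × ℕ × ℕ × ℕ)}
    (h : ∀ e ∈ sp, e.2.1 % p = 0) : ∀ s b0 b1 b2 acc, s % p ≠ 0 → go lf sp s b0 b1 b2 acc = true := by
  induction sp with
  | nil => exact fun s _ _ _ acc h => hs s acc h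
  | cons e sp ih =>
    intro s b0 b1 b2 acc h1
    refine lp_iff.2 fun v _ => ?_
    cases Nat.ble (Nat.mul e.2.2.1 v) b0
    · rfl
    cases Nat.ble (Nat.mul e.2.2.2.1 v) b1
    · rfl
    cases Nat.ble (Nat.mul e.2.2.2.2 v) b2
    · rfl
    refine ih (fun e he => h e (List.mem_cons_of_mem _ he)) _ _ _ _ _ ?_
    show (s + e.2.1 * v) % p ≠ 0
    rwa [Nat.add_mod, Nat.mul_mod, h e List.mem_cons_self, zero_mul, Nat.zero_mod, add_zero, Nat.mod_mod]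

theorem fsSp_spec {lf lf2 : ℕ → List ℕ → Bool} (hs : ∀ s y, s % p ≠ 0 → lf s y = true)
    (h2 : ∀ s y, lf2 s y = true → lf s y = true) (sp : List (ℕ × ℕ × ℕ × ℕ × ℕ)) :
    ∀ R f, fsSp p lf2 sp R f = true → ∃ z F, f z F = true ∧ (z = true → ∀ e ∈ sp, e.2.1 % p = 0) ∧
      ∀ s b0 b1 b2 q c acc, F s b0 b1 b2 q c acc = true → (∀ ys : List ℕ, ys.length = sp.length →
        (q + fsQ ys R c) % p ≠ 0 → ∀ s', lf s' (acc.reverse ++ ys) = true) →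
        go (fun s acc => lf s acc.reverse) sp s b0 b1 b2 acc = true := by
  induction sp with
  | nil =>
    refine fun R f h => ⟨_, _, h, fun _ _ h => absurd h List.not_mem_nil, fun s _ _ _ q c acc k1 k2 => ?_⟩
    show lf s acc.reverse = true
    cases e : Nat.beq (Nat.mod q p) 0
    · simpa using k2 [] rfl (Nat.ne_of_beq_eq_false e) s
    · rw [e] at k1
      simpa using h2 _ _ ((fsRv_eq acc (lf2 s) []).symm.trans k1)
  | cons e sp ih =>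
    intro R f h
    cases R with
    | nil => exact absurd h Bool.false_ne_true
    | cons dr R =>
      obtain ⟨d, rw⟩ := dr
      obtain ⟨z, F, k1, k2, k3⟩ := ih R _ h
      simp only [fsFc_eq] at k1
      have k4 : ∀ s b0 b1 b2 q c acc, fsLv p z e.1 e.2.1 e.2.2.1 e.2.2.2.1 e.2.2.2.2 d rw F s b0 b1 b2 q c acc = true →
          (∀ ys : List ℕ, ys.length = (e :: sp).length → (q + fsQ ys ((d, rw) :: R) c) % p ≠ 0 →
            ∀ s', lf s' (acc.reverse ++ ys) = true) →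
          go (fun s acc => lf s acc.reverse) (e :: sp) s b0 b1 b2 acc = true := by
        intro s b0 b1 b2 q c acc g1 g2
        cases c with
        | nil => exact absurd g1 Bool.false_ne_true
        | cons c0 c =>
          refine lp_iff.2 fun v hv => ?_
          cases e0 : Nat.ble (Nat.mul e.2.2.1 v) b0
          · rfl
          cases e1 : Nat.ble (Nat.mul e.2.2.2.1 v) b1
          · rfl
          cases e2 : Nat.ble (Nat.mul e.2.2.2.2 v) b2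
          · rfl
          by_cases hz : z = true → (s + e.2.1 * v) % p = 0
          · refine k3 _ _ _ _ _ _ _ (fsLv_spec g1 v hv hz e0 e1 e2) fun ys g3 g4 s' => ?_
            rw [List.reverse_cons, List.append_assoc]
            exact g2 (v :: ys) (congrArg Nat.succ g3) (by rwa [add_assoc] at g4) s'
          · rw [Classical.not_imp] at hz
            exact go_skip (fun s y h => hs s _ h) (k2 hz.1) _ _ _ _ _ hz.2
      cases e1 : cond z (Nat.beq (Nat.mod e.2.1 p) 0) false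
      · rw [e1] at k1
        exact ⟨_, _, k1, fun h => absurd h Bool.false_ne_true, k4⟩
      · rw [e1] at k1
        refine ⟨_, _, k1, fun _ => ?_, k4⟩
        cases z
        · exact absurd e1 Bool.false_ne_true
        · exact List.forall_mem_cons.2 ⟨Nat.eq_of_beq_eq_true e1, k2 rfl⟩

/-- the faster form of `run` -/
noncomputable def fsRun (R : List (ℕ × List ℕ)) (p l : ℕ) (lf : ℕ → List ℕ → Bool) (hi g m0 m1 m2 : ℕ → ℕ) : Bool :=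
  fsSp p lf ((List.range l).map fun i => (hi i, g i, m0 i, m1 i, m2 i)) R fun _ F => F 0 p p p 0 (List.replicate l 0) []

theorem run_of_fs {R : List (ℕ × List ℕ)} {lf lf2 : ℕ → List ℕ → Bool} {hi g m0 m1 m2 : ℕ → ℕ}
    (hs : ∀ s y, s % p ≠ 0 → lf s y = true) (h2 : ∀ s y, lf2 s y = true → lf s y = true)
    (hq : ∀ s y, y.length = l → fsQ y R (List.replicate l 0) % p ≠ 0 → lf s y = true)
    (h : fsRun R p l lf2 hi g m0 m1 m2 = true) : run p l lf hi g m0 m1 m2 = true := by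
  obtain ⟨z, F, k1, -, k3⟩ := fsSp_spec hs h2 _ _ _ h
  exact k3 _ _ _ _ _ _ _ k1 fun ys g1 g2 s' => hq s' ys (by simpa using g1) (by rwa [zero_add] at g2)

/-- the triangular shape of a form -/
def FsOk (l : ℕ) (Gt : List (List ℕ)) (R : List (ℕ × List ℕ)) : Prop :=
  ∀ y : List ℕ, y.length = l → fsQ y R (List.replicate l 0) = dt (gv Gt y) y

theorem pre_false {Gt : List (List ℕ)} {s : ℕ} {y : List ℕ} (h : s % p ≠ 0 ∨ dt (gv Gt y) y % p ≠ 0) :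
    pre true p Gt s y = false := by
  show cond (Nat.beq (Nat.mod s p) 0) (Nat.beq (Nat.mod (dt (gv Gt y) y) p) 0) false = false
  cases e : Nat.beq (Nat.mod s p) 0
  · rfl
  · exact Bool.eq_false_iff.2 fun k => h.elim (fun h => h (Nat.eq_of_beq_eq_true e)) fun h => h (Nat.eq_of_beq_eq_true k)

namespace Job

variable (J : Job l)

/-- the second search, faster -/
noncomputable def chk2F (R : List (ℕ × List ℕ)) (e : Ent l) : Bool := !(e.1.getD e.2.1 0 % J.p == 0) &&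
  ((e.2.2.1.all fun θ => J.P.any (fun a => a.2 == θ) &&
    (List.range l).all fun i => θ.getD i 0 == 0 || e.1.getD i 0 % J.p == 0) &&
  fsRun R J.p l (fun _ y => cond (okZ J.iso J.p J.P e.1 y)
      (cond (okH J.p J.P J.alt e.1 y) (J.fnl e.2.2.2 e.1 y) true) true)
    (fun i => cond (Nat.beq i e.2.1) 1 J.p) (fun i => (gv J.Gt e.1).getD i 0) (fun i => (e.2.2.1.getD 0 []).getD i 0)
    (fun i => (e.2.2.1.getD 1 []).getD i 0) fun i => (e.2.2.1.getD 2 []).getD i 0)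

/-- the third search, faster -/
noncomputable def chk3F (R : List (ℕ × List ℕ)) (s : List ℕ × List ℕ) : Bool :=
  fsRun R J.p l (fun _ y => cond (Nat.beq (Nat.mod (dt (gv J.Gt s.2) y) J.p) 0)
      (!lp J.p fun t => okH J.p J.P J.alt s.1 ((List.range l).map fun k => y.getD k 0 + t * s.2.getD k 0)) true)
    (fun i => cond (Nat.beq i J.j1 || Nat.beq i J.j2) 1 J.p) (fun i => (gv J.Gt s.1).getD i 0) (fun _ => 0) (fun _ => 0)
    fun _ => 0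

variable {J} {R : List (ℕ × List ℕ)} (hi : J.iso = true) (hR : FsOk l J.Gt R)
include hi hR

theorem chk2_of {K : List (Ent l)} (h : K.all (J.chk2F R) = true) : K.all J.chk2 = true := by
  refine List.all_eq_true.2 fun e he => ?_
  have h1 := List.all_eq_true.1 h e he
  rw [chk2F, Bool.and_eq_true, Bool.and_eq_true] at h1
  rw [chk2, Bool.and_eq_true, Bool.and_eq_true]
  refine ⟨h1.1, h1.2.1, run_of_fs (fun s y h => ?_) (fun s y h => ?_) (fun s y h2 h => ?_) h1.2.2⟩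
  · rw [hi, pre_false (Or.inl h)]
    rfl
  · rw [h, Bool.cond_self]
  · rw [hi, pre_false (Or.inr (by rwa [← hR y h2]))]
    rfl

theorem chk3_of {K : List (List ℕ × List ℕ)} (h : K.all (J.chk3F R) = true) : K.all J.chk3 = true := by
  refine List.all_eq_true.2 fun e he => ?_
  refine run_of_fs (fun s y h => ?_) (fun s y h => ?_) (fun s y h2 h => ?_) (List.all_eq_true.1 h e he)
  · rw [show Nat.beq (Nat.mod s J.p) 0 = false from Bool.eq_false_iff.2 fun k => h (Nat.eq_of_beq_eq_true k), hi]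
    rfl
  · cases k : Nat.beq (Nat.mod (dt (gv J.Gt e.2) y) J.p) 0
    · rw [pre_false (Or.inl (Nat.ne_of_beq_eq_false k)), hi, Bool.cond_self]
      rfl
    · rw [k] at h
      rw [show (!lp J.p fun t => okH J.p J.P J.alt e.1 ((List.range l).map fun k => y.getD k 0 + t * e.2.getD k 0)) = true
        from h, Bool.cond_self]
  · rw [pre_false (Or.inr (by rwa [← hR y h2])), hi, Bool.cond_self]
    rfl

end Job

end Cfsg.Agent.TO.X.Pl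
end

-- part: TO/X/PlC
section
/-!
# S4817, exceptional groups: pure planes, the tables (helper61)
-/

set_option autoImplicit false
set_option maxRecDepth 100000
set_option maxHeartbeats 400000
set_option Elab.async false

namespace Cfsg.Agent.TO.X.Pl

open Cfsg Cfsg.Lie Matrix Cfsg.Agent.KZ.DatX Cfsg.Agent.TO.X

/-- the positive roots -/
def pF4 : List (ℕ × List ℕ) := [(0, [0, 0, 0, 1]), (0, [0, 0, 1, 0]), (0, [0, 0, 1, 1]), (8, [0, 1, 0, 0]), (8, [0, 1,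
  1, 0]), (8, [0, 1, 1, 1]), (0, [0, 2, 1, 0]), (0, [0, 2, 1, 1]), (0, [0, 2, 2, 1]), (8, [1, 0, 0, 0]), (8, [1, 1, 0,
  0]), (8, [1, 1, 1, 0]), (8, [1, 1, 1, 1]), (8, [1, 2, 1, 0]), (8, [1, 2, 1, 1]), (8, [1, 2, 2, 1]), (8, [1, 3, 2,
  1]), (0, [2, 2, 1, 0]), (0, [2, 2, 1, 1]), (0, [2, 2, 2, 1]), (8, [2, 3, 2, 1]), (0, [2, 4, 2, 1]), (0, [2, 4, 3,
  1]), (0, [2, 4, 3, 2])]

/-- the form -/
def gF4 : List (List ℕ) := [[4, 6, 4, 2], [6, 12, 8, 4], [4, 8, 6, 3], [2, 4, 3, 2]]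

theorem tyF4 : Ty chevF4 4 rowsF4 gF4 pF4 := ty_of 9 isRows_F4
  (by decide +kernel) (by decide +kernel) (by decide +kernel) (by decide +kernel) (by decide +kernel) (by decide +kernel)

/-- the positive roots -/
def pE6 : List (ℕ × List ℕ) := [(0, [0, 0, 0, 0, 0, 1]), (0, [0, 0, 0, 0, 1, 0]), (0, [0, 0, 0, 0, 1, 1]), (0, [0, 0,
  0, 1, 0, 0]), (0, [0, 0, 0, 1, 1, 0]), (0, [0, 0, 0, 1, 1, 1]), (0, [0, 0, 1, 0, 0, 0]), (0, [0, 0, 1, 1, 0, 0]),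
  (0, [0, 0, 1, 1, 1, 0]), (0, [0, 0, 1, 1, 1, 1]), (0, [0, 1, 0, 0, 0, 0]), (0, [0, 1, 0, 1, 0, 0]), (0, [0, 1, 0, 1,
  1, 0]), (0, [0, 1, 0, 1, 1, 1]), (0, [0, 1, 1, 1, 0, 0]), (0, [0, 1, 1, 1, 1, 0]), (0, [0, 1, 1, 1, 1, 1]), (0, [0,
  1, 1, 2, 1, 0]), (0, [0, 1, 1, 2, 1, 1]), (0, [0, 1, 1, 2, 2, 1]), (0, [1, 0, 0, 0, 0, 0]), (0, [1, 0, 1, 0, 0, 0]),
  (0, [1, 0, 1, 1, 0, 0]), (0, [1, 0, 1, 1, 1, 0]), (0, [1, 0, 1, 1, 1, 1]), (0, [1, 1, 1, 1, 0, 0]), (0, [1, 1, 1, 1,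
  1, 0]), (0, [1, 1, 1, 1, 1, 1]), (0, [1, 1, 1, 2, 1, 0]), (0, [1, 1, 1, 2, 1, 1]), (0, [1, 1, 1, 2, 2, 1]), (0, [1,
  1, 2, 2, 1, 0]), (0, [1, 1, 2, 2, 1, 1]), (0, [1, 1, 2, 2, 2, 1]), (0, [1, 1, 2, 3, 2, 1]), (0, [1, 2, 2, 3, 2, 1])]

/-- the form -/
def gE6 : List (List ℕ) := [[4, 3, 5, 6, 4, 2], [3, 6, 6, 9, 6, 3], [5, 6, 10, 12, 8, 4], [6, 9, 12, 18, 12, 6], [4,
  6, 8, 12, 10, 5], [2, 3, 4, 6, 5, 4]]

private noncomputable def _root_.Cfsg.Agent.KO534bb7b.k0 : type_of% @Decidable.decide := @(fun x0 x1 => @Decidable.rec.{1} _ @(fun x2 => @Bool) @(fun x2 => @Bool.false) @(fun x2 => @Bool.true) @x1)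
private theorem _root_.Cfsg.Agent.KO534bb7b.e0 : @Decidable.decide = @_root_.Cfsg.Agent.KO534bb7b.k0 := by delta _root_.Cfsg.Agent.KO534bb7b.k0; rfl'
private noncomputable def _root_.Cfsg.Agent.KO534bb7b.k1l (n : Nat) (P : ∀ k, k < n → Prop) (H : ∀ k h, Decidable (P k h)) (m : Nat) : m ≤ n → Bool := @Nat.rec (fun m => m ≤ n → Bool) (fun _ => true) (fun k ih h => @Decidable.rec (P k h) (fun _ => Bool) (fun _ => false) (fun _ => ih (Nat.le_of_succ_le h)) (H k h)) m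
private theorem _root_.Cfsg.Agent.KO534bb7b.k1ls (n : Nat) (P : ∀ k, k < n → Prop) (H : ∀ k h, Decidable (P k h)) (m : Nat) : ∀ h : m ≤ n, _root_.Cfsg.Agent.KO534bb7b.k1l n P H m h = true ↔ ∀ k (g : k < m), P k (Nat.lt_of_lt_of_le g h) := by induction m with | zero => exact fun _ => ⟨fun _ _ g => absurd g (Nat.not_lt_zero _), fun _ => rfl⟩ | succ m ih => intro h; show @Decidable.rec (P m h) (fun _ => Bool) (fun _ => false) (fun _ => _root_.Cfsg.Agent.KO534bb7b.k1l n P H m (Nat.le_of_succ_le h)) (H m h) = true ↔ _; cases H m h with | isFalse q => exact ⟨fun g => absurd g Bool.false_ne_true, fun g => absurd (g m (Nat.lt_succ_self m)) q⟩ | isTrue q => exact ⟨fun g k hk => (Nat.lt_succ_iff_lt_or_eq.1 hk).elim ((ih _).1 g k) fun e => by subst e; exact q, fun g => (ih _).2 fun k hk => g k (Nat.lt_succ_of_lt hk)⟩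
private noncomputable def _root_.Cfsg.Agent.KO534bb7b.k1 (n : Nat) (P : ∀ k, k < n → Prop) (H : ∀ k h, Decidable (P k h)) : Decidable (∀ k h, P k h) := @Bool.rec (fun b => _root_.Cfsg.Agent.KO534bb7b.k1l n P H n (Nat.le_refl n) = b → Decidable (∀ k h, P k h)) (fun g => isFalse fun q => Bool.false_ne_true (g.symm.trans ((_root_.Cfsg.Agent.KO534bb7b.k1ls n P H n _).2 fun k h => q k h))) (fun g => isTrue fun k h => (_root_.Cfsg.Agent.KO534bb7b.k1ls n P H n _).1 g k h) (_root_.Cfsg.Agent.KO534bb7b.k1l n P H n (Nat.le_refl n)) rfl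
private theorem _root_.Cfsg.Agent.KO534bb7b.e1 : @Nat.decidableBallLT = @_root_.Cfsg.Agent.KO534bb7b.k1 := funext fun _ => funext fun _ => funext fun _ => Subsingleton.elim _ _
private noncomputable def _root_.Cfsg.Agent.KO534bb7b.k2 : type_of% @Nat.decidableForallFin := @(fun x0 x1 x2 => @Decidable.rec.{1} _ @(fun x3 => @Decidable ((x4 : @Fin @x0) → @x1 @x4)) @(fun x3 => @Decidable.isFalse _ (@decidable_of_decidable_of_iff._proof_1 _ _ (@Nat.decidableForallFin._proof_1 _ @x1) @x3)) @(fun x3 => @Decidable.isTrue _ (@Iff.mp _ _ (@Nat.decidableForallFin._proof_1 _ @x1) @x3)) (@Cfsg.Agent.KO534bb7b.k1 @x0 @(fun x3 x4 => @x1 (@Fin.mk _ @x3 @x4)) @(fun x3 x4 => @x2 (@Fin.mk _ @x3 @x4))))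
private theorem _root_.Cfsg.Agent.KO534bb7b.e2 : @Nat.decidableForallFin = @_root_.Cfsg.Agent.KO534bb7b.k2 := by delta _root_.Cfsg.Agent.KO534bb7b.k2; rewrite [← Cfsg.Agent.KO534bb7b.e1]; rfl'
private noncomputable def _root_.Cfsg.Agent.KO534bb7b.k3 : type_of% @Bool.decEq := @(fun x0 x1 => @Bool.rec.{1} @(fun x2 => @Decidable (@Eq.{1} _ @x2 @x1)) (@Bool.rec.{1} @(fun x2 => @Decidable (@Eq.{1} _ @Bool.false @x2)) (@Decidable.isTrue _ (@rfl.{1} _ _)) (@Decidable.isFalse _ @(fun x2 => @Bool.noConfusion.{0} _ _ _ @x2)) @x1) (@Bool.rec.{1} @(fun x2 => @Decidable (@Eq.{1} _ @Bool.true @x2)) (@Decidable.isFalse _ @(fun x2 => @Bool.noConfusion.{0} _ _ _ @x2)) (@Decidable.isTrue _ (@rfl.{1} _ _)) @x1) @x0)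
private theorem _root_.Cfsg.Agent.KO534bb7b.e3 : @Bool.decEq = @_root_.Cfsg.Agent.KO534bb7b.k3 := by delta _root_.Cfsg.Agent.KO534bb7b.k3; rfl'
private theorem _root_.Cfsg.Agent.KO534bb7b.e4.{ku, kv} {α : Type kv} {M : List α → Sort ku} (φ : ∀ l, M l) {z : M List.nil} {s : ∀ a l, M l → M (List.cons a l)} (h0 : φ List.nil = z) (hs : ∀ a l, φ (List.cons a l) = s a l (φ l)) (l : List α) : φ l = @List.rec α M z s l := List.rec h0 (fun a l ih => (hs a l).trans (congrArg (s a l) ih)) l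
private noncomputable def _root_.Cfsg.Agent.KO534bb7b.k8.{ku0} : type_of% @List.decidablePerm.{ku0} := @(fun x0 x1 x2 x3 => @Decidable.rec.{1} _ @(fun x4 => @Decidable (@List.Perm.{ku0} _ @x2 @x3)) @(fun x4 => @Decidable.isFalse _ (@decidable_of_decidable_of_iff._proof_1 _ _ (@List.decidablePerm._proof_1.{ku0} _ _ @x2 @x3) @x4)) @(fun x4 => @Decidable.isTrue _ (@Iff.mp _ _ (@List.decidablePerm._proof_1.{ku0} _ _ @x2 @x3) @x4)) (@Cfsg.Agent.KO534bb7b.k3 (@List.isPerm.{ku0} _ (@BEq.mk.{ku0} _ @(fun x4 x5 => @Decidable.rec.{1} _ @(fun x6 => @Bool) @(fun x6 => @Bool.false) @(fun x6 => @Bool.true) (@x1 @x4 @x5))) @x2 @x3) @Bool.true))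
private theorem _root_.Cfsg.Agent.KO534bb7b.e8.{ku0} : @List.decidablePerm.{ku0} = @_root_.Cfsg.Agent.KO534bb7b.k8.{ku0} := by delta _root_.Cfsg.Agent.KO534bb7b.k8; rewrite [← Cfsg.Agent.KO534bb7b.e3]; rfl'
private noncomputable def _root_.Cfsg.Agent.KO534bb7b.k9.{ku0, ku1} : type_of% @instDecidableEqProd.{ku0, ku1} := @(fun x0 x1 x2 x3 x4 x5 => @Prod.rec.{1, ku0, ku1} @x0 @x1 @(fun x6 => @Decidable (@Eq.{(max (ku1+1) (ku0+1))} _ @x6 @x5)) @(fun x6 x7 => @Prod.rec.{1, ku0, ku1} @x0 @x1 @(fun x8 => @Decidable (@Eq.{(max (ku1+1) (ku0+1))} _ ((@x6, @x7)) @x8)) @(fun x8 x9 => @Decidable.rec.{1} _ @(fun x10 => @Decidable (@Eq.{(max (ku1+1) (ku0+1))} _ ((@x6, @x7)) ((@x8, @x9)))) @(fun x10 => @Decidable.isFalse _ (@instDecidableEqProd._proof_3.{ku1, ku0} _ _ @x6 @x7 @x8 @x9 @x10)) @(fun x10 => @Decidable.rec.{1} _ @(fun x11 => @Decidable (@Eq.{(max (ku1+1) (ku0+1))}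 _ ((@x6, @x7)) ((@x8, @x9)))) @(fun x11 => @Decidable.isFalse _ (@instDecidableEqProd._proof_2.{ku1, ku0} _ _ @x6 @x7 @x8 @x9 @x11)) @(fun x11 => @Decidable.isTrue _ (@instDecidableEqProd._proof_1.{ku1, ku0} _ _ @x6 @x7 @x8 @x9 @x10 @x11)) (@x3 @x7 @x9)) (@x2 @x6 @x8)) @x5) @x4)
private theorem _root_.Cfsg.Agent.KO534bb7b.e9.{ku0, ku1} : @instDecidableEqProd.{ku0, ku1} = @_root_.Cfsg.Agent.KO534bb7b.k9.{ku0, ku1} := by delta _root_.Cfsg.Agent.KO534bb7b.k9; rfl'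
private noncomputable def _root_.Cfsg.Agent.KO534bb7b.k10 : type_of% @Nat.decEq := @(fun x0 x1 => @Bool.rec.{1} @(fun x2 => (@Eq.{1} _ (@Nat.beq @x0 @x1) @x2) → @Decidable (@Eq.{1} _ @x0 @x1)) @(fun x2 => @Decidable.isFalse _ (@Nat.ne_of_beq_eq_false _ _ @x2)) @(fun x2 => @Decidable.isTrue _ (@Nat.eq_of_beq_eq_true _ _ @x2)) (@Nat.beq @x0 @x1) (@Eq.refl.{1} _ (@Nat.beq @x0 @x1)))
private theorem _root_.Cfsg.Agent.KO534bb7b.e10 : @Nat.decEq = @_root_.Cfsg.Agent.KO534bb7b.k10 := by delta _root_.Cfsg.Agent.KO534bb7b.k10; rfl'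
private noncomputable def _root_.Cfsg.Agent.KO534bb7b.k11 : type_of% @instDecidableEqNat := @Cfsg.Agent.KO534bb7b.k10
private theorem _root_.Cfsg.Agent.KO534bb7b.e11 : @instDecidableEqNat = @_root_.Cfsg.Agent.KO534bb7b.k11 := by delta _root_.Cfsg.Agent.KO534bb7b.k11; rewrite [← Cfsg.Agent.KO534bb7b.e10]; rfl'
private noncomputable def _root_.Cfsg.Agent.KO534bb7b.k13.{ku0} : type_of% @List.hasDecEq.{ku0} := @(fun x0 x1 x2 x3 => @List.rec.{(ku0+1), ku0} @x0 @(fun x4 => (x5 : @List.{ku0} @x0) → @Decidable (@Eq.{(ku0+1)} _ @x4 @x5)) @(fun x4 => @List.rec.{1, ku0} @x0 @(fun x5 => @Decidable (@Eq.{(ku0+1)} _ [] @x5)) (@Decidable.isTrue _ (@List.hasDecEq._proof_1.{ku0} _)) @(fun x5 x6 x7 => @Decidable.isFalse _ (@List.hasDecEq._proof_3.{ku0} _ @x5 @x6)) @x4) @(fun x4 x5 x6 x7 => @List.rec.{1, ku0} @x0 @(fun x8 => @Decidable (@Eq.{(ku0+1)} _ (@x4 :: @x5) @x8))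 (@Decidable.isFalse _ (@List.hasDecEq._proof_2.{ku0} _ @x4 @x5)) @(fun x8 x9 x10 => @Decidable.rec.{1} _ @(fun x11 => @Decidable (@Eq.{(ku0+1)} _ (@x4 :: @x5) (@x8 :: @x9))) @(fun x11 => @Decidable.isFalse _ (@List.hasDecEq._proof_6.{ku0} _ @x4 @x5 @x8 @x9 @x11)) @(fun x11 => @Decidable.rec.{1} _ @(fun x12 => @Decidable (@Eq.{(ku0+1)} _ (@x4 :: @x5) (@x8 :: @x9))) @(fun x12 => @Decidable.isFalse _ (@List.hasDecEq._proof_5.{ku0} _ @x4 @x5 @x8 @x9 @x12)) @(fun x12 => @Decidable.isTrue _ (@List.hasDecEq._proof_4.{ku0} _ @x4 @x5 @x8 @x9 @x11 @x12)) (@x6 @x9)) (@x1 @x4 @x8)) @x7) @x2 @x3)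
private theorem _root_.Cfsg.Agent.KO534bb7b.e13.{ku0} : @List.hasDecEq.{ku0} = @_root_.Cfsg.Agent.KO534bb7b.k13.{ku0} := by delta _root_.Cfsg.Agent.KO534bb7b.k13; funext a0 a1 a2 a3; refine (congrFun (_root_.Cfsg.Agent.KO534bb7b.e4 (fun a2 a3 => @List.hasDecEq.{ku0} a0 a1 a2 a3) ?_ (fun c0 c1 => ?_) a2) a3 :) <;> [(funext b0; (cases b0 with | @nil  => (rfl') | @cons b0_0 b0_1 => (rfl'))); (funext b0; (cases b0 with | @nil  => (rfl') | @cons b0_0 b0_1 => (rfl')))]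
private noncomputable def _root_.Cfsg.Agent.KO534bb7b.k14.{ku0} : type_of% @instDecidableEqList.{ku0} := @(fun x0 x1 x2 x3 => @List.rec.{1, ku0} @x0 @(fun x4 => @Decidable (@Eq.{(ku0+1)} _ @x4 @x3)) (@List.rec.{1, ku0} @x0 @(fun x4 => @Decidable (@Eq.{(ku0+1)} _ [] @x4)) (@Decidable.isTrue _ (@List.hasDecEq._proof_1.{ku0} _)) @(fun x4 x5 x6 => @Decidable.isFalse _ (@List.hasDecEq._proof_3.{ku0} _ @x4 @x5)) @x3) @(fun x4 x5 x6 => @List.rec.{1, ku0} @x0 @(fun x7 => @Decidable (@Eq.{(ku0+1)} _ (@x4 :: @x5) @x7)) (@Decidable.isFalse _ (@List.hasDecEq._proof_2.{ku0} _ @x4 @x5)) @(fun x7 x8 x9 => @Decidable.rec.{1} _ @(fun x10 => @Decidable (@Eq.{(ku0+1)} _ (@x4 :: @x5) (@x7 :: @x8))) @(fun x10 => @Decidable.isFalse _ (@List.hasDecEq._proof_6.{ku0} _ @x4 @x5 @x7 @x8 @x10)) @(fun x10 => @Decidable.rec.{1} _ @(fun x11 => @Decidable (@Eq.{(ku0+1)} _ (@x4 :: @x5)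 (@x7 :: @x8))) @(fun x11 => @Decidable.isFalse _ (@List.hasDecEq._proof_5.{ku0} _ @x4 @x5 @x7 @x8 @x11)) @(fun x11 => @Decidable.isTrue _ (@List.hasDecEq._proof_4.{ku0} _ @x4 @x5 @x7 @x8 @x10 @x11)) (@Cfsg.Agent.KO534bb7b.k13.{ku0} _ @x1 @x5 @x8)) (@x1 @x4 @x7)) @x3) @x2)
private theorem _root_.Cfsg.Agent.KO534bb7b.e14.{ku0} : @instDecidableEqList.{ku0} = @_root_.Cfsg.Agent.KO534bb7b.k14.{ku0} := by delta _root_.Cfsg.Agent.KO534bb7b.k14; rewrite [← Cfsg.Agent.KO534bb7b.e13.{ku0}]; rfl'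
private noncomputable def _root_.Cfsg.Agent.KO534bb7b.k15.{ku0, ku1} : type_of% @List.map.{ku0, ku1} := @(fun x0 x1 x2 x3 => @List.rec.{(ku1+1), ku0} @x0 @(fun x4 => @List.{ku1} @x1) [] @(fun x4 x5 x6 => (@x2 @x4) :: @x6) @x3)
private theorem _root_.Cfsg.Agent.KO534bb7b.e15.{ku0, ku1} : @List.map.{ku0, ku1} = @_root_.Cfsg.Agent.KO534bb7b.k15.{ku0, ku1} := by delta _root_.Cfsg.Agent.KO534bb7b.k15; funext a0 a1 a2 a3; refine (_root_.Cfsg.Agent.KO534bb7b.e4 (fun a3 => @List.map.{ku0, ku1} a0 a1 a2 a3) ?_ (fun c0 c1 => ?_) a3 :) <;> (rfl')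
private theorem _root_.Cfsg.Agent.KO534bb7b.e24.{ku} {M : Nat → Sort ku} (φ : ∀ n, M n) {z : M Nat.zero} {s : ∀ n, M n → M (Nat.succ n)} (h0 : φ Nat.zero = z) (hs : ∀ n, φ (Nat.succ n) = s n (φ n)) (n : Nat) : φ n = @Nat.rec M z s n := Nat.rec h0 (fun n ih => (hs n).trans (congrArg (s n) ih)) n
private noncomputable def _root_.Cfsg.Agent.KO534bb7b.k27 : type_of% @List.range.loop := @(fun x0 x1 => @Nat.rec.{1} @(fun x2 => (@List.{0} ℕ) → @List.{0} ℕ) @(fun x2 => @x2) @(fun x2 x3 x4 => @x3 (@x2 :: @x4)) @x0 @x1)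
private theorem _root_.Cfsg.Agent.KO534bb7b.e27 : @List.range.loop = @_root_.Cfsg.Agent.KO534bb7b.k27 := by delta _root_.Cfsg.Agent.KO534bb7b.k27; funext a0 a1; refine (congrFun (_root_.Cfsg.Agent.KO534bb7b.e24 (fun a0 a1 => @List.range.loop a0 a1) ?_ (fun c0 => ?_) a0) a1 :) <;> (rfl')
private noncomputable def _root_.Cfsg.Agent.KO534bb7b.k28 : (by first | exact type_of% @Cfsg.Agent.TO.X.Pl.sg | exact Unit : Sort _) := by first | (refine @Subtype.val _ (fun g => @Cfsg.Agent.TO.X.Pl.sg = @g) (@Subtype.mk _ _ (@(fun x0 x1 x2 x3 => @Cfsg.Agent.KO534bb7b.k15.{0, 0} _ _ @(fun x4 => @Int.rec.{1} @(fun x5 => ℕ) @(fun x5 => @x5) @(fun x5 => @Nat.succ @x5) (@Cfsg.Agent.TO.X.Pl.rz @x0 @x1 @x2 @x3 @x4)) (@Cfsg.Agent.KO534bb7b.k27 @x0 []))) ?_); rewrite [← Cfsg.Agent.KO534bb7b.e27, ← Cfsg.Agent.KO534bb7b.e15.{0, 0}]; (try delta Cfsg.Agent.TO.X.Pl.sg); (try generalize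 @Cfsg.Agent.TO.X.Pl.rz = g0); rfl') | exact @Cfsg.Agent.TO.X.Pl.sg | exact ()
private theorem _root_.Cfsg.Agent.KO534bb7b.e28 : (by first | exact @Cfsg.Agent.TO.X.Pl.sg = @_root_.Cfsg.Agent.KO534bb7b.k28 | exact True : Prop) := by first | (delta _root_.Cfsg.Agent.KO534bb7b.k28; exact @Subtype.property _ (fun g => @Cfsg.Agent.TO.X.Pl.sg = @g) _) | rfl | trivial
private noncomputable def _root_.Cfsg.Agent.KO534bb7b.k19.{ku0} : type_of% @List.get?Internal.{ku0} := @(fun x0 x1 x2 => @List.rec.{(ku0+1), ku0} @x0 @(fun x3 => ℕ → @Option.{ku0} @x0) @(fun x3 => @Option.none.{ku0} _) @(fun x3 x4 x5 x6 => @Nat.rec.{(ku0+1)} @(fun x7 => @Option.{ku0} @x0) (@Option.some.{ku0} _ @x3) @(fun x7 x8 => @x5 @x7) @x6) @x1 @x2)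
private theorem _root_.Cfsg.Agent.KO534bb7b.e19.{ku0} : @List.get?Internal.{ku0} = @_root_.Cfsg.Agent.KO534bb7b.k19.{ku0} := by delta _root_.Cfsg.Agent.KO534bb7b.k19; funext a0 a1 a2; refine (congrFun (_root_.Cfsg.Agent.KO534bb7b.e4 (fun a1 a2 => @List.get?Internal.{ku0} a0 a1 a2) ?_ (fun c0 c1 => ?_) a1) a2 :) <;> [(funext b0; (rfl')); (funext b0; (cases b0 with | @zero  => (rfl') | @succ b0_0 => (rfl')))]
private noncomputable def _root_.Cfsg.Agent.KO534bb7b.k29.{ku0} : type_of% @List.decidableBAll.{ku0} := @(fun x0 x1 x2 x3 => @List.rec.{1, ku0} @x0 @(fun x4 => @Decidable ((x5 : @x0) → (@Membership.mem.{ku0, ku0} _ _ _ @x4 @x5) → @x1 @x5)) (@Decidable.isTrue _ (@List.decidableBAll._proof_1.{ku0} _ @x1)) @(fun x4 x5 x6 => @Decidable.rec.{1} _ @(fun x7 => @Decidable ((x8 : @x0) → (@Membership.mem.{ku0, ku0} _ _ _ (@x4 :: @x5) @x8) → @x1 @x8)) @(fun x7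 => @Decidable.isFalse _ (@List.decidableBAll._proof_4.{ku0} _ @x1 @x4 @x5 @x7)) @(fun x7 => @Decidable.rec.{1} _ @(fun x8 => @Decidable ((x9 : @x0) → (@Membership.mem.{ku0, ku0} _ _ _ (@x4 :: @x5) @x9) → @x1 @x9)) @(fun x8 => @Decidable.isFalse _ (@List.decidableBAll._proof_3.{ku0} _ @x1 @x4 @x5 @x8)) @(fun x8 => @Decidable.isTrue _ (@List.decidableBAll._proof_2.{ku0} _ @x1 @x4 @x5 @x7 @x8)) @x6) (@x2 @x4)) @x3)
private theorem _root_.Cfsg.Agent.KO534bb7b.e29.{ku0} : @List.decidableBAll.{ku0} = @_root_.Cfsg.Agent.KO534bb7b.k29.{ku0} := by delta _root_.Cfsg.Agent.KO534bb7b.k29; funext a0 a1 a2 a3; refine (_root_.Cfsg.Agent.KO534bb7b.e4 (fun a3 => @List.decidableBAll.{ku0} a0 a1 a2 a3) ?_ (fun c0 c1 => ?_) a3 :) <;> (rfl')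
private noncomputable def _root_.Cfsg.Agent.KO534bb7b.k30 : type_of% @instDecidableOr := @(fun x0 x1 x2 x3 => @Decidable.rec.{1} _ @(fun x4 => @Decidable (@Or @x0 @x1)) @(fun x4 => @Decidable.rec.{1} _ @(fun x5 => @Decidable (@Or @x0 @x1)) @(fun x5 => @Decidable.isFalse _ (@instDecidableOr._proof_1 _ _ @x4 @x5)) @(fun x5 => @Decidable.isTrue _ (@Or.inr _ _ @x5)) @x3) @(fun x4 => @Decidable.isTrue _ (@Or.inl _ _ @x4)) @x2)
private theorem _root_.Cfsg.Agent.KO534bb7b.e30 : @instDecidableOr = @_root_.Cfsg.Agent.KO534bb7b.k30 := by delta _root_.Cfsg.Agent.KO534bb7b.k30; rfl'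
private noncomputable def _root_.Cfsg.Agent.KO534bb7b.k32 : type_of% @instDecidableEqFin := @(fun x0 x1 x2 => @Decidable.rec.{1} _ @(fun x3 => @Decidable (@Eq.{1} _ @x1 @x2)) @(fun x3 => @Decidable.isFalse _ (@instDecidableEqFin._proof_1 @x0 @x1 @x2 @x3)) @(fun x3 => @Decidable.isTrue _ (@Fin.eq_of_val_eq _ _ _ @x3)) (@Cfsg.Agent.KO534bb7b.k10 (@Fin.val _ @x1) (@Fin.val _ @x2)))
private theorem _root_.Cfsg.Agent.KO534bb7b.e32 : @instDecidableEqFin = @_root_.Cfsg.Agent.KO534bb7b.k32 := by delta _root_.Cfsg.Agent.KO534bb7b.k32; rewrite [← Cfsg.Agent.KO534bb7b.e10]; rfl'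
private noncomputable def _root_.Cfsg.Agent.KO534bb7b.k33.{ku0} : type_of% @List.getD.{ku0} := @(fun x0 x1 x2 x3 => @Option.rec.{(ku0+1), ku0} @x0 @(fun x4 => @x0) @x3 @(fun x4 => @x4) (@Cfsg.Agent.KO534bb7b.k19.{ku0} _ @x1 @x2))
private theorem _root_.Cfsg.Agent.KO534bb7b.e33.{ku0} : @List.getD.{ku0} = @_root_.Cfsg.Agent.KO534bb7b.k33.{ku0} := by delta _root_.Cfsg.Agent.KO534bb7b.k33; rewrite [← Cfsg.Agent.KO534bb7b.e19.{ku0}]; rfl'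

theorem tyE6 : Ty chevE6 6 rowsE6 gE6 pE6 := ty_of 4 isRows_E6
  (by (first | (refine of_decide_eq_true ?_; rewrite [Cfsg.Agent.KO534bb7b.e0, Cfsg.Agent.KO534bb7b.e2, Cfsg.Agent.KO534bb7b.e8.{0}, Cfsg.Agent.KO534bb7b.e9.{0, 0}, Cfsg.Agent.KO534bb7b.e11, Cfsg.Agent.KO534bb7b.e14.{0}, Cfsg.Agent.KO534bb7b.e15.{0, 0}, Cfsg.Agent.KO534bb7b.e28]; decide +kernel) | decide +kernel)) (by (first | (refine of_decide_eq_true ?_; rewrite [Cfsg.Agent.KO534bb7b.e0, Cfsg.Agent.KO534bb7b.e2, Cfsg.Agent.KO534bb7b.e29.{0}, Cfsg.Agent.KO534bb7b.e30, Cfsg.Agent.KO534bb7b.e32, Cfsg.Agent.KO534bb7b.e11, Cfsg.Agent.KO534bb7b.e33.{0}]; decide +kernel) | decide +kernel)) (by decide +kernel) (by decide +kernel) (by decide +kernel) (by decide +kernel)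

/-- the positive roots -/
def pE7 : List (ℕ × List ℕ) := [(0, [0, 0, 0, 0, 0, 0, 1]), (0, [0, 0, 0, 0, 0, 1, 0]), (0, [0, 0, 0, 0, 0, 1, 1]),
  (0, [0, 0, 0, 0, 1, 0, 0]), (0, [0, 0, 0, 0, 1, 1, 0]), (0, [0, 0, 0, 0, 1, 1, 1]), (0, [0, 0, 0, 1, 0, 0, 0]), (0,
  [0, 0, 0, 1, 1, 0, 0]), (0, [0, 0, 0, 1, 1, 1, 0]), (0, [0, 0, 0, 1, 1, 1, 1]), (0, [0, 0, 1, 0, 0, 0, 0]), (0, [0,
  0, 1, 1, 0, 0, 0]), (0, [0, 0, 1, 1, 1, 0, 0]), (0, [0, 0, 1, 1, 1, 1, 0]), (0, [0, 0, 1, 1, 1, 1, 1]), (0, [0, 1,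
  0, 0, 0, 0, 0]), (0, [0, 1, 0, 1, 0, 0, 0]), (0, [0, 1, 0, 1, 1, 0, 0]), (0, [0, 1, 0, 1, 1, 1, 0]), (0, [0, 1, 0,
  1, 1, 1, 1]), (0, [0, 1, 1, 1, 0, 0, 0]), (0, [0, 1, 1, 1, 1, 0, 0]), (0, [0, 1, 1, 1, 1, 1, 0]), (0, [0, 1, 1, 1,
  1, 1, 1]), (0, [0, 1, 1, 2, 1, 0, 0]), (0, [0, 1, 1, 2, 1, 1, 0]), (0, [0, 1, 1, 2, 1, 1, 1]), (0, [0, 1, 1, 2, 2,
  1, 0]), (0, [0, 1, 1, 2, 2, 1, 1]), (0, [0, 1, 1, 2, 2, 2, 1]), (0, [1, 0, 0, 0, 0, 0, 0]), (0, [1, 0, 1, 0, 0, 0,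
  0]), (0, [1, 0, 1, 1, 0, 0, 0]), (0, [1, 0, 1, 1, 1, 0, 0]), (0, [1, 0, 1, 1, 1, 1, 0]), (0, [1, 0, 1, 1, 1, 1, 1]),
  (0, [1, 1, 1, 1, 0, 0, 0]), (0, [1, 1, 1, 1, 1, 0, 0]), (0, [1, 1, 1, 1, 1, 1, 0]), (0, [1, 1, 1, 1, 1, 1, 1]), (0,
  [1, 1, 1, 2, 1, 0, 0]), (0, [1, 1, 1, 2, 1, 1, 0]), (0, [1, 1, 1, 2, 1, 1, 1]), (0, [1, 1, 1, 2, 2, 1, 0]), (0, [1,
  1, 1, 2, 2, 1, 1]), (0, [1, 1, 1, 2, 2, 2, 1]), (0, [1, 1, 2, 2, 1, 0, 0]), (0, [1, 1, 2, 2, 1, 1, 0]), (0, [1, 1,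
  2, 2, 1, 1, 1]), (0, [1, 1, 2, 2, 2, 1, 0]), (0, [1, 1, 2, 2, 2, 1, 1]), (0, [1, 1, 2, 2, 2, 2, 1]), (0, [1, 1, 2,
  3, 2, 1, 0]), (0, [1, 1, 2, 3, 2, 1, 1]), (0, [1, 1, 2, 3, 2, 2, 1]), (0, [1, 1, 2, 3, 3, 2, 1]), (0, [1, 2, 2, 3,
  2, 1, 0]), (0, [1, 2, 2, 3, 2, 1, 1]), (0, [1, 2, 2, 3, 2, 2, 1]), (0, [1, 2, 2, 3, 3, 2, 1]), (0, [1, 2, 2, 4, 3,
  2, 1]), (0, [1, 2, 3, 4, 3, 2, 1]), (0, [2, 2, 3, 4, 3, 2, 1])]

/-- the form -/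
def gE7 : List (List ℕ) := [[4, 4, 6, 8, 6, 4, 2], [4, 7, 8, 12, 9, 6, 3], [6, 8, 12, 16, 12, 8, 4], [8, 12, 16, 24,
  18, 12, 6], [6, 9, 12, 18, 15, 10, 5], [4, 6, 8, 12, 10, 8, 4], [2, 3, 4, 6, 5, 4, 3]]

private noncomputable def _root_.Cfsg.Agent.KO534bb7b.k20.{ku0, ku1} : type_of% @List.foldr.{ku0, ku1} := @(fun x0 x1 x2 x3 x4 => @List.rec.{(ku1+1), ku0} @x0 @(fun x5 => @x1) @x3 @(fun x5 x6 x7 => @x2 @x5 @x7) @x4)
private theorem _root_.Cfsg.Agent.KO534bb7b.e20.{ku0, ku1} : @List.foldr.{ku0, ku1} = @_root_.Cfsg.Agent.KO534bb7b.k20.{ku0, ku1} := by delta _root_.Cfsg.Agent.KO534bb7b.k20; funext a0 a1 a2 a3 a4; refine (_root_.Cfsg.Agent.KO534bb7b.e4 (fun a4 => @List.foldr.{ku0, ku1} a0 a1 a2 a3 a4) ?_ (fun c0 c1 => ?_) a4 :) <;> (rfl')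
private noncomputable def _root_.Cfsg.Agent.KO534bb7b.k21.{ku0, ku1} : type_of% @Multiset.foldr.{ku0, ku1} := @(fun x0 x1 x2 x3 x4 x5 => @Quot.lift.{(ku1+1), (ku0+1)} _ _ _ @(fun x6 => @List.foldr.{ku1, ku0} _ _ @x2 @x4 @x6) @(fun x6 x7 x8 => @List.Perm.foldr_eq.{ku1, ku0} _ _ _ _ _ _ @x8 @x4) @x5)
private theorem _root_.Cfsg.Agent.KO534bb7b.e21.{ku0, ku1} : @Multiset.foldr.{ku0, ku1} = @_root_.Cfsg.Agent.KO534bb7b.k21.{ku0, ku1} := by delta _root_.Cfsg.Agent.KO534bb7b.k21; rfl'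
private noncomputable def _root_.Cfsg.Agent.KO534bb7b.k22.{ku0} : type_of% @Multiset.sum.{ku0} := @(fun x0 x1 => @Cfsg.Agent.KO534bb7b.k21.{ku0, ku0} _ _ @(fun x2 x3 => @Add.add.{ku0} _ (@AddSemigroup.toAdd.{ku0} _ (@AddMonoid.toAddSemigroup.{ku0} _ (@AddCommMonoid.toAddMonoid.{ku0} _ @x1))) @x2 @x3) (@Multiset.sum._proof_1.{ku0} _ _) (@Zero.zero.{ku0} _ (@AddMonoid.toZero.{ku0} _ (@AddCommMonoid.toAddMonoid.{ku0} _ @x1))))
private theorem _root_.Cfsg.Agent.KO534bb7b.e22.{ku0} : @Multiset.sum.{ku0} = @_root_.Cfsg.Agent.KO534bb7b.k22.{ku0} := by delta _root_.Cfsg.Agent.KO534bb7b.k22; rewrite [← Cfsg.Agent.KO534bb7b.e21.{ku0, ku0}]; rfl'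
private noncomputable def _root_.Cfsg.Agent.KO534bb7b.k34 : type_of% @instDecidableAnd := @(fun x0 x1 x2 x3 => @Decidable.rec.{1} _ @(fun x4 => @Decidable (@And @x0 @x1)) @(fun x4 => @Decidable.isFalse _ (@instDecidableAnd._proof_2 _ _ @x4)) @(fun x4 => @Decidable.rec.{1} _ @(fun x5 => @Decidable (@And @x0 @x1)) @(fun x5 => @Decidable.isFalse _ (@instDecidableAnd._proof_1 _ _ @x5)) @(fun x5 => @Decidable.isTrue _ (@And.intro _ _ @x4 @x5)) @x3) @x2)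
private theorem _root_.Cfsg.Agent.KO534bb7b.e34 : @instDecidableAnd = @_root_.Cfsg.Agent.KO534bb7b.k34 := by delta _root_.Cfsg.Agent.KO534bb7b.k34; rfl'
private noncomputable def _root_.Cfsg.Agent.KO534bb7b.k35 : type_of% @Nat.decLe := @(fun x0 x1 => @Decidable.rec.{1} _ @(fun x2 => @Decidable (@LE.le.{0} _ _ @x0 @x1)) @(fun x2 => @Decidable.isFalse _ (@Nat.not_le_of_not_ble_eq_true _ _ @x2)) @(fun x2 => @Decidable.isTrue _ (@Nat.le_of_ble_eq_true _ _ @x2)) (@Cfsg.Agent.KO534bb7b.k3 (@Nat.ble @x0 @x1) @Bool.true))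
private theorem _root_.Cfsg.Agent.KO534bb7b.e35 : @Nat.decLe = @_root_.Cfsg.Agent.KO534bb7b.k35 := by delta _root_.Cfsg.Agent.KO534bb7b.k35; rewrite [← Cfsg.Agent.KO534bb7b.e3]; rfl'
private noncomputable def _root_.Cfsg.Agent.KO534bb7b.k36.{ku0} : type_of% @List.length.{ku0} := @(fun x0 x1 => @List.rec.{1, ku0} @x0 @(fun x2 => ℕ) (nat_lit 0) @(fun x2 x3 x4 => @Nat.add @x4 (nat_lit 1)) @x1)
private theorem _root_.Cfsg.Agent.KO534bb7b.e36.{ku0} : @List.length.{ku0} = @_root_.Cfsg.Agent.KO534bb7b.k36.{ku0} := by delta _root_.Cfsg.Agent.KO534bb7b.k36; funext a0 a1; refine (_root_.Cfsg.Agent.KO534bb7b.e4 (fun a1 => @List.length.{ku0} a0 a1) ?_ (fun c0 c1 => ?_) a1 :) <;> (rfl')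
private noncomputable def _root_.Cfsg.Agent.KO534bb7b.k37 : type_of% @Nat.decLt := @(fun x0 x1 => @Cfsg.Agent.KO534bb7b.k35 (@Nat.succ @x0) @x1)
private theorem _root_.Cfsg.Agent.KO534bb7b.e37 : @Nat.decLt = @_root_.Cfsg.Agent.KO534bb7b.k37 := by delta _root_.Cfsg.Agent.KO534bb7b.k37; rewrite [← Cfsg.Agent.KO534bb7b.e35]; rfl'
private noncomputable def _root_.Cfsg.Agent.KO534bb7b.k38.{ku0, ku1} : type_of% @Finset.sum.{ku0, ku1} := @(fun x0 x1 x2 x3 x4 => @Cfsg.Agent.KO534bb7b.k22.{ku1} _ @x2 (@Quot.lift.{(ku0+1), (ku1+1)} _ _ _ @(fun x5 => @Quot.mk.{(ku1+1)} _ (@Setoid.r.{(ku1+1)} _ _) (@List.map.{ku0, ku1} _ _ @x4 @x5)) (@Multiset.map._proof_1.{ku0, ku1} _ _ @x4) (@Finset.val.{ku0} _ @x3)))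
private theorem _root_.Cfsg.Agent.KO534bb7b.e38.{ku0, ku1} : @Finset.sum.{ku0, ku1} = @_root_.Cfsg.Agent.KO534bb7b.k38.{ku0, ku1} := by delta _root_.Cfsg.Agent.KO534bb7b.k38; rewrite [← Cfsg.Agent.KO534bb7b.e22.{ku1}]; rfl'
private noncomputable def _root_.Cfsg.Agent.KO534bb7b.k39 : type_of% @Nat.decidableExistsLT := @(fun x0 x1 x2 => @Nat.rec.{1} @(fun x3 => @Decidable (@_root_.Exists.{1} _ @(fun x4 => @And (@LT.lt.{0} _ _ @x4 @x3) (@x0 @x4)))) (@Decidable.isFalse _ (@Nat.decidableExistsLT._proof_5 _)) @(fun x3 x4 => @Decidable.rec.{1} _ @(fun x5 => @Decidable (@_root_.Exists.{1} _ @(fun x6 => @And (@LT.lt.{0} _ _ @x6 (@HAdd.hAdd.{0, 0, 0} _ _ _ _ @x3 ((1 : ℕ)))) (@x0 @x6)))) @(fun x5 => @Decidable.isFalse _ (@decidable_of_decidable_of_iff._proof_1 _ _ (@Nat.decidableExistsLT._proof_10 _ @x3) @x5)) @(fun x5 => @Decidable.isTrue _ (@Iff.mp _ _ (@Nat.decidableExistsLT._proof_10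 _ @x3) @x5)) (@Cfsg.Agent.KO534bb7b.k30 _ _ @x4 (@x1 @x3))) @x2)
private theorem _root_.Cfsg.Agent.KO534bb7b.e39 : @Nat.decidableExistsLT = @_root_.Cfsg.Agent.KO534bb7b.k39 := by delta _root_.Cfsg.Agent.KO534bb7b.k39; rewrite [← Cfsg.Agent.KO534bb7b.e30]; funext a0 a1 a2; refine (_root_.Cfsg.Agent.KO534bb7b.e24 (fun a2 => @Nat.decidableExistsLT a0 a1 a2) ?_ (fun c0 => ?_) a2 :) <;> (rfl')
private noncomputable def _root_.Cfsg.Agent.KO534bb7b.k40 : type_of% @Nat.decidableExistsFin := @(fun x0 x1 x2 => @Decidable.rec.{1} _ @(fun x3 => @Decidable (@_root_.Exists.{1} _ @(fun x4 => @x1 @x4))) @(fun x3 => @Decidable.isFalse _ (@decidable_of_decidable_of_iff._proof_1 _ _ (@Nat.decidableExistsFin._proof_1 _ @x1) @x3)) @(fun x3 => @Decidable.isTrue _ (@Iff.mp _ _ (@Nat.decidableExistsFin._proof_1 _ @x1) @x3)) (@Cfsg.Agent.KO534bb7b.k39 @(fun x3 => (x4 : @LT.lt.{0}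 _ _ @x3 @x0) → @x1 (@Fin.mk _ @x3 @x4)) @(fun x3 => @Decidable.rec.{1} _ @(fun x4 => @Decidable ((x5 : @LT.lt.{0} _ _ @x3 @x0) → @x1 (@Fin.mk _ @x3 @x5))) @(fun x4 => @Decidable.isTrue _ (@forall_prop_decidable._proof_2 _ @(fun x5 => @x1 (@Fin.mk _ @x3 @x5)) @x4)) @(fun x4 => @Decidable.rec.{1} _ @(fun x5 => @Decidable ((x6 : @LT.lt.{0} _ _ @x3 @x0) → @x1 (@Fin.mk _ @x3 @x6))) @(fun x5 => @Decidable.isFalse _ (@decidable_of_decidable_of_iff._proof_1 _ _ (@forall_prop_decidable._proof_1 _ @(fun x6 => @x1 (@Fin.mk _ @x3 @x6)) @x4) @x5)) @(fun x5 => @Decidable.isTrue _ (@Iff.mp _ _ (@forall_prop_decidable._proof_1 _ @(fun x6 => @x1 (@Fin.mk _ @x3 @x6)) @x4) @x5)) (@x2 (@Fin.mk _ @x3 @x4))) (@Cfsg.Agent.KO534bb7b.k35 (@Nat.succ @x3) @x0)) @x0))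
private theorem _root_.Cfsg.Agent.KO534bb7b.e40 : @Nat.decidableExistsFin = @_root_.Cfsg.Agent.KO534bb7b.k40 := by delta _root_.Cfsg.Agent.KO534bb7b.k40; rewrite [← Cfsg.Agent.KO534bb7b.e35, ← Cfsg.Agent.KO534bb7b.e39]; rfl'
private noncomputable def _root_.Cfsg.Agent.KO534bb7b.k41 : type_of% @Int.decEq := @(fun x0 x1 => @Int.rec.{1} @(fun x2 => @Decidable (@Eq.{1} _ @x2 @x1)) @(fun x2 => @Int.rec.{1} @(fun x3 => @Decidable (@Eq.{1} _ (@Int.ofNat @x2) @x3)) @(fun x3 => @Decidable.rec.{1} _ @(fun x4 => @Decidable (@Eq.{1} _ (@Int.ofNat @x2) (@Int.ofNat @x3))) @(fun x4 => @Decidable.isFalse _ (@Int.decEq._proof_2 @x2 @x3 @x4)) @(fun x4 => @Decidable.isTrue _ (@Int.decEq._proof_1 @x2 @x3 @x4)) (@Cfsg.Agent.KO534bb7b.k10 @x2 @x3)) @(fun x3 => @Decidable.isFalse _ (@Int.decEq._proof_3 @x2 @x3)) @x1) @(fun x2 => @Int.rec.{1} @(fun x3 => @Decidable (@Eq.{1} _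 (@Int.negSucc @x2) @x3)) @(fun x3 => @Decidable.isFalse _ (@Int.decEq._proof_4 @x2 @x3)) @(fun x3 => @Decidable.rec.{1} _ @(fun x4 => @Decidable (@Eq.{1} _ (@Int.negSucc @x2) (@Int.negSucc @x3))) @(fun x4 => @Decidable.isFalse _ (@Int.decEq._proof_6 @x2 @x3 @x4)) @(fun x4 => @Decidable.isTrue _ (@Int.decEq._proof_5 @x2 @x3 @x4)) (@Cfsg.Agent.KO534bb7b.k10 @x2 @x3)) @x1) @x0)
private theorem _root_.Cfsg.Agent.KO534bb7b.e41 : @Int.decEq = @_root_.Cfsg.Agent.KO534bb7b.k41 := by delta _root_.Cfsg.Agent.KO534bb7b.k41; rewrite [← Cfsg.Agent.KO534bb7b.e10]; rfl'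
private noncomputable def _root_.Cfsg.Agent.KO534bb7b.k42 : type_of% @Int.instDecidableEq := @Cfsg.Agent.KO534bb7b.k41
private theorem _root_.Cfsg.Agent.KO534bb7b.e42 : @Int.instDecidableEq = @_root_.Cfsg.Agent.KO534bb7b.k42 := by delta _root_.Cfsg.Agent.KO534bb7b.k42; rewrite [← Cfsg.Agent.KO534bb7b.e41]; rfl'
private noncomputable def _root_.Cfsg.Agent.KO534bb7b.k43 : (by first | exact type_of% @Cfsg.Agent.TO.X.Pl.fz | exact Unit : Sort _) := by first | (refine @Subtype.val _ (fun g => @Cfsg.Agent.TO.X.Pl.fz = @g) (@Subtype.mk _ _ (@(fun x0 x1 x2 => @Int.ofNat (@Option.rec.{1, 0} ℕ @(fun x3 => ℕ) (nat_lit 0) @(fun x3 => @x3) (@Cfsg.Agent.KO534bb7b.k19.{0} _ @x1 (@Fin.val _ @x2))))) ?_); rewrite [← Cfsg.Agent.KO534bb7b.e19.{0}]; rfl') | exact @Cfsg.Agent.TO.X.Pl.fz | exact ()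
private theorem _root_.Cfsg.Agent.KO534bb7b.e43 : (by first | exact @Cfsg.Agent.TO.X.Pl.fz = @_root_.Cfsg.Agent.KO534bb7b.k43 | exact True : Prop) := by first | (delta _root_.Cfsg.Agent.KO534bb7b.k43; exact @Subtype.property _ (fun g => @Cfsg.Agent.TO.X.Pl.fz = @g) _) | rfl | trivial
private noncomputable def _root_.Cfsg.Agent.KO534bb7b.k44.{ku0} : type_of% @ite.{ku0} := @(fun x0 x1 x2 x3 x4 => @Decidable.rec.{ku0} _ @(fun x5 => @x0) @(fun x5 => @x4) @(fun x5 => @x3) @x2)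
private theorem _root_.Cfsg.Agent.KO534bb7b.e44.{ku0} : @ite.{ku0} = @_root_.Cfsg.Agent.KO534bb7b.k44.{ku0} := by delta _root_.Cfsg.Agent.KO534bb7b.k44; rfl'
private noncomputable def _root_.Cfsg.Agent.KO534bb7b.k45.{ku0} : type_of% @List.sum.{ku0} := @(fun x0 x1 x2 => @Cfsg.Agent.KO534bb7b.k20.{ku0, ku0} _ _ @(fun x3 x4 => @Add.add.{ku0} _ @x1 @x3 @x4) (@Zero.zero.{ku0} _ @x2))
private theorem _root_.Cfsg.Agent.KO534bb7b.e45.{ku0} : @List.sum.{ku0} = @_root_.Cfsg.Agent.KO534bb7b.k45.{ku0} := by delta _root_.Cfsg.Agent.KO534bb7b.k45; rewrite [← Cfsg.Agent.KO534bb7b.e20.{ku0, ku0}]; rfl'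
private noncomputable def _root_.Cfsg.Agent.KO534bb7b.k51 : (by first | exact type_of% @Cfsg.Agent.TO.X.Pl.gm | exact Unit : Sort _) := by first | (refine @Subtype.val _ (fun g => @Cfsg.Agent.TO.X.Pl.gm = @g) (@Subtype.mk _ _ (@(fun x0 x1 x2 => @Cfsg.Agent.KO534bb7b.k43 @x0 (@Option.rec.{1, 0} (@List.{0} ℕ) @(fun x3 => @List.{0} ℕ) [] @(fun x3 => @x3) (@Cfsg.Agent.KO534bb7b.k19.{0} _ @x1 (@Fin.val _ @x2))))) ?_); rewrite [← Cfsg.Agent.KO534bb7b.e19.{0}, ← Cfsg.Agent.KO534bb7b.e43]; (try delta Cfsg.Agent.TO.X.Pl.gm); (try generalize @Cfsg.Agent.TO.X.Pl.fz = g0); rfl') | exact @Cfsg.Agent.TO.X.Pl.gm | exact ()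
private theorem _root_.Cfsg.Agent.KO534bb7b.e51 : (by first | exact @Cfsg.Agent.TO.X.Pl.gm = @_root_.Cfsg.Agent.KO534bb7b.k51 | exact True : Prop) := by first | (delta _root_.Cfsg.Agent.KO534bb7b.k51; exact @Subtype.property _ (fun g => @Cfsg.Agent.TO.X.Pl.gm = @g) _) | rfl | trivial

theorem tyE7 : Ty chevE7 7 rowsE7 gE7 pE7 := ty_of 9 isRows_E7
  (by (first | (refine of_decide_eq_true ?_; rewrite [Cfsg.Agent.KO534bb7b.e0, Cfsg.Agent.KO534bb7b.e2, Cfsg.Agent.KO534bb7b.e8.{0}, Cfsg.Agent.KO534bb7b.e9.{0, 0}, Cfsg.Agent.KO534bb7b.e11, Cfsg.Agent.KO534bb7b.e14.{0}, Cfsg.Agent.KO534bb7b.e15.{0, 0}, Cfsg.Agent.KO534bb7b.e28]; decide +kernel) | decide +kernel)) (by (first | (refine of_decide_eq_true ?_; rewrite [Cfsg.Agent.KO534bb7b.e0, Cfsg.Agent.KO534bb7b.e2, Cfsg.Agent.KO534bb7b.e29.{0}, Cfsg.Agent.KO534bb7b.e30, Cfsg.Agent.KO534bb7b.e32, Cfsg.Agent.KO534bb7b.e11,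 Cfsg.Agent.KO534bb7b.e33.{0}]; decide +kernel) | decide +kernel)) (by (first | (refine of_decide_eq_true ?_; rewrite [Cfsg.Agent.KO534bb7b.e0, Cfsg.Agent.KO534bb7b.e29.{0}, Cfsg.Agent.KO534bb7b.e34, Cfsg.Agent.KO534bb7b.e35, Cfsg.Agent.KO534bb7b.e36.{0}, Cfsg.Agent.KO534bb7b.e37, Cfsg.Agent.KO534bb7b.e38.{0, 0}, Cfsg.Agent.KO534bb7b.e33.{0}, Cfsg.Agent.KO534bb7b.e30, Cfsg.Agent.KO534bb7b.e40, Cfsg.Agent.KO534bb7b.e2, Cfsg.Agent.KO534bb7b.e42, Cfsg.Agent.KO534bb7b.e43, Cfsg.Agent.KO534bb7b.e44.{1}, Cfsg.Agent.KO534bb7b.e32, Cfsg.Agent.KO534bb7b.e45.{0}, Cfsg.Agent.KO534bb7b.e28]; decide +kernel) | decide +kernel)) (by decide +kernel) (by (first | (refine of_decide_eq_true ?_; rewrite [Cfsg.Agent.KO534bb7b.e0, Cfsg.Agent.KO534bb7b.e2, Cfsg.Agent.KO534bb7b.e42, Cfsg.Agent.KO534bb7b.e51, Cfsg.Agent.KO534bb7b.e45.{0}, Cfsg.Agent.KO534bb7b.e15.{0, 0}, Cfsg.Agent.KO534bb7b.e43];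 decide +kernel) | decide +kernel)) (by decide +kernel)

/-- the positive roots -/
def pE8 : List (ℕ × List ℕ) := [(0, [0, 0, 0, 0, 0, 0, 0, 1]), (0, [0, 0, 0, 0, 0, 0, 1, 0]), (0, [0, 0, 0, 0, 0, 0,
  1, 1]), (0, [0, 0, 0, 0, 0, 1, 0, 0]), (0, [0, 0, 0, 0, 0, 1, 1, 0]), (0, [0, 0, 0, 0, 0, 1, 1, 1]), (0, [0, 0, 0,
  0, 1, 0, 0, 0]), (0, [0, 0, 0, 0, 1, 1, 0, 0]), (0, [0, 0, 0, 0, 1, 1, 1, 0]), (0, [0, 0, 0, 0, 1, 1, 1, 1]), (0,
  [0, 0, 0, 1, 0, 0, 0, 0]), (0, [0, 0, 0, 1, 1, 0, 0, 0]), (0, [0, 0, 0, 1, 1, 1, 0, 0]), (0, [0, 0, 0, 1, 1, 1, 1,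
  0]), (0, [0, 0, 0, 1, 1, 1, 1, 1]), (0, [0, 0, 1, 0, 0, 0, 0, 0]), (0, [0, 0, 1, 1, 0, 0, 0, 0]), (0, [0, 0, 1, 1,
  1, 0, 0, 0]), (0, [0, 0, 1, 1, 1, 1, 0, 0]), (0, [0, 0, 1, 1, 1, 1, 1, 0]), (0, [0, 0, 1, 1, 1, 1, 1, 1]), (0, [0,
  1, 0, 0, 0, 0, 0, 0]), (0, [0, 1, 0, 1, 0, 0, 0, 0]), (0, [0, 1, 0, 1, 1, 0, 0, 0]), (0, [0, 1, 0, 1, 1, 1, 0, 0]),
  (0, [0, 1, 0, 1, 1, 1, 1, 0]), (0, [0, 1, 0, 1, 1, 1, 1, 1]), (0, [0, 1, 1, 1, 0, 0, 0, 0]), (0, [0, 1, 1, 1, 1, 0,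
  0, 0]), (0, [0, 1, 1, 1, 1, 1, 0, 0]), (0, [0, 1, 1, 1, 1, 1, 1, 0]), (0, [0, 1, 1, 1, 1, 1, 1, 1]), (0, [0, 1, 1,
  2, 1, 0, 0, 0]), (0, [0, 1, 1, 2, 1, 1, 0, 0]), (0, [0, 1, 1, 2, 1, 1, 1, 0]), (0, [0, 1, 1, 2, 1, 1, 1, 1]), (0,
  [0, 1, 1, 2, 2, 1, 0, 0]), (0, [0, 1, 1, 2, 2, 1, 1, 0]), (0, [0, 1, 1, 2, 2, 1, 1, 1]), (0, [0, 1, 1, 2, 2, 2, 1,
  0]), (0, [0, 1, 1, 2, 2, 2, 1, 1]), (0, [0, 1, 1, 2, 2, 2, 2, 1]), (0, [1, 0, 0, 0, 0, 0, 0, 0]), (0, [1, 0, 1, 0,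
  0, 0, 0, 0]), (0, [1, 0, 1, 1, 0, 0, 0, 0]), (0, [1, 0, 1, 1, 1, 0, 0, 0]), (0, [1, 0, 1, 1, 1, 1, 0, 0]), (0, [1,
  0, 1, 1, 1, 1, 1, 0]), (0, [1, 0, 1, 1, 1, 1, 1, 1]), (0, [1, 1, 1, 1, 0, 0, 0, 0]), (0, [1, 1, 1, 1, 1, 0, 0, 0]),
  (0, [1, 1, 1, 1, 1, 1, 0, 0]), (0, [1, 1, 1, 1, 1, 1, 1, 0]), (0, [1, 1, 1, 1, 1, 1, 1, 1]), (0, [1, 1, 1, 2, 1, 0,
  0, 0]), (0, [1, 1, 1, 2, 1, 1, 0, 0]), (0, [1, 1, 1, 2, 1, 1, 1, 0]), (0, [1, 1, 1, 2, 1, 1, 1, 1]), (0, [1, 1, 1,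
  2, 2, 1, 0, 0]), (0, [1, 1, 1, 2, 2, 1, 1, 0]), (0, [1, 1, 1, 2, 2, 1, 1, 1]), (0, [1, 1, 1, 2, 2, 2, 1, 0]), (0,
  [1, 1, 1, 2, 2, 2, 1, 1]), (0, [1, 1, 1, 2, 2, 2, 2, 1]), (0, [1, 1, 2, 2, 1, 0, 0, 0]), (0, [1, 1, 2, 2, 1, 1, 0,
  0]), (0, [1, 1, 2, 2, 1, 1, 1, 0]), (0, [1, 1, 2, 2, 1, 1, 1, 1]), (0, [1, 1, 2, 2, 2, 1, 0, 0]), (0, [1, 1, 2, 2,
  2, 1, 1, 0]), (0, [1, 1, 2, 2, 2, 1, 1, 1]), (0, [1, 1, 2, 2, 2, 2, 1, 0]), (0, [1, 1, 2, 2, 2, 2, 1, 1]), (0, [1,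
  1, 2, 2, 2, 2, 2, 1]), (0, [1, 1, 2, 3, 2, 1, 0, 0]), (0, [1, 1, 2, 3, 2, 1, 1, 0]), (0, [1, 1, 2, 3, 2, 1, 1, 1]),
  (0, [1, 1, 2, 3, 2, 2, 1, 0]), (0, [1, 1, 2, 3, 2, 2, 1, 1]), (0, [1, 1, 2, 3, 2, 2, 2, 1]), (0, [1, 1, 2, 3, 3, 2,
  1, 0]), (0, [1, 1, 2, 3, 3, 2, 1, 1]), (0, [1, 1, 2, 3, 3, 2, 2, 1]), (0, [1, 1, 2, 3, 3, 3, 2, 1]), (0, [1, 2, 2,
  3, 2, 1, 0, 0]), (0, [1, 2, 2, 3, 2, 1, 1, 0]), (0, [1, 2, 2, 3, 2, 1, 1, 1]), (0, [1, 2, 2, 3, 2, 2, 1, 0]), (0,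
  [1, 2, 2, 3, 2, 2, 1, 1]), (0, [1, 2, 2, 3, 2, 2, 2, 1]), (0, [1, 2, 2, 3, 3, 2, 1, 0]), (0, [1, 2, 2, 3, 3, 2, 1,
  1]), (0, [1, 2, 2, 3, 3, 2, 2, 1]), (0, [1, 2, 2, 3, 3, 3, 2, 1]), (0, [1, 2, 2, 4, 3, 2, 1, 0]), (0, [1, 2, 2, 4,
  3, 2, 1, 1]), (0, [1, 2, 2, 4, 3, 2, 2, 1]), (0, [1, 2, 2, 4, 3, 3, 2, 1]), (0, [1, 2, 2, 4, 4, 3, 2, 1]), (0, [1,
  2, 3, 4, 3, 2, 1, 0]), (0, [1, 2, 3, 4, 3, 2, 1, 1]), (0, [1, 2, 3, 4, 3, 2, 2, 1]), (0, [1, 2, 3, 4, 3, 3, 2, 1]),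
  (0, [1, 2, 3, 4, 4, 3, 2, 1]), (0, [1, 2, 3, 5, 4, 3, 2, 1]), (0, [1, 3, 3, 5, 4, 3, 2, 1]), (0, [2, 2, 3, 4, 3, 2,
  1, 0]), (0, [2, 2, 3, 4, 3, 2, 1, 1]), (0, [2, 2, 3, 4, 3, 2, 2, 1]), (0, [2, 2, 3, 4, 3, 3, 2, 1]), (0, [2, 2, 3,
  4, 4, 3, 2, 1]), (0, [2, 2, 3, 5, 4, 3, 2, 1]), (0, [2, 2, 4, 5, 4, 3, 2, 1]), (0, [2, 3, 3, 5, 4, 3, 2, 1]), (0,
  [2, 3, 4, 5, 4, 3, 2, 1]), (0, [2, 3, 4, 6, 4, 3, 2, 1]), (0, [2, 3, 4, 6, 5, 3, 2, 1]), (0, [2, 3, 4, 6, 5, 4, 2,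
  1]), (0, [2, 3, 4, 6, 5, 4, 3, 1]), (0, [2, 3, 4, 6, 5, 4, 3, 2])]

/-- the form -/
def gE8 : List (List ℕ) := [[4, 5, 7, 10, 8, 6, 4, 2], [5, 8, 10, 15, 12, 9, 6, 3], [7, 10, 14, 20, 16, 12, 8, 4],
  [10, 15, 20, 30, 24, 18, 12, 6], [8, 12, 16, 24, 20, 15, 10, 5], [6, 9, 12, 18, 15, 12, 8, 4], [4, 6, 8, 12, 10, 8,
  6, 3], [2, 3, 4, 6, 5, 4, 3, 2]]

theorem tyE8 : Ty chevE8 8 rowsE8 gE8 pE8 := ty_of 30 isRows_E8
  (by (first | (refine of_decide_eq_true ?_; rewrite [Cfsg.Agent.KO534bb7b.e0, Cfsg.Agent.KO534bb7b.e2, Cfsg.Agent.KO534bb7b.e8.{0}, Cfsg.Agent.KO534bb7b.e9.{0, 0}, Cfsg.Agent.KO534bb7b.e11, Cfsg.Agent.KO534bb7b.e14.{0}, Cfsg.Agent.KO534bb7b.e15.{0, 0}, Cfsg.Agent.KO534bb7b.e28]; decide +kernel) | decide +kernel)) (by decide +kernel) (by (first | (refine of_decide_eq_true ?_; rewrite [Cfsg.Agent.KO534bb7b.e0, Cfsg.Agent.KO534bb7b.e29.{0}, Cfsg.Agent.KO534bb7b.e34,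 Cfsg.Agent.KO534bb7b.e35, Cfsg.Agent.KO534bb7b.e36.{0}, Cfsg.Agent.KO534bb7b.e37, Cfsg.Agent.KO534bb7b.e38.{0, 0}, Cfsg.Agent.KO534bb7b.e33.{0}, Cfsg.Agent.KO534bb7b.e30, Cfsg.Agent.KO534bb7b.e40, Cfsg.Agent.KO534bb7b.e2, Cfsg.Agent.KO534bb7b.e42, Cfsg.Agent.KO534bb7b.e43, Cfsg.Agent.KO534bb7b.e44.{1}, Cfsg.Agent.KO534bb7b.e32, Cfsg.Agent.KO534bb7b.e45.{0}, Cfsg.Agent.KO534bb7b.e28]; decide +kernel) | decide +kernel)) (by decide +kernel) (by (first | (refine of_decide_eq_true ?_; rewrite [Cfsg.Agent.KO534bb7b.e0, Cfsg.Agent.KO534bb7b.e2, Cfsg.Agent.KO534bb7b.e42, Cfsg.Agent.KO534bb7b.e51, Cfsg.Agent.KO534bb7b.e45.{0}, Cfsg.Agent.KO534bb7b.e15.{0, 0}, Cfsg.Agent.KO534bb7b.e43]; decide +kernel) | decide +kernel)) (by decide +kernel)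

/-- the form in triangular shape -/
def fsE6 : List (ℕ × List ℕ) := [(4, [6, 10, 12, 8, 4]), (6, [12, 18, 12, 6]), (10, [24, 16, 8]), (18, [24, 12]), (10, [10]), (4, [])]

theorem fsOk_E6 : FsOk 6 gE6 fsE6
  | [y0, y1, y2, y3, y4, y5], _ => by
    show (y0 * (0 + 4 * y0) + (y1 * ((0 + y0 * 6) + 6 * y1) + (y2 * (((0 + y0 * 10) + y1 * 12) + 10 * y2) + (y3 * ((((0 + y0 * 12) + y1 * 18) + y2 * 24) + 18 * y3) + (y4 * (((((0 + y0 * 8) + y1 * 12) + y2 * 16) + y3 * 24) + 10 * y4) + (y5 * ((((((0 + y0 * 4) + y1 * 6) + y2 * 8) + y3 * 12) + y4 * 10) + 4 * y5) + 0)))))) =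
      ((4 * y0 + (3 * y1 + (5 * y2 + (6 * y3 + (4 * y4 + (2 * y5 + 0)))))) * y0 + ((3 * y0 + (6 * y1 + (6 * y2 + (9 * y3 + (6 * y4 + (3 * y5 + 0)))))) * y1 + ((5 * y0 + (6 * y1 + (10 * y2 + (12 * y3 + (8 * y4 + (4 * y5 + 0)))))) * y2 + ((6 * y0 + (9 * y1 + (12 * y2 + (18 * y3 + (12 * y4 + (6 * y5 + 0)))))) * y3 + ((4 * y0 + (6 * y1 + (8 * y2 + (12 * y3 + (10 * y4 + (5 * y5 + 0)))))) * y4 + ((2 * y0 + (3 * y1 + (4 * y2 + (6 * y3 + (5 * y4 + (4 * y5 + 0)))))) * y5 + 0))))))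
    ring

/-- the form in triangular shape -/
def fsE7 : List (ℕ × List ℕ) := [(4, [8, 12, 16, 12, 8, 4]), (7, [16, 24, 18, 12, 6]), (12, [32, 24, 16, 8]), (24, [36, 24, 12]), (15, [20, 10]), (8, [8]), (3, [])]

theorem fsOk_E7 : FsOk 7 gE7 fsE7
  | [y0, y1, y2, y3, y4, y5, y6], _ => by
    show (y0 * (0 + 4 * y0) + (y1 * ((0 + y0 * 8) + 7 * y1) + (y2 * (((0 + y0 * 12) + y1 * 16) + 12 * y2) + (y3 * ((((0 + y0 * 16) + y1 * 24) + y2 * 32) + 24 * y3) + (y4 * (((((0 + y0 * 12) + y1 * 18) + y2 * 24) + y3 * 36) + 15 * y4) + (y5 * ((((((0 + y0 * 8) + y1 * 12) + y2 * 16) + y3 * 24) + y4 * 20) + 8 * y5) + (y6 * (((((((0 + y0 * 4) + y1 * 6) + y2 * 8) + y3 * 12) + y4 * 10) + y5 * 8) + 3 * y6) + 0))))))) =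
      ((4 * y0 + (4 * y1 + (6 * y2 + (8 * y3 + (6 * y4 + (4 * y5 + (2 * y6 + 0))))))) * y0 + ((4 * y0 + (7 * y1 + (8 * y2 + (12 * y3 + (9 * y4 + (6 * y5 + (3 * y6 + 0))))))) * y1 + ((6 * y0 + (8 * y1 + (12 * y2 + (16 * y3 + (12 * y4 + (8 * y5 + (4 * y6 + 0))))))) * y2 + ((8 * y0 + (12 * y1 + (16 * y2 + (24 * y3 + (18 * y4 + (12 * y5 + (6 * y6 + 0))))))) * y3 + ((6 * y0 + (9 * y1 + (12 * y2 + (18 * y3 + (15 * y4 + (10 * y5 + (5 * y6 + 0))))))) * y4 + ((4 * y0 + (6 * y1 + (8 * y2 + (12 * y3 + (10 * y4 + (8 * y5 + (4 * y6 + 0))))))) * y5 + ((2 * y0 + (3 * y1 + (4 * y2 + (6 * y3 + (5 * y4 + (4 * y5 + (3 * y6 + 0))))))) * y6 + 0)))))))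
    ring

/-- the form in triangular shape -/
def fsE8 : List (ℕ × List ℕ) := [(4, [10, 14, 20, 16, 12, 8, 4]), (8, [20, 30, 24, 18, 12, 6]), (14, [40, 32, 24, 16, 8]), (30, [48, 36, 24, 12]), (20, [30, 20, 10]), (12, [16, 8]), (6, [6]), (2, [])]

theorem fsOk_E8 : FsOk 8 gE8 fsE8
  | [y0, y1, y2, y3, y4, y5, y6, y7], _ => by
    show (y0 * (0 + 4 * y0) + (y1 * ((0 + y0 * 10) + 8 * y1) + (y2 * (((0 + y0 * 14) + y1 * 20) + 14 * y2) + (y3 * ((((0 + y0 * 20) + y1 * 30) + y2 * 40) + 30 * y3) + (y4 * (((((0 + y0 * 16) + y1 * 24) + y2 * 32) + y3 * 48) + 20 * y4) + (y5 * ((((((0 + y0 * 12) + y1 * 18) + y2 * 24) + y3 * 36) + y4 * 30) + 12 * y5) + (y6 * (((((((0 + y0 * 8) + y1 * 12) + y2 * 16) + y3 * 24) + y4 * 20) + y5 * 16) + 6 * y6) + (y7 * ((((((((0 + y0 * 4) + y1 * 6) + y2 * 8) + y3 * 12) + y4 * 10) + y5 * 8) + y6 * 6) + 2 * y7) + 0)))))))) =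
      ((4 * y0 + (5 * y1 + (7 * y2 + (10 * y3 + (8 * y4 + (6 * y5 + (4 * y6 + (2 * y7 + 0)))))))) * y0 + ((5 * y0 + (8 * y1 + (10 * y2 + (15 * y3 + (12 * y4 + (9 * y5 + (6 * y6 + (3 * y7 + 0)))))))) * y1 + ((7 * y0 + (10 * y1 + (14 * y2 + (20 * y3 + (16 * y4 + (12 * y5 + (8 * y6 + (4 * y7 + 0)))))))) * y2 + ((10 * y0 + (15 * y1 + (20 * y2 + (30 * y3 + (24 * y4 + (18 * y5 + (12 * y6 + (6 * y7 + 0)))))))) * y3 + ((8 * y0 + (12 * y1 + (16 * y2 + (24 * y3 + (20 * y4 + (15 * y5 + (10 * y6 + (5 * y7 + 0)))))))) * y4 + ((6 * y0 + (9 * y1 + (12 * y2 + (18 * y3 + (15 * y4 + (12 * y5 + (8 * y6 + (4 * y7 + 0)))))))) * y5 + ((4 * y0 + (6 * y1 + (8 * y2 + (12 * y3 + (10 * y4 + (8 * y5 + (6 * y6 + (3 * y7 + 0)))))))) * y6 + ((2 * y0 + (3 * y1 + (4 * y2 + (6 * y3 + (5 * y4 + (4 * y5 + (3 * y6 + (2 * y7 + 0)))))))) * y7 + 0))))))))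
    ring

/-- the standard form of a plane -/
def Std (C : ChevalleyDatum) {l p : ℕ} (u x u0 x0 : Fin l → ZMod p) : Prop :=
  ∃ W, WM C l W ∧ Submodule.span (ZMod p) {mv W u, mv W x} = Submodule.span (ZMod p) {u0, x0}

theorem alt_one {l p : ℕ} : ∀ B ∈ [(1 : Matrix (Fin l) (Fin l) ℤ)], ∀ u, ∃ w ∈ [u], cv p l w = mv B (cv p l u) :=
  fun B hB u => ⟨u, List.mem_singleton_self _, by rw [List.mem_singleton.1 hB, mv_one]⟩

theorem pr5 : Nat.Prime 5 := by norm_num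

theorem pr7 : Nat.Prime 7 := by norm_num

theorem sq5 : (2 : ZMod 5) ≠ 0 ∧ ∀ b c : ZMod 5, ∃ i, ∀ s, s ≠ 0 → i ^ 2 + b * i + c ≠ s ^ 2 := by decide +kernel

theorem sq7 : (2 : ZMod 7) ≠ 0 ∧ ∀ b c : ZMod 7, ∃ i, ∀ s, s ≠ 0 → i ^ 2 + b * i + c ≠ s ^ 2 := by decide +kernel

theorem cj_P6 {p : ℕ} {u v : Fin 6 → ZMod p} (H : Cj chevE6 (AdmS p [1, P6]) u v) : Cj chevE6 (AdmS p [1]) u v := by
  obtain ⟨W, _, h1, ⟨c, hc, B, hB, rfl⟩, h2⟩ := H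
  rcases List.mem_pair.1 hB with rfl | rfl
  · exact ⟨W, _, h1, ⟨c, hc, 1, List.mem_singleton_self _, rfl⟩, h2⟩
  · refine ⟨W * -P6, _, h1.mul ⟨_, neg_E6.symm⟩, ⟨-c, fun h => hc (dvd_neg.1 h), 1, List.mem_singleton_self _, rfl⟩, ?_⟩
    rw [h2, mul_assoc, mul_smul_comm (-c), mul_one, neg_smul, smul_neg, neg_neg]

theorem pl_P6 {p : ℕ} {u x : Fin 6 → ZMod p} (H : PurePl chevE6 (AdmS p [1, P6]) u x) : PurePl chevE6 (AdmS p [1]) u x :=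
  ⟨H.ind, fun i j h => cj_P6 (H.cj i j h)⟩

theorem sp_P6 {p : ℕ} {B : Submodule (ZMod p) (Fin 6 → ZMod p)} (H : PureSp chevE6 (AdmS p [1, P6]) B) :
    PureSp chevE6 (AdmS p [1]) B := fun u hu v hv h1 h2 => cj_P6 (H u hu v hv h1 h2)

/-- the images under `1` and the special isogeny -/
def altF (u : List ℕ) : List (List ℕ) := [u, [u.getD 3 0, u.getD 2 0, 2 * u.getD 1 0, 2 * u.getD 0 0]]

theorem GamF_eq : GamF = !![0, 0, 0, 1; 0, 0, 1, 0; 0, 2, 0, 0; 2, 0, 0, 0] := by decide +kernel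

theorem alt_gam {p : ℕ} : ∀ B ∈ [1, GamF], ∀ u, ∃ w ∈ altF u, cv p 4 w = mv B (cv p 4 u) := by
  intro B hB u
  rcases List.mem_pair.1 hB with rfl | rfl
  · exact ⟨u, List.mem_cons_self, (mv_one _).symm⟩
  · refine ⟨_, List.mem_cons_of_mem _ List.mem_cons_self, funext fun i => ?_⟩
    rw [GamF_eq, mv_apply]
    (revert i; simp only [cv, vl, Fin.sum_univ_four, _root_.Fin.forall_fin_succ, _root_.List.getD_eq_getElem?_getD, _root_.List.length_cons, _root_.List.length_nil, _root_.zero_add, Nat.reduceAdd, _root_.Fin.is_lt, _root_.getElem?_pos, _root_.Option.getD_some, _root_.Matrix.of_apply, _root_.Matrix.cons_val', _root_.Matrix.cons_val_fin_one, Fin.isValue, _root_.Matrix.cons_val_zero, _root_.Fin.coe_ofNat_eq_mod, _root_.Nat.zero_mod, _root_.Matrix.cons_val_one, _root_.Nat.one_mod, _root_.Matrix.cons_val, Nat.reduceMod, _root_.Nat.mod_succ, _root_.List.getElem_cons_zero,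 _root_.Int.cast_zero, _root_.MulZeroClass.zero_mul, _root_.add_zero, _root_.Int.cast_one, _root_.one_mul, _root_.Fin.val_succ, _root_.List.getElem_cons_succ, _root_.Matrix.cons_val_succ, _root_.Nat.cast_mul, _root_.Nat.cast_ofNat, _root_.Int.cast_ofNat, _root_.Fin.val_eq_zero, _root_.implies_true, _root_.and_self])

theorem nm_gam : Nm chevF4 [1, GamF] := by
  unfold Nm
  decide +kernel

end Cfsg.Agent.TO.X.Pl
end

private theorem dce_de39b7298d19 : _root_.True := by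
  try have : _root_.True := by simp only [_root_.Cfsg.Agent.TO.X.Pl.fz.eq_1]
  try have : _root_.True := by simp only [_root_.Cfsg.Agent.TO.X.Pl.gv.eq_1]
  try have : _root_.True := by simp only [_root_.Cfsg.Agent.TO.X.Pl.Job.chk1.eq_1]
  try have : _root_.True := by simp only [_root_.Cfsg.Agent.TO.X.Pl.nl.eq_1]
  try have : _root_.True := by simp only [_root_.Cfsg.Agent.TO.X.Pl.pre.eq_1]
  try have : _root_.True := by simp only [_root_.Cfsg.Agent.TO.X.Pl.Zn.eq_1]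
  try have : _root_.True := by simp only [_root_.Cfsg.Agent.TO.X.Pl.vz.eq_1]
  try have : _root_.True := by simp only [_root_.Cfsg.Agent.TO.X.Pl.rz.eq_1]
  try have : _root_.True := by simp only [_root_.Cfsg.Agent.TO.X.Pl.Job.chk2.eq_1]
  try have : _root_.True := by simp only [_root_.Cfsg.Agent.TO.X.Pl.dt.eq_1]
  try have : _root_.True := by simp only [_root_.Cfsg.Agent.TO.X.Pl.cv.eq_1]
  exact _root_.True.intro
end

-- part: TO/X5/Abs_mg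
section
set_option linter.all false
open scoped Cfsg.Agent.FastGrp
private noncomputable def lq265c502bbe {T : Sort _} (f :
    type_of% (@_root_.List.cons.{0}) →
    type_of% (@_root_.List.nil.{0}) →
    type_of% (@_root_.List.cons.{0} (Fin 8)) →
    type_of% (@_root_.Prod.mk.{0, 0}) →
    type_of% (@_root_.List.cons.{0} (Fin 7)) →
    type_of% (@_root_.Cfsg.Agent.TO.X.Pl.Job.mk) →
    type_of% (@_root_.Bool.true) →
    type_of% (@_root_.Bool.false) →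
    type_of% (@_root_.Cfsg.Agent.KZ.DatX.rowsF4) →
    type_of% (@_root_.Cfsg.Agent.TO.X.Pl.gF4) →
    type_of% (@_root_.Cfsg.Agent.TO.X.Pl.pF4) →
    type_of% (@_root_.Cfsg.Agent.TO.X.Pl.altF) →
    type_of% (@_root_.Cfsg.Agent.KZ.DatX.rowsE6) →
    type_of% (@_root_.Cfsg.Agent.TO.X.Pl.gE6) →
    type_of% (@_root_.Cfsg.Agent.TO.X.Pl.pE6) →
    type_of% (@_root_.Cfsg.Agent.KZ.DatX.rowsE7) →
    type_of% (@_root_.Cfsg.Agent.TO.X.Pl.gE7) →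
    type_of% (@_root_.Cfsg.Agent.TO.X.Pl.pE7) →
    type_of% (@_root_.Cfsg.Agent.KZ.DatX.rowsE8) →
    type_of% (@_root_.Cfsg.Agent.TO.X.Pl.gE8) →
    type_of% (@_root_.Cfsg.Agent.TO.X.Pl.pE8) → T) : T :=
  f (@_root_.List.cons.{0}) (@_root_.List.nil.{0}) (@_root_.List.cons.{0} (Fin 8)) (@_root_.Prod.mk.{0, 0}) (@_root_.List.cons.{0} (Fin 7)) (@_root_.Cfsg.Agent.TO.X.Pl.Job.mk) (@_root_.Bool.true) (@_root_.Bool.false) (@_root_.Cfsg.Agent.KZ.DatX.rowsF4) (@_root_.Cfsg.Agent.TO.X.Pl.gF4) (@_root_.Cfsg.Agent.TO.X.Pl.pF4) (@_root_.Cfsg.Agent.TO.X.Pl.altF) (@_root_.Cfsg.Agent.KZ.DatX.rowsE6) (@_root_.Cfsg.Agent.TO.X.Pl.gE6) (@_root_.Cfsg.Agent.TO.X.Pl.pE6) (@_root_.Cfsg.Agent.KZ.DatX.rowsE7) (@_root_.Cfsg.Agent.TO.X.Pl.gE7) (@_root_.Cfsg.Agent.TO.X.Pl.pE7) (@_root_.Cfsg.Agent.KZ.DatX.rowsE8) (@_root_.Cfsg.Agent.TO.X.Pl.gE8) (@_root_.Cfsg.Agent.TO.X.Pl.pE8)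

-- part: TO/X5/Abs
section
/-!
# S4817, exceptional groups, `p = 5`, `d = 4` : the block part (helper34)

`X5.five`.
-/

set_option autoImplicit false
set_option linter.unusedSectionVars false
set_option maxHeartbeats 200000

namespace Cfsg.Agent.TO.X5

open Cfsg

variable {G : Type} [Group G] [Finite G] {M : Ideal AlgInt} {b : Set (IrrCharacter G)} {D : Subgroup G} {θ : G → ℂ}

/-- an automorphism of order three of a group of order `25` has no fixed points -/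
theorem fpf {E : Type} [CommGroup E] [Finite E] (hc : Nat.card E = 25) {α : MulAut E} (h3 : α ^ 3 = 1) (h1 : α ≠ 1)
    (d : E) : d * α d * α (α d) = 1 := by
  have : Fact (Nat.Prime 3) := ⟨by norm_num⟩
  have : Fact (Nat.Prime 5) := ⟨by norm_num⟩
  have hp : IsPGroup 3 (Subgroup.zpowers α) := IsPGroup.of_card (n := 1) (by
    rw [Nat.card_zpowers, orderOf_eq_prime h3 h1, pow_one])
  let U : Subgroup E := α.toMonoidHom.eqLocus (MonoidHom.id E)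
  have h4 : MulAction.fixedPoints (Subgroup.zpowers α) E = U := Set.ext fun x =>
    ⟨fun h => h ⟨α, Subgroup.mem_zpowers α⟩, fun h a => by
      obtain ⟨_, k, rfl⟩ := a
      exact (Subgroup.zpowers_le (H := MulAction.stabilizer (MulAut E) x)).2 h ⟨k, rfl⟩⟩
  have h5 := hp.card_modEq_card_fixedPoints E
  rw [h4, hc] at h5
  change 25 ≡ Nat.card U [MOD 3] at h5
  have h6 : Nat.card U ∣ 5 ^ 2 := (hc ▸ U.card_subgroup_dvd_card : Nat.card U ∣ 25)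
  obtain ⟨k, h7, h8⟩ := (Nat.dvd_prime_pow (by norm_num)).1 h6
  have h9 : U = ⊥ := by
    interval_cases k
    · exact Subgroup.card_eq_one.1 h8
    · rw [h8] at h5
      exact absurd h5 (by decide)
    · exact absurd (MulEquiv.ext fun x => show α x = x from
        (U.eq_top_of_card_eq (h8.trans hc.symm)).ge (Subgroup.mem_top x)) h1
  refine h9.le (show α _ = _ from ?_)
  rw [map_mul, map_mul, show α (α (α d)) = d from DFunLike.congr_fun h3 d, MonoidHom.id_apply, mul_comm, ← mul_assoc]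

/-- the automorphism group of a noncyclic group of order `25` has order `480` -/
theorem aut_pow {E : Type} [CommGroup E] [Finite E] (hc : Nat.card E = 25) (he : ∀ d : E, d ^ 5 = 1) (α : MulAut E) :
    α ^ 480 = 1 := by
  have : Fact (Nat.Prime 5) := ⟨by norm_num⟩
  let _ : Module (ZMod 5) (Additive E) := AddCommMonoid.zmodModule fun x => he x.toMul
  have h1 : Module.finrank (ZMod 5) (Additive E) = 2 := by
    have h2 := Module.natCard_eq_pow_finrank (K := ZMod 5) (V := Additive E)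
    rw [Nat.card_zmod, show Nat.card (Additive E) = 25 from hc] at h2
    exact Nat.pow_right_injective (show 2 ≤ 5 by norm_num) h2.symm
  let f : Module.End (ZMod 5) (Additive E) := (MonoidHom.toAdditive α.toMonoidHom).toZModLinearMap 5
  let f' : Module.End (ZMod 5) (Additive E) := (MonoidHom.toAdditive α.symm.toMonoidHom).toZModLinearMap 5
  let g : (Module.End (ZMod 5) (Additive E))ˣ := ⟨f, f', LinearMap.ext fun x => α.apply_symm_apply x.toMul,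
    LinearMap.ext fun x => α.symm_apply_apply x.toMul⟩
  let e := Matrix.GeneralLinearGroup.toLin' (Module.finBasisOfFinrankEq (ZMod 5) (Additive E) h1)
  have h2 : Nat.card (Module.End (ZMod 5) (Additive E))ˣ = 480 := by
    rw [← Nat.card_congr e.toEquiv, Matrix.card_GL_field]
    decide
  have h3 : g ^ 480 = 1 := h2 ▸ pow_card_eq_one'
  have h4 : ∀ (n : ℕ) (x : E), (g ^ n).1 (Additive.ofMul x) = Additive.ofMul ((α ^ n) x) := fun n => by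
    induction n with
    | zero => exact fun _ => rfl
    | succ n ih => exact fun x => by rw [pow_succ, pow_succ]; exact ih (α x)
  exact MulEquiv.ext fun x => by simpa [h3] using (h4 480 x).symm

/-- an element of the inertia group which inverts `D`, or one of order three -/
theorem neg_or_three (B : Blk) (H : Two 5 M b D) (h : Can 5 M b D θ) (hc : Nat.card D = 25) :
    (∃ t ∈ In D θ, ∀ d ∈ D, t * d * t⁻¹ = d⁻¹) ∨
      ∃ t ∈ In D θ, ∀ d ∈ D, d * (t * d * t⁻¹) * (t * (t * d * t⁻¹) * t⁻¹) = 1 := by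
  have : Fact (Nat.Prime 5) := ⟨by norm_num⟩
  by_cases h1 : ∀ t ∈ In D θ, ∃ k : ℕ, t ^ 2 ^ k ∈ Ce D
  · exact Or.inl (B.neg G 5 M b D θ H h (Or.inl h1))
  push Not at h1
  obtain ⟨t, ht, h1⟩ := h1
  let _ : CommGroup D := { (inferInstance : Group D) with mul_comm := fun x y => Subtype.ext (h.comm x x.2 y y.2) }
  have he : ∀ d : D, d ^ 5 = 1 := fun d => by
    have h2 : orderOf d ∣ 5 ^ 2 := (hc ▸ orderOf_dvd_natCard d : orderOf d ∣ 25)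
    obtain ⟨k, h3, h4⟩ := (Nat.dvd_prime_pow (by norm_num)).1 h2
    have h5 : k ≠ 2 := fun e => H.nc (isCyclic_of_orderOf_eq_card d (by rw [h4, hc, e]; rfl))
    exact orderOf_dvd_iff_pow_eq_one.1 (h4 ▸ (pow_dvd_pow 5 (show k ≤ 1 by omega)).trans (pow_one 5).dvd)
  let f : In D θ →* MulAut D := D.normalizerMonoidHom.comp (Subgroup.inclusion In_le_norm)
  have hf : ∀ s : In D θ, f s = 1 ↔ s.1 ∈ Ce D := fun s =>
    ⟨fun e d hd => (mul_inv_eq_iff_eq_mul.1 (show s.1 * d * s.1⁻¹ = d by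
      have := congrArg Subtype.val (DFunLike.congr_fun e ⟨d, hd⟩)
      exact this)).symm,
      fun e => MulEquiv.ext fun d => Subtype.ext (mul_inv_eq_iff_eq_mul.2 (e d d.2).symm)⟩
  have h2 : f ⟨t, ht⟩ ^ (Ce D).relIndex (In D θ) = 1 := by
    have h3 : f.ker = (Ce D).subgroupOf (In D θ) := Subgroup.ext hf
    rw [← map_pow, ← MonoidHom.mem_ker, Subgroup.relIndex, ← h3]
    exact Subgroup.pow_index_mem _ _
  have h3 : orderOf (f ⟨t, ht⟩) ∣ 96 := Nat.Coprime.dvd_of_dvd_mul_left (m := 5)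
    (Nat.Coprime.symm ((Nat.Prime.coprime_iff_not_dvd (by norm_num)).2 fun e =>
      (B.can1 G 5 M b D θ h).idx (e.trans (orderOf_dvd_of_pow_eq_one h2)))) (orderOf_dvd_of_pow_eq_one (aut_pow hc he _))
  refine Or.inr ⟨t ^ 2 ^ 5, pow_mem ht _, fun d hd => congrArg Subtype.val (fpf hc (α := f (⟨t, ht⟩ ^ 2 ^ 5)) ?_
    (fun e => h1 5 ((hf _).1 e)) ⟨d, hd⟩)⟩
  rw [map_pow, ← pow_mul]
  exact orderOf_dvd_iff_pow_eq_one.1 h3

/-- **the block part** -/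
theorem five (B : Blk) (H : Two 5 M b D) (h : Can 5 M b D θ) (hc : Nat.card D = 25) {A : Subgroup G}
    (hA : ∀ a ∈ A, ∀ c ∈ Ce D, a * c = c * a) (hAD : A ≤ Ce D) {n : ℕ} (hn : n.Coprime 3) (hAn : ∀ a ∈ A, a ^ n = 1)
    (neg : ∀ t, (∀ d ∈ D, t * d * t⁻¹ = d⁻¹) → ∀ a ∈ A, t * a * t⁻¹ = a⁻¹)
    (three : ∀ t ∈ Subgroup.normalizer (D : Set G), (∀ d ∈ D, d * (t * d * t⁻¹) * (t * (t * d * t⁻¹) * t⁻¹) = 1) →
      ∀ a ∈ A, t * a * t⁻¹ ∈ A ∧ a * (t * a * t⁻¹) * (t * (t * a * t⁻¹) * t⁻¹) = 1)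
    (hK : ∀ l : A →* ℂ, (∀ a, l (a * a) = 1) → ∃ u ∈ D, u ≠ 1 ∧ ∃ K : Subgroup G,
      (∀ α : MulAut G, (∀ x, α x ∈ D ↔ x ∈ D) → α u = u → ∀ x ∈ K, α x ∈ K) ∧
      (∀ x ∈ K, x ∈ Ce D → ∃ hx : x ∈ A, l ⟨x, hx⟩ = 1) ∧
      ∃ x ∈ K, x ∈ Subgroup.normalizer (D : Set G) ∧ x ∈ Cu u ∧ x ∉ Ce D) : False := by
  have : Fact (Nat.Prime 5) := ⟨by norm_num⟩
  have h0 := h.one_ne
  have := Fintype.ofFinite (Ce D)
  have h1 : ∀ a : A, ∀ c ∈ Ce D, θ (a * c) * θ 1 = θ a * θ c := fun a c hc =>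
    H97.TC.irr_central_mul h.irr (z := ⟨a, hAD a.2⟩) (Subgroup.mem_center_iff.2 fun y => Subtype.ext (hA a a.2 y y.2).symm) ⟨c, hc⟩
  let l : A →* ℂ :=
    { toFun := fun a => θ a / θ 1
      map_one' := div_self h0
      map_mul' := fun a a' => by
        have := h1 a a' (hAD a'.2)
        rw [Subgroup.coe_mul]
        field_simp
        exact this }
  have h2 : ∀ t ∈ In D θ, ∀ (a : A) (h' : t * a * t⁻¹ ∈ A), l ⟨_, h'⟩ = l a := fun t ht a _ => congrArg (· / θ 1) (ht.2 a)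
  have h3 : ∀ a, l (a * a) = 1 := fun a => by
    rcases neg_or_three B H h hc with ⟨t, ht, h3⟩ | ⟨t, ht, h3⟩
    · have h4 := neg t h3 a a.2
      rw [map_mul]
      nth_rewrite 1 [← h2 t ht a (h4 ▸ inv_mem a.2)]
      rw [← map_mul, ← map_one l]
      exact congrArg l (Subtype.ext (by simp [h4]))
    · have h4 : ∀ a, l a ^ 3 = 1 := fun a => by
        obtain ⟨h5, h6⟩ := three t (In_le_norm ht) h3 a a.2
        have h7 := (three t (In_le_norm ht) h3 _ h5).1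
        rw [pow_succ, pow_two]
        nth_rewrite 3 [← h2 t ht a h5]
        nth_rewrite 1 [← h2 t ht ⟨_, h5⟩ h7]
        nth_rewrite 2 [← h2 t ht a h5]
        rw [← map_mul, ← map_mul, ← map_one l]
        exact congrArg l (Subtype.ext h6)
      have h5 : l (a * a) ^ n = 1 := by rw [← map_pow, show (a * a) ^ n = 1 from Subtype.ext (hAn _ (a * a).2), map_one]
      exact (pow_eq_one_iff_of_coprime hn).1 ⟨h5, h4 _⟩
  obtain ⟨u, hu, hu1, K, h4, h5, x, h6, h7, h8, h9⟩ := hK l h3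
  refine h9 (B.k2 G 5 M b D θ H h (Or.inr rfl) hc u hu hu1 K ⟨fun α hα => h4 α hα.1.1 hα.2, fun y hy hy' => ?_⟩ x h6 h7 h8)
  obtain ⟨h10, h11⟩ := h5 y hy hy'
  exact (div_eq_one_iff_eq h0).1 h11

end Cfsg.Agent.TO.X5
end

-- part: TO/X/Pl5
section
/-!
# S4817, exceptional groups: pure planes, `p = 5` (helper61)
-/

set_option autoImplicit false
set_option maxRecDepth 100000
set_option maxHeartbeats 400000
set_option Elab.async false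

namespace Cfsg.Agent.TO.X.Pl

open Cfsg Cfsg.Lie Matrix Cfsg.Agent.KZ.DatX Cfsg.Agent.TO.X

/-- the search for F4, `p = 5` -/
abbrev jF45 : Job 4 := (beta% delta% lq265c502bbe fun b c _ e _ h _ j k l m _ _ _ _ _ _ _ _ _ _ =>
 (h 5 j k l m (fun u => (b u<|c)) (b (e (b 1<|b 0<|b 0<|b 1<|c) (b 1<|b 2<|b 4<|b 4<|c))<|c) (b 2<|b 4<|b 3<|b 2<|c) 1 0))

/-- certificates -/
def cF45a : List (Ent 4) := (beta% delta% lq265c502bbe fun b c _ e _ _ _ _ _ _ _ _ _ _ _ _ _ _ _ _ _ =>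
 (b (e (b 1<|b 0<|b 0<|b 0<|c)<|e 0<|e (b (b 0<|b 2<|b 2<|b 1<|c)<|c) c)<|b (e (b 2<|b 0<|b 0<|b 0<|c)<|e 0<|e (b (b 0<|b 2<|b 2<|b 1<|c)<|c) c)<|b (e (b 0<|b 1<|b 0<|
 b 0<|c)<|e 1<|e (b (b 0<|b 0<|b 1<|b 1<|c)<|b (b 1<|b 0<|b 0<|b 0<|c)<|c) c)<|b (e (b 0<|b 0<|b 1<|b 0<|c)<|e 2<|e (b (b 1<|b 1<|b 0<|b 0<|c)<|b (b 0<|b 0<|b 0<|b 1<|c)<|c) c)<|b (e (b 1<|b 0<|b 1<|b 0<|c)<|e 2<|
 e (b (b 0<|b 1<|b 0<|b 0<|c)<|b (b 0<|b 0<|b 0<|b 1<|c)<|c) c)<|b (e (b 0<|b 0<|b 0<|b 1<|c)<|e 3<|e (b (b 2<|b 2<|b 1<|b 0<|c)<|c) c)<|b (e (b 1<|b 0<|b 0<|b 1<|c)<|e 3<|e (b (b 0<|b 2<|b 1<|b 0<|c)<|c) (b (e (b 3<|b 1<|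
 b 1<|b 0<|c) (b 1<|b 2<|b 1<|c))<|b (e (b 1<|b 1<|b 2<|b 0<|c) (b 1<|b 0<|b 2<|b 1<|b 2<|b 3<|b 2<|b 1<|b 0<|b 2<|b 1<|b 3<|b 2<|b 1<|c))<|c))<|b (e (b 0<|b 0<|b 1<|b 1<|c)<|e 3<|e (b (b 1<|b 1<|b 0<|b 0<|c)<|c)
 c)<|b (e (b 0<|b 0<|b 0<|b 2<|c)<|e 3<|e (b (b 2<|b 2<|b 1<|b 0<|c)<|c) c)<|c))

private theorem _root_.Cfsg.Agent.KO6e5caa9.e0.{ku, kv} {α : Type kv} {M : List α → Sort ku} (φ : ∀ l, M l) {z : M List.nil} {s : ∀ a l, M l → M (List.cons a l)} (h0 : φ List.nil = z) (hs : ∀ a l, φ (List.cons a l) = s a l (φ l)) (l : List α) : φ l = @List.rec α M z s l := List.rec h0 (fun a l ih => (hs a l).trans (congrArg (s a l) ih)) l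
private noncomputable def _root_.Cfsg.Agent.KO6e5caa9.k1.{ku0} : type_of% @List.all.{ku0} := @(fun x0 x1 x2 => @List.rec.{(ku0+1), ku0} @x0 @(fun x3 => (@x0 → @Bool) → @Bool) @(fun x3 => @Bool.true) @(fun x3 x4 x5 x6 => @Bool.rec.{1} @(fun x7 => @Bool) @Bool.false (@x5 @x6) (@x6 @x3)) @x1 @x2)
private theorem _root_.Cfsg.Agent.KO6e5caa9.e1.{ku0} : @List.all.{ku0} = @_root_.Cfsg.Agent.KO6e5caa9.k1.{ku0} := by delta _root_.Cfsg.Agent.KO6e5caa9.k1; funext a0 a1 a2; refine (congrFun (_root_.Cfsg.Agent.KO6e5caa9.e0 (fun a1 a2 => @List.all.{ku0} a0 a1 a2) ?_ (fun c0 c1 => ?_) a1) a2 :) <;> (rfl')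
private noncomputable def _root_.Cfsg.Agent.KO6e5caa9.oEq.{ku} (α : Sort ku) (a b : Nat) (f t : α) : α := @Decidable.rec (a = b) (fun _ => α) (fun _ => f) (fun _ => t) (Nat.decEq a b)
private noncomputable def _root_.Cfsg.Agent.KO6e5caa9.k2.{ku} (α : Sort ku) (a b : Nat) (f t : α) : α := @Bool.rec (fun _ => α) f t (Nat.beq a b)
private theorem _root_.Cfsg.Agent.KO6e5caa9.e2.{ku} : @_root_.Cfsg.Agent.KO6e5caa9.oEq.{ku} = @_root_.Cfsg.Agent.KO6e5caa9.k2.{ku} := funext fun α => funext fun a => funext fun b => funext fun f => funext fun t => by delta _root_.Cfsg.Agent.KO6e5caa9.oEq _root_.Cfsg.Agent.KO6e5caa9.k2; cases h : Nat.beq a b <;> cases Nat.decEq a b <;> rename_i g <;> first | rfl | exact absurd g (Nat.ne_of_beq_eq_false h) | exact absurd (Nat.eq_of_beq_eq_true h) g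
private noncomputable def _root_.Cfsg.Agent.KO6e5caa9.k3 : (by first | exact type_of% @Cfsg.Agent.TO.X.Pl.go | exact Unit : Sort _) := by first | (refine @Subtype.val _ (fun g => @Cfsg.Agent.TO.X.Pl.go = @g) (@Subtype.mk _ _ (@(fun x0 x1 => @List.rec.{1, 0} (ℕ × (ℕ × (ℕ × (ℕ × ℕ)))) @(fun x2 => ℕ → ℕ → ℕ → ℕ → (@List.{0} ℕ) → @Bool) @(fun x2 x3 x4 x5 x6 => @x0 @x2 @x6) @(fun x2 x3 x4 x5 x6 x7 x8 x9 => @Nat.rec.{1} @(fun x10 => @Bool) @Bool.true @(fun x10 x11 => @Bool.rec.{1} @(fun x12 => @Bool) @Bool.false @x11 (@Bool.rec.{1} @(fun x12 => @Bool) @Bool.true (@Bool.rec.{1} @(fun x12 => @Bool) @Bool.true (@Bool.rec.{1} @(fun x12 => @Bool) @Bool.true (@x4 (@Nat.add @x5 (@Nat.mul (@Prod.fst.{0, 0} _ _ (@Prod.snd.{0, 0} _ _ @x2)) @x10)) (@Nat.sub @x6 (@Nat.mul (@Prod.fst.{0, 0} _ _ (@Prod.snd.{0, 0} _ _ (@Prod.snd.{0, 0} _ _ @x2))) @x10)) (@Nat.sub @x7 (@Nat.mul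 (@Prod.fst.{0, 0} _ _ (@Prod.snd.{0, 0} _ _ (@Prod.snd.{0, 0} _ _ (@Prod.snd.{0, 0} _ _ @x2)))) @x10)) (@Nat.sub @x8 (@Nat.mul (@Prod.snd.{0, 0} _ _ (@Prod.snd.{0, 0} _ _ (@Prod.snd.{0, 0} _ _ (@Prod.snd.{0, 0} _ _ @x2)))) @x10)) (@x10 :: @x9)) (@Nat.ble (@Nat.mul (@Prod.snd.{0, 0} _ _ (@Prod.snd.{0, 0} _ _ (@Prod.snd.{0, 0} _ _ (@Prod.snd.{0, 0} _ _ @x2)))) @x10) @x8)) (@Nat.ble (@Nat.mul (@Prod.fst.{0, 0} _ _ (@Prod.snd.{0, 0} _ _ (@Prod.snd.{0, 0} _ _ (@Prod.snd.{0, 0} _ _ @x2)))) @x10) @x7)) (@Nat.ble (@Nat.mul (@Prod.fst.{0, 0} _ _ (@Prod.snd.{0, 0} _ _ (@Prod.snd.{0, 0} _ _ @x2))) @x10) @x6))) (@Prod.fst.{0, 0} _ _ @x2)) @x1)) ?_); rfl') | exact @Cfsg.Agent.TO.X.Pl.go | exact ()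
private theorem _root_.Cfsg.Agent.KO6e5caa9.e3 : (by first | exact @Cfsg.Agent.TO.X.Pl.go = @_root_.Cfsg.Agent.KO6e5caa9.k3 | exact True : Prop) := by first | (delta _root_.Cfsg.Agent.KO6e5caa9.k3; exact @Subtype.property _ (fun g => @Cfsg.Agent.TO.X.Pl.go = @g) _) | rfl | trivial
private noncomputable def _root_.Cfsg.Agent.KO6e5caa9.k4.{ku0} : type_of% @List.reverseAux.{ku0} := @(fun x0 x1 x2 => @List.rec.{(ku0+1), ku0} @x0 @(fun x3 => (@List.{ku0} @x0) → @List.{ku0} @x0) @(fun x3 => @x3) @(fun x3 x4 x5 x6 => @x5 (@x3 :: @x6)) @x1 @x2)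
private theorem _root_.Cfsg.Agent.KO6e5caa9.e4.{ku0} : @List.reverseAux.{ku0} = @_root_.Cfsg.Agent.KO6e5caa9.k4.{ku0} := by delta _root_.Cfsg.Agent.KO6e5caa9.k4; funext a0 a1 a2; refine (congrFun (_root_.Cfsg.Agent.KO6e5caa9.e0 (fun a1 a2 => @List.reverseAux.{ku0} a0 a1 a2) ?_ (fun c0 c1 => ?_) a1) a2 :) <;> (rfl')
private noncomputable def _root_.Cfsg.Agent.KO6e5caa9.k5.{ku0, ku1} : type_of% @List.map.{ku0, ku1} := @(fun x0 x1 x2 x3 => @List.rec.{(ku1+1), ku0} @x0 @(fun x4 => @List.{ku1} @x1) [] @(fun x4 x5 x6 => (@x2 @x4) :: @x6) @x3)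
private theorem _root_.Cfsg.Agent.KO6e5caa9.e5.{ku0, ku1} : @List.map.{ku0, ku1} = @_root_.Cfsg.Agent.KO6e5caa9.k5.{ku0, ku1} := by delta _root_.Cfsg.Agent.KO6e5caa9.k5; funext a0 a1 a2 a3; refine (_root_.Cfsg.Agent.KO6e5caa9.e0 (fun a3 => @List.map.{ku0, ku1} a0 a1 a2 a3) ?_ (fun c0 c1 => ?_) a3 :) <;> (rfl')
private theorem _root_.Cfsg.Agent.KO6e5caa9.e6.{ku} {M : Nat → Sort ku} (φ : ∀ n, M n) {z : M Nat.zero} {s : ∀ n, M n → M (Nat.succ n)} (h0 : φ Nat.zero = z) (hs : ∀ n, φ (Nat.succ n) = s n (φ n)) (n : Nat) : φ n = @Nat.rec M z s n := Nat.rec h0 (fun n ih => (hs n).trans (congrArg (s n) ih)) n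
private noncomputable def _root_.Cfsg.Agent.KO6e5caa9.k7 : type_of% @List.range.loop := @(fun x0 x1 => @Nat.rec.{1} @(fun x2 => (@List.{0} ℕ) → @List.{0} ℕ) @(fun x2 => @x2) @(fun x2 x3 x4 => @x3 (@x2 :: @x4)) @x0 @x1)
private theorem _root_.Cfsg.Agent.KO6e5caa9.e7 : @List.range.loop = @_root_.Cfsg.Agent.KO6e5caa9.k7 := by delta _root_.Cfsg.Agent.KO6e5caa9.k7; funext a0 a1; refine (congrFun (_root_.Cfsg.Agent.KO6e5caa9.e6 (fun a0 a1 => @List.range.loop a0 a1) ?_ (fun c0 => ?_) a0) a1 :) <;> (rfl')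
private noncomputable def _root_.Cfsg.Agent.KO6e5caa9.k8 : (by first | exact type_of% @Cfsg.Agent.TO.X.Pl.run | exact Unit : Sort _) := by first | (refine @Subtype.val _ (fun g => @Cfsg.Agent.TO.X.Pl.run = @g) (@Subtype.mk _ _ (@(fun x0 x1 x2 x3 x4 x5 x6 x7 => @Cfsg.Agent.KO6e5caa9.k3 @(fun x8 x9 => @x2 @x8 (@Cfsg.Agent.KO6e5caa9.k4.{0} _ @x9 [])) (@Cfsg.Agent.KO6e5caa9.k5.{0, 0} _ _ @(fun x8 => (@x3 @x8, (@x4 @x8, (@x5 @x8, (@x6 @x8, @x7 @x8))))) (@Cfsg.Agent.KO6e5caa9.k7 @x1 [])) (nat_lit 0) @x0 @x0 @x0 [])) ?_); rewrite [← Cfsg.Agent.KO6e5caa9.e7, ← Cfsg.Agent.KO6e5caa9.e5.{0, 0}, ← Cfsg.Agent.KO6e5caa9.e4.{0}, ← Cfsg.Agent.KO6e5caa9.e3]; (try delta Cfsg.Agent.TO.X.Pl.run); (try generalize @Cfsg.Agent.TO.X.Pl.go = g0); rfl') | exact @Cfsg.Agent.TO.X.Pl.run | exact ()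
private theorem _root_.Cfsg.Agent.KO6e5caa9.e8 : (by first | exact @Cfsg.Agent.TO.X.Pl.run = @_root_.Cfsg.Agent.KO6e5caa9.k8 | exact True : Prop) := by first | (delta _root_.Cfsg.Agent.KO6e5caa9.k8; exact @Subtype.property _ (fun g => @Cfsg.Agent.TO.X.Pl.run = @g) _) | rfl | trivial
private noncomputable def _root_.Cfsg.Agent.KO6e5caa9.k9.{ku0} : type_of% @List.any.{ku0} := @(fun x0 x1 x2 => @List.rec.{(ku0+1), ku0} @x0 @(fun x3 => (@x0 → @Bool) → @Bool) @(fun x3 => @Bool.false) @(fun x3 x4 x5 x6 => @Bool.rec.{1} @(fun x7 => @Bool) (@x5 @x6) @Bool.true (@x6 @x3)) @x1 @x2)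
private theorem _root_.Cfsg.Agent.KO6e5caa9.e9.{ku0} : @List.any.{ku0} = @_root_.Cfsg.Agent.KO6e5caa9.k9.{ku0} := by delta _root_.Cfsg.Agent.KO6e5caa9.k9; funext a0 a1 a2; refine (congrFun (_root_.Cfsg.Agent.KO6e5caa9.e0 (fun a1 a2 => @List.any.{ku0} a0 a1 a2) ?_ (fun c0 c1 => ?_) a1) a2 :) <;> (rfl')
private noncomputable def _root_.Cfsg.Agent.KO6e5caa9.k10 : type_of% @Nat.decEq := @(fun x0 x1 => @Bool.rec.{1} @(fun x2 => (@Eq.{1} _ (@Nat.beq @x0 @x1) @x2) → @Decidable (@Eq.{1} _ @x0 @x1)) @(fun x2 => @Decidable.isFalse _ (@Nat.ne_of_beq_eq_false _ _ @x2)) @(fun x2 => @Decidable.isTrue _ (@Nat.eq_of_beq_eq_true _ _ @x2)) (@Nat.beq @x0 @x1) (@Eq.refl.{1} _ (@Nat.beq @x0 @x1)))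
private theorem _root_.Cfsg.Agent.KO6e5caa9.e10 : @Nat.decEq = @_root_.Cfsg.Agent.KO6e5caa9.k10 := by delta _root_.Cfsg.Agent.KO6e5caa9.k10; rfl'
private noncomputable def _root_.Cfsg.Agent.KO6e5caa9.k11 : type_of% @Int.decEq := @(fun x0 x1 => @Int.rec.{1} @(fun x2 => @Decidable (@Eq.{1} _ @x2 @x1)) @(fun x2 => @Int.rec.{1} @(fun x3 => @Decidable (@Eq.{1} _ (@Int.ofNat @x2) @x3)) @(fun x3 => @Decidable.rec.{1} _ @(fun x4 => @Decidable (@Eq.{1} _ (@Int.ofNat @x2) (@Int.ofNat @x3))) @(fun x4 => @Decidable.isFalse _ (@Int.decEq._proof_2 @x2 @x3 @x4)) @(fun x4 => @Decidable.isTrue _ (@Int.decEq._proof_1 @x2 @x3 @x4)) (@Cfsg.Agent.KO6e5caa9.k10 @x2 @x3)) @(fun x3 => @Decidable.isFalse _ (@Int.decEq._proof_3 @x2 @x3)) @x1) @(fun x2 => @Int.rec.{1} @(fun x3 => @Decidable (@Eq.{1} _ (@Int.negSucc @x2) @x3)) @(fun x3 => @Decidable.isFalse _ (@Int.decEq._proof_4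 @x2 @x3)) @(fun x3 => @Decidable.rec.{1} _ @(fun x4 => @Decidable (@Eq.{1} _ (@Int.negSucc @x2) (@Int.negSucc @x3))) @(fun x4 => @Decidable.isFalse _ (@Int.decEq._proof_6 @x2 @x3 @x4)) @(fun x4 => @Decidable.isTrue _ (@Int.decEq._proof_5 @x2 @x3 @x4)) (@Cfsg.Agent.KO6e5caa9.k10 @x2 @x3)) @x1) @x0)
private theorem _root_.Cfsg.Agent.KO6e5caa9.e11 : @Int.decEq = @_root_.Cfsg.Agent.KO6e5caa9.k11 := by delta _root_.Cfsg.Agent.KO6e5caa9.k11; rewrite [← Cfsg.Agent.KO6e5caa9.e10]; rfl'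
private noncomputable def _root_.Cfsg.Agent.KO6e5caa9.k12 : type_of% @Int.add := @(fun x0 x1 => @Int.rec.{1} @(fun x2 => ℤ) @(fun x2 => @Int.rec.{1} @(fun x3 => ℤ) @(fun x3 => @Int.ofNat (@Nat.add @x2 @x3)) @(fun x3 => @Nat.rec.{1} @(fun x4 => ℤ) (@Int.ofNat (@Nat.sub @x2 (@Nat.succ @x3))) @(fun x4 x5 => @Int.negSucc @x4) (@Nat.sub (@Nat.succ @x3) @x2)) @x1) @(fun x2 => @Int.rec.{1} @(fun x3 => ℤ) @(fun x3 => @Nat.rec.{1} @(fun x4 => ℤ) (@Int.ofNat (@Nat.sub @x3 (@Nat.succ @x2))) @(fun x4 x5 => @Int.negSucc @x4) (@Nat.sub (@Nat.succ @x2) @x3)) @(fun x3 => @Int.negSucc (@Nat.succ (@Nat.add @x2 @x3))) @x1) @x0)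
private theorem _root_.Cfsg.Agent.KO6e5caa9.e12 : @Int.add = @_root_.Cfsg.Agent.KO6e5caa9.k12 := by delta _root_.Cfsg.Agent.KO6e5caa9.k12; rfl'
private noncomputable def _root_.Cfsg.Agent.KO6e5caa9.k14.{ku0} : type_of% @List.get?Internal.{ku0} := @(fun x0 x1 x2 => @List.rec.{(ku0+1), ku0} @x0 @(fun x3 => ℕ → @Option.{ku0} @x0) @(fun x3 => @Option.none.{ku0} _) @(fun x3 x4 x5 x6 => @Nat.rec.{(ku0+1)} @(fun x7 => @Option.{ku0} @x0) (@Option.some.{ku0} _ @x3) @(fun x7 x8 => @x5 @x7) @x6) @x1 @x2)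
private theorem _root_.Cfsg.Agent.KO6e5caa9.e14.{ku0} : @List.get?Internal.{ku0} = @_root_.Cfsg.Agent.KO6e5caa9.k14.{ku0} := by delta _root_.Cfsg.Agent.KO6e5caa9.k14; funext a0 a1 a2; refine (congrFun (_root_.Cfsg.Agent.KO6e5caa9.e0 (fun a1 a2 => @List.get?Internal.{ku0} a0 a1 a2) ?_ (fun c0 c1 => ?_) a1) a2 :) <;> [(funext b0; (rfl')); (funext b0; (cases b0 with | @zero  => (rfl') | @succ b0_0 => (rfl')))]
private noncomputable def _root_.Cfsg.Agent.KO6e5caa9.k15 : (by first | exact type_of% @Cfsg.Agent.TO.X.Pl.inSp | exact Unit : Sort _) := by first | (refine @Subtype.val _ (fun g => @Cfsg.Agent.TO.X.Pl.inSp = @g) (@Subtype.mk _ _ (@(fun x0 x1 x2 x3 => @Cfsg.Agent.KO6e5caa9.k9.{0} _ (@Cfsg.Agent.KO6e5caa9.k7 @x0 []) @(fun x4 => @Cfsg.Agent.KO6e5caa9.k9.{0} _ (@Cfsg.Agent.KO6e5caa9.k7 @x0 []) @(fun x5 => @Cfsg.Agent.KO6e5caa9.k1.{0} _ (@Cfsg.Agent.KO6e5caa9.k7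 @x1 []) @(fun x6 => @Decidable.rec.{1} _ @(fun x7 => @Bool) @(fun x7 => @Bool.false) @(fun x7 => @Bool.true) (@Cfsg.Agent.KO6e5caa9.k11 (@Int.rec.{1} @(fun x7 => ℤ) @(fun x7 => @Int.ofNat (@Nat.mod @x7 @x0)) @(fun x7 => @Nat.rec.{1} @(fun x8 => ℤ) (@Int.ofNat (@Nat.sub @x0 (@Nat.succ (@Nat.mod @x7 @x0)))) @(fun x8 x9 => @Int.negSucc @x8) (@Nat.sub (@Nat.succ (@Nat.mod @x7 @x0)) @x0)) (@Int.add (@Option.rec.{1, 0} ℤ @(fun x7 => ℤ) (@Int.ofNat (nat_lit 0)) @(fun x7 => @x7) (@List.get?Internal.{0} _ @x3 @x6)) (@Nat.rec.{1} @(fun x7 => ℤ) (@Int.ofNat (nat_lit 0)) @(fun x7 x8 => @Int.negSucc @x7) (@Nat.add (@Nat.mul @x4 (@Option.rec.{1, 0} ℕ @(fun x7 => ℕ) (nat_lit 0) @(fun x7 => @x7) (@List.get?Internal.{0} _ (@Prod.fst.{0, 0} _ _ @x2) @x6))) (@Nat.mul @x5 (@Option.rec.{1, 0} ℕ @(fun x7 => ℕ) (nat_lit 0) @(fun x7 => @x7) (@List.get?Internal.{0} _ (@Prod.snd.{0,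 0} _ _ @x2) @x6))))))) (@Int.ofNat (nat_lit 0)))))))) ?_); rewrite [← Cfsg.Agent.KO6e5caa9.e11, ← Cfsg.Agent.KO6e5caa9.e1.{0}, ← Cfsg.Agent.KO6e5caa9.e7, ← Cfsg.Agent.KO6e5caa9.e9.{0}]; rfl') | exact @Cfsg.Agent.TO.X.Pl.inSp | exact ()
private theorem _root_.Cfsg.Agent.KO6e5caa9.e15 : (by first | exact @Cfsg.Agent.TO.X.Pl.inSp = @_root_.Cfsg.Agent.KO6e5caa9.k15 | exact True : Prop) := by first | (delta _root_.Cfsg.Agent.KO6e5caa9.k15; exact @Subtype.property _ (fun g => @Cfsg.Agent.TO.X.Pl.inSp = @g) _) | rfl | trivial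
private noncomputable def _root_.Cfsg.Agent.KO6e5caa9.k16.{ku0, ku1} : type_of% @List.foldr.{ku0, ku1} := @(fun x0 x1 x2 x3 x4 => @List.rec.{(ku1+1), ku0} @x0 @(fun x5 => @x1) @x3 @(fun x5 x6 x7 => @x2 @x5 @x7) @x4)
private theorem _root_.Cfsg.Agent.KO6e5caa9.e16.{ku0, ku1} : @List.foldr.{ku0, ku1} = @_root_.Cfsg.Agent.KO6e5caa9.k16.{ku0, ku1} := by delta _root_.Cfsg.Agent.KO6e5caa9.k16; funext a0 a1 a2 a3 a4; refine (_root_.Cfsg.Agent.KO6e5caa9.e0 (fun a4 => @List.foldr.{ku0, ku1} a0 a1 a2 a3 a4) ?_ (fun c0 c1 => ?_) a4 :) <;> (rfl')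
private noncomputable def _root_.Cfsg.Agent.KO6e5caa9.k18.{ku0, ku1, ku2} : type_of% @List.zipWith.{ku0, ku1, ku2} := @(fun x0 x1 x2 x3 x4 x5 => @List.rec.{(max (ku1+1) (ku2+1)), ku0} @x0 @(fun x6 => (@List.{ku1} @x1) → @List.{ku2} @x2) @(fun x6 => []) @(fun x6 x7 x8 x9 => @List.rec.{(ku2+1), ku1} @x1 @(fun x10 => @List.{ku2} @x2) [] @(fun x10 x11 x12 => (@x3 @x6 @x10) :: (@x8 @x11)) @x9) @x4 @x5)
private theorem _root_.Cfsg.Agent.KO6e5caa9.e18.{ku0, ku1, ku2} : @List.zipWith.{ku0, ku1, ku2} = @_root_.Cfsg.Agent.KO6e5caa9.k18.{ku0, ku1, ku2} := by delta _root_.Cfsg.Agent.KO6e5caa9.k18; funext a0 a1 a2 a3 a4 a5; refine (congrFun (_root_.Cfsg.Agent.KO6e5caa9.e0 (fun a4 a5 => @List.zipWith.{ku0, ku1, ku2} a0 a1 a2 a3 a4 a5) ?_ (fun c0 c1 => ?_) a4) a5 :) <;> [(funext b0; (rfl')); (funext b0; (cases b0 with | @nil  => (rfl') | @cons b0_0 b0_1 => (rfl')))]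
private noncomputable def _root_.Cfsg.Agent.KO6e5caa9.k19 : type_of% @Int.mul := @(fun x0 x1 => @Int.rec.{1} @(fun x2 => ℤ) @(fun x2 => @Int.rec.{1} @(fun x3 => ℤ) @(fun x3 => @Int.ofNat (@Nat.mul @x2 @x3)) @(fun x3 => @Nat.rec.{1} @(fun x4 => ℤ) (@Int.ofNat (nat_lit 0)) @(fun x4 x5 => @Int.negSucc @x4) (@Nat.mul @x2 (@Nat.succ @x3))) @x1) @(fun x2 => @Int.rec.{1} @(fun x3 => ℤ) @(fun x3 => @Nat.rec.{1} @(fun x4 => ℤ) (@Int.ofNat (nat_lit 0)) @(fun x4 x5 => @Int.negSucc @x4) (@Nat.mul (@Nat.succ @x2) @x3)) @(fun x3 => @Int.ofNat (@Nat.mul (@Nat.succ @x2) (@Nat.succ @x3))) @x1) @x0)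
private theorem _root_.Cfsg.Agent.KO6e5caa9.e19 : @Int.mul = @_root_.Cfsg.Agent.KO6e5caa9.k19 := by delta _root_.Cfsg.Agent.KO6e5caa9.k19; rfl'
private noncomputable def _root_.Cfsg.Agent.KO6e5caa9.k20 : (by first | exact type_of% @Cfsg.Agent.KZ.DatX.refL | exact Unit : Sort _) := by first | (refine @Subtype.val _ (fun g => @Cfsg.Agent.KZ.DatX.refL = @g) (@Subtype.mk _ _ (@(fun x0 x1 x2 => @Cfsg.Agent.KO6e5caa9.k18.{0, 0, 0} _ _ _ @(fun x3 x4 => @Cfsg.Agent.KO6e5caa9.k12 @x3 (@Int.rec.{1} @(fun x5 => ℤ) @(fun x5 => @Nat.rec.{1} @(fun x6 => ℤ) (@Int.ofNat (nat_lit 0)) @(fun x6 x7 => @Int.negSucc @x6) @x5) @(fun x5 => @Int.ofNat (@Nat.succ @x5)) (@Cfsg.Agent.KO6e5caa9.k19 (@Option.rec.{1, 0} ℤ @(fun x5 => ℤ) (@Int.ofNat (nat_lit 0)) @(fun x5 => @x5) (@Cfsg.Agent.KO6e5caa9.k14.{0} _ @x2 @x1)) @x4))) @x2 (@Option.rec.{1, 0} (@List.{0} ℤ) @(fun x3 => @List.{0}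 ℤ) [] @(fun x3 => @x3) (@Cfsg.Agent.KO6e5caa9.k14.{0} _ @x0 @x1)))) ?_); rewrite [← Cfsg.Agent.KO6e5caa9.e14.{0}, ← Cfsg.Agent.KO6e5caa9.e19, ← Cfsg.Agent.KO6e5caa9.e12, ← Cfsg.Agent.KO6e5caa9.e18.{0, 0, 0}]; rfl') | exact @Cfsg.Agent.KZ.DatX.refL | exact ()
private theorem _root_.Cfsg.Agent.KO6e5caa9.e20 : (by first | exact @Cfsg.Agent.KZ.DatX.refL = @_root_.Cfsg.Agent.KO6e5caa9.k20 | exact True : Prop) := by first | (delta _root_.Cfsg.Agent.KO6e5caa9.k20; exact @Subtype.property _ (fun g => @Cfsg.Agent.KZ.DatX.refL = @g) _) | rfl | trivial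
private noncomputable def _root_.Cfsg.Agent.KO6e5caa9.k21.{ku0} : type_of% @List.append.{ku0} := @(fun x0 x1 x2 => @List.rec.{(ku0+1), ku0} @x0 @(fun x3 => (@List.{ku0} @x0) → @List.{ku0} @x0) @(fun x3 => @x3) @(fun x3 x4 x5 x6 => @x3 :: (@x5 @x6)) @x1 @x2)
private theorem _root_.Cfsg.Agent.KO6e5caa9.e21.{ku0} : @List.append.{ku0} = @_root_.Cfsg.Agent.KO6e5caa9.k21.{ku0} := by delta _root_.Cfsg.Agent.KO6e5caa9.k21; funext a0 a1 a2; refine (congrFun (_root_.Cfsg.Agent.KO6e5caa9.e0 (fun a1 a2 => @List.append.{ku0} a0 a1 a2) ?_ (fun c0 c1 => ?_) a1) a2 :) <;> (rfl')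
private noncomputable def _root_.Cfsg.Agent.KO6e5caa9.k22.{ku0} : type_of% @List.flatten.{ku0} := @(fun x0 x1 => @List.rec.{(ku0+1), ku0} (@List.{ku0} @x0) @(fun x2 => @List.{ku0} @x0) [] @(fun x2 x3 x4 => @Cfsg.Agent.KO6e5caa9.k21.{ku0} _ @x2 @x4) @x1)
private theorem _root_.Cfsg.Agent.KO6e5caa9.e22.{ku0} : @List.flatten.{ku0} = @_root_.Cfsg.Agent.KO6e5caa9.k22.{ku0} := by delta _root_.Cfsg.Agent.KO6e5caa9.k22; rewrite [← Cfsg.Agent.KO6e5caa9.e21.{ku0}]; funext a0 a1; refine (_root_.Cfsg.Agent.KO6e5caa9.e0 (fun a1 => @List.flatten.{ku0} a0 a1) ?_ (fun c0 c1 => ?_) a1 :) <;> (rfl')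
private noncomputable def _root_.Cfsg.Agent.KO6e5caa9.k23 : (by first | exact type_of% @Cfsg.Agent.KZ.DatX.app | exact Unit : Sort _) := by first | (refine @Subtype.val _ (fun g => @Cfsg.Agent.KZ.DatX.app = @g) (@Subtype.mk _ _ (@(fun x0 x1 x2 x3 => @Cfsg.Agent.KO6e5caa9.k16.{0, 0} _ _ @(fun x4 x5 => @Cfsg.Agent.KO6e5caa9.k20 @x1 @x4 @x5) @x3 (@Cfsg.Agent.KO6e5caa9.k22.{0} _ (@Cfsg.Agent.KO6e5caa9.k5.{0, 0} _ _ @(fun x4 => (@Fin.val _ @x4) :: []) @x2)))) ?_); rewrite [← Cfsg.Agent.KO6e5caa9.e5.{0, 0}, ← Cfsg.Agent.KO6e5caa9.e22.{0}, ← Cfsg.Agent.KO6e5caa9.e20, ← Cfsg.Agent.KO6e5caa9.e16.{0, 0}]; (try delta Cfsg.Agent.KZ.DatX.app); (try generalize @Cfsg.Agent.KZ.DatX.refL = g0); rfl') | exact @Cfsg.Agent.KZ.DatX.app | exact ()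
private theorem _root_.Cfsg.Agent.KO6e5caa9.e23 : (by first | exact @Cfsg.Agent.KZ.DatX.app = @_root_.Cfsg.Agent.KO6e5caa9.k23 | exact True : Prop) := by first | (delta _root_.Cfsg.Agent.KO6e5caa9.k23; exact @Subtype.property _ (fun g => @Cfsg.Agent.KZ.DatX.app = @g) _) | rfl | trivial
private noncomputable def _root_.Cfsg.Agent.KO6e5caa9.k24.{ku0} : type_of% @Fin.foldr.loop.{ku0} := @(fun x0 x1 x2 x3 x4 x5 => @Nat.rec.{ku0} @(fun x6 => (@LE.le.{0} _ _ @x6 @x1) → @x0 → @x0) @(fun x6 x7 => @x7) @(fun x6 x7 x8 x9 => @x7 (@Nat.le_of_lt _ _ @x8) (@x2 (@Fin.mk _ @x6 @x8) @x9)) @x3 @x4 @x5)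
private theorem _root_.Cfsg.Agent.KO6e5caa9.e24.{ku0} : @Fin.foldr.loop.{ku0} = @_root_.Cfsg.Agent.KO6e5caa9.k24.{ku0} := by delta _root_.Cfsg.Agent.KO6e5caa9.k24; funext a0 a1 a2 a3 a4 a5; refine (congrFun (congrFun (_root_.Cfsg.Agent.KO6e5caa9.e6 (fun a3 a4 a5 => @Fin.foldr.loop.{ku0} a0 a1 a2 a3 a4 a5) ?_ (fun c0 => ?_) a3) a4) a5 :) <;> (rfl')
private noncomputable def _root_.Cfsg.Agent.KO6e5caa9.k26.{ku0} : type_of% @List.beq.{ku0} := @(fun x0 x1 x2 x3 => @List.rec.{(ku0+1), ku0} @x0 @(fun x4 => (@List.{ku0} @x0) → @Bool) @(fun x4 => @List.rec.{1, ku0} @x0 @(fun x5 => @Bool) @Bool.true @(fun x5 x6 x7 => @Bool.false) @x4) @(fun x4 x5 x6 x7 => @List.rec.{1, ku0} @x0 @(fun x8 => @Bool) @Bool.false @(fun x8 x9 x10 => @Bool.rec.{1} @(fun x11 => @Bool) @Bool.false (@x6 @x9) (@BEq.beq.{ku0} _ @x1 @x4 @x8)) @x7) @x2 @x3)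
private theorem _root_.Cfsg.Agent.KO6e5caa9.e26.{ku0} : @List.beq.{ku0} = @_root_.Cfsg.Agent.KO6e5caa9.k26.{ku0} := by delta _root_.Cfsg.Agent.KO6e5caa9.k26; funext a0 a1 a2 a3; refine (congrFun (_root_.Cfsg.Agent.KO6e5caa9.e0 (fun a2 a3 => @List.beq.{ku0} a0 a1 a2 a3) ?_ (fun c0 c1 => ?_) a2) a3 :) <;> [(funext b0; (cases b0 with | @nil  => (rfl') | @cons b0_0 b0_1 => (rfl'))); (funext b0; (cases b0 with | @nil  => (rfl') | @cons b0_0 b0_1 => (rfl')))]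
private noncomputable def _root_.Cfsg.Agent.KO6e5caa9.k27 : (by first | exact type_of% @Cfsg.Agent.TO.X.Pl.Job.fnl | exact Unit : Sort _) := by first | (refine @Subtype.val _ (fun g => @Cfsg.Agent.TO.X.Pl.Job.fnl = @g) (@Subtype.mk _ _ (@(fun x0 x1 x2 x3 x4 => @Cfsg.Agent.KO6e5caa9.k9.{0} _ @x2 @(fun x5 => @Bool.rec.{1} @(fun x6 => @Bool) @Bool.false (@Cfsg.Agent.KO6e5caa9.k9.{0} _ (@Cfsg.Agent.TO.X.Pl.Job.std _ @x1) @(fun x6 => @Bool.rec.{1} @(fun x7 => @Bool) @Bool.false (@Cfsg.Agent.KO6e5caa9.k15 (@Cfsg.Agent.TO.X.Pl.Job.p _ @x1) @x0 @x6 (@Cfsg.Agent.KO6e5caa9.k23 _ (@Cfsg.Agent.TO.X.Pl.Job.A _ @x1) (@Prod.snd.{0, 0} _ _ @x5) (@Cfsg.Agent.KO6e5caa9.k24.{1} _ @x0 @(fun x7 x8 => (@Int.ofNat (@Option.rec.{1, 0} ℕ @(fun x9 => ℕ) (nat_lit 0) @(fun x9 => @x9) (@Cfsg.Agent.KO6e5caa9.k14.{0} _ @x4 (@Fin.val _ @x7)))) :: @x8) @x0 (@Nat.le_refl @x0) []))) (@Cfsg.Agent.KO6e5caa9.k15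 (@Cfsg.Agent.TO.X.Pl.Job.p _ @x1) @x0 @x6 (@Cfsg.Agent.KO6e5caa9.k23 _ (@Cfsg.Agent.TO.X.Pl.Job.A _ @x1) (@Prod.snd.{0, 0} _ _ @x5) (@Cfsg.Agent.KO6e5caa9.k24.{1} _ @x0 @(fun x7 x8 => (@Int.ofNat (@Option.rec.{1, 0} ℕ @(fun x9 => ℕ) (nat_lit 0) @(fun x9 => @x9) (@Cfsg.Agent.KO6e5caa9.k14.{0} _ @x3 (@Fin.val _ @x7)))) :: @x8) @x0 (@Nat.le_refl @x0) []))))) (@Cfsg.Agent.KO6e5caa9.k26.{0} _ (@BEq.mk.{0} _ @(fun x6 x7 => @Cfsg.Agent.KO6e5caa9.k2.{1} @Bool @x6 @x7 @Bool.false @Bool.true)) (@Prod.fst.{0, 0} _ _ @x5) @x4)))) ?_); rewrite [← Cfsg.Agent.KO6e5caa9.e2.{1}, ← Cfsg.Agent.KO6e5caa9.e26.{0}, ← Cfsg.Agent.KO6e5caa9.e14.{0}, ← Cfsg.Agent.KO6e5caa9.e24.{1}, ← Cfsg.Agent.KO6e5caa9.e23, ← Cfsg.Agent.KO6e5caa9.e15, ← Cfsg.Agent.KO6e5caa9.e9.{0}]; (try delta Cfsg.Agent.TO.X.Pl.Job.fnl Cfsg.Agent.TO.X.Pl.fz); (try generalize @Cfsg.Agent.TO.X.Pl.inSp = g0); (try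 generalize @Cfsg.Agent.KZ.DatX.app = g1); rfl') | exact @Cfsg.Agent.TO.X.Pl.Job.fnl | exact ()
private theorem _root_.Cfsg.Agent.KO6e5caa9.e27 : (by first | exact @Cfsg.Agent.TO.X.Pl.Job.fnl = @_root_.Cfsg.Agent.KO6e5caa9.k27 | exact True : Prop) := by first | (delta _root_.Cfsg.Agent.KO6e5caa9.k27; exact @Subtype.property _ (fun g => @Cfsg.Agent.TO.X.Pl.Job.fnl = @g) _) | rfl | trivial
private noncomputable def _root_.Cfsg.Agent.KO6e5caa9.k28 : (by first | exact type_of% @Cfsg.Agent.TO.X.Pl.hT | exact Unit : Sort _) := by first | (refine @Subtype.val _ (fun g => @Cfsg.Agent.TO.X.Pl.hT = @g) (@Subtype.mk _ _ (@(fun x0 x1 x2 => @List.rec.{1, 0} (ℕ × (ℕ × ℕ)) @(fun x3 => ℕ) (nat_lit 0) @(fun x3 x4 x5 => @Nat.add (@Nat.shiftLeft (nat_lit 1) (@Nat.mul (nat_lit 8) (@Nat.add (@Prod.fst.{0, 0} _ _ @x3) (@Nat.mod (@Nat.mul (@Nat.add (@Prod.snd.{0, 0} _ _ (@Prod.snd.{0,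 0} _ _ @x3)) (@Nat.mul @x2 (@Prod.fst.{0, 0} _ _ (@Prod.snd.{0, 0} _ _ @x3)))) (@Nat.add (@Prod.snd.{0, 0} _ _ (@Prod.snd.{0, 0} _ _ @x3)) (@Nat.mul @x2 (@Prod.fst.{0, 0} _ _ (@Prod.snd.{0, 0} _ _ @x3))))) @x0)))) @x5) @x1)) ?_); rfl') | exact @Cfsg.Agent.TO.X.Pl.hT | exact ()
private theorem _root_.Cfsg.Agent.KO6e5caa9.e28 : (by first | exact @Cfsg.Agent.TO.X.Pl.hT = @_root_.Cfsg.Agent.KO6e5caa9.k28 | exact True : Prop) := by first | (delta _root_.Cfsg.Agent.KO6e5caa9.k28; exact @Subtype.property _ (fun g => @Cfsg.Agent.TO.X.Pl.hT = @g) _) | rfl | trivial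
private noncomputable def _root_.Cfsg.Agent.KO6e5caa9.k29 : (by first | exact type_of% @Cfsg.Agent.TO.X.Pl.dt | exact Unit : Sort _) := by first | (refine @Subtype.val _ (fun g => @Cfsg.Agent.TO.X.Pl.dt = @g) (@Subtype.mk _ _ (@(fun x0 => @List.rec.{1, 0} ℕ @(fun x1 => (@List.{0} ℕ) → ℕ) @(fun x1 => nat_lit 0) @(fun x1 x2 x3 x4 => @List.rec.{1, 0} ℕ @(fun x5 => ℕ) (nat_lit 0) @(fun x5 x6 x7 => @Nat.add (@Nat.mul @x1 @x5) (@x3 @x6)) @x4) @x0)) ?_); rfl') | exact @Cfsg.Agent.TO.X.Pl.dt | exact ()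
private theorem _root_.Cfsg.Agent.KO6e5caa9.e29 : (by first | exact @Cfsg.Agent.TO.X.Pl.dt = @_root_.Cfsg.Agent.KO6e5caa9.k29 | exact True : Prop) := by first | (delta _root_.Cfsg.Agent.KO6e5caa9.k29; exact @Subtype.property _ (fun g => @Cfsg.Agent.TO.X.Pl.dt = @g) _) | rfl | trivial
private noncomputable def _root_.Cfsg.Agent.KO6e5caa9.k30 : (by first | exact type_of% @Cfsg.Agent.TO.X.Pl.TT | exact Unit : Sort _) := by first | (refine @Subtype.val _ (fun g => @Cfsg.Agent.TO.X.Pl.TT = @g) (@Subtype.mk _ _ (@(fun x0 x1 x2 x3 => @Cfsg.Agent.KO6e5caa9.k5.{0, 0} _ _ @(fun x4 => (@Prod.fst.{0, 0} _ _ @x4, (@Nat.mod (@Cfsg.Agent.KO6e5caa9.k29 (@Prod.snd.{0, 0} _ _ @x4) @x2) @x0, @Nat.mod (@Cfsg.Agent.KO6e5caa9.k29 (@Prod.snd.{0, 0} _ _ @x4) @x3) @x0))) @x1)) ?_); rewrite [← Cfsg.Agent.KO6e5caa9.e29, ← Cfsg.Agent.KO6e5caa9.e5.{0, 0}]; (try delta Cfsg.Agent.TO.X.Pl.TT);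 (try generalize @Cfsg.Agent.TO.X.Pl.dt = g0); rfl') | exact @Cfsg.Agent.TO.X.Pl.TT | exact ()
private theorem _root_.Cfsg.Agent.KO6e5caa9.e30 : (by first | exact @Cfsg.Agent.TO.X.Pl.TT = @_root_.Cfsg.Agent.KO6e5caa9.k30 | exact True : Prop) := by first | (delta _root_.Cfsg.Agent.KO6e5caa9.k30; exact @Subtype.property _ (fun g => @Cfsg.Agent.TO.X.Pl.TT = @g) _) | rfl | trivial
private noncomputable def _root_.Cfsg.Agent.KO6e5caa9.k31 : type_of% @List.range' := @(fun x0 x1 x2 => @Nat.rec.{1} @(fun x3 => ℕ → ℕ → @List.{0} ℕ) @(fun x3 x4 => []) @(fun x3 x4 x5 x6 => @x5 :: (@x4 (@Nat.add @x5 @x6) @x6)) @x1 @x0 @x2)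
private theorem _root_.Cfsg.Agent.KO6e5caa9.e31 : @List.range' = @_root_.Cfsg.Agent.KO6e5caa9.k31 := by delta _root_.Cfsg.Agent.KO6e5caa9.k31; funext a0 a1 a2; refine (congrFun (congrFun (_root_.Cfsg.Agent.KO6e5caa9.e6 (fun a1 a0 a2 => @List.range' a0 a1 a2) ?_ (fun c0 => ?_) a1) a0) a2 :) <;> (rfl')
private noncomputable def _root_.Cfsg.Agent.KO6e5caa9.k32 : (by first | exact type_of% @Cfsg.Agent.TO.X.Pl.HU | exact Unit : Sort _) := by first | (refine @Subtype.val _ (fun g => @Cfsg.Agent.TO.X.Pl.HU = @g) (@Subtype.mk _ _ (@(fun x0 x1 x2 x3 => @Cfsg.Agent.KO6e5caa9.k22.{0} _ (@Cfsg.Agent.KO6e5caa9.k5.{0, 0} _ _ @(fun x4 => @Cfsg.Agent.KO6e5caa9.k5.{0, 0} _ _ @(fun x5 => @Cfsg.Agent.KO6e5caa9.k28 @x0 (@Cfsg.Agent.KO6e5caa9.k30 @x0 @x1 @x4 []) @x5) (@Cfsg.Agent.KO6e5caa9.k31 (nat_lit 1) (@Nat.sub @x0 (nat_lit 1)) (nat_lit 1))) (@x2 @x3)))) ?_); rewrite [←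 Cfsg.Agent.KO6e5caa9.e31, ← Cfsg.Agent.KO6e5caa9.e30, ← Cfsg.Agent.KO6e5caa9.e28, ← Cfsg.Agent.KO6e5caa9.e5.{0, 0}, ← Cfsg.Agent.KO6e5caa9.e22.{0}]; (try delta Cfsg.Agent.TO.X.Pl.HU); (try generalize @Cfsg.Agent.TO.X.Pl.hT = g0); (try generalize @Cfsg.Agent.TO.X.Pl.TT = g1); rfl') | exact @Cfsg.Agent.TO.X.Pl.HU | exact ()
private theorem _root_.Cfsg.Agent.KO6e5caa9.e32 : (by first | exact @Cfsg.Agent.TO.X.Pl.HU = @_root_.Cfsg.Agent.KO6e5caa9.k32 | exact True : Prop) := by first | (delta _root_.Cfsg.Agent.KO6e5caa9.k32; exact @Subtype.property _ (fun g => @Cfsg.Agent.TO.X.Pl.HU = @g) _) | rfl | trivial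
private noncomputable def _root_.Cfsg.Agent.KO6e5caa9.k33 : (by first | exact type_of% @Cfsg.Agent.TO.X.Pl.okH | exact Unit : Sort _) := by first | (refine @Subtype.val _ (fun g => @Cfsg.Agent.TO.X.Pl.okH = @g) (@Subtype.mk _ _ (@(fun x0 x1 x2 x3 x4 => @Nat.rec.{1} @(fun x5 => @Bool) @Bool.true @(fun x5 x6 => @Bool.rec.{1} @(fun x7 => @Bool) @Bool.false @x6 (@Cfsg.Agent.KO6e5caa9.k9.{0} _ (@Cfsg.Agent.KO6e5caa9.k32 @x0 @x1 @x2 @x3) @(fun x7 => @Nat.beq @x7 (@Cfsg.Agent.KO6e5caa9.k28 @x0 (@Cfsg.Agent.KO6e5caa9.k30 @x0 @x1 @x3 @x4) @x5)))) @x0)) ?_); rewrite [← Cfsg.Agent.KO6e5caa9.e30, ← Cfsg.Agent.KO6e5caa9.e28, ← Cfsg.Agent.KO6e5caa9.e32, ← Cfsg.Agent.KO6e5caa9.e9.{0}]; (try delta Cfsg.Agent.TO.X.Pl.okH Cfsg.Agent.TO.X.Pl.lp); (try generalize @Cfsg.Agent.TO.X.Pl.HU = g0); (try generalize @Cfsg.Agent.TO.X.Pl.hT = g1); (try generalize @Cfsg.Agent.TO.X.Pl.TT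 = g2); rfl') | exact @Cfsg.Agent.TO.X.Pl.okH | exact ()
private theorem _root_.Cfsg.Agent.KO6e5caa9.e33 : (by first | exact @Cfsg.Agent.TO.X.Pl.okH = @_root_.Cfsg.Agent.KO6e5caa9.k33 | exact True : Prop) := by first | (delta _root_.Cfsg.Agent.KO6e5caa9.k33; exact @Subtype.property _ (fun g => @Cfsg.Agent.TO.X.Pl.okH = @g) _) | rfl | trivial
private noncomputable def _root_.Cfsg.Agent.KO6e5caa9.k34.{ku0} : type_of% @List.length.{ku0} := @(fun x0 x1 => @List.rec.{1, ku0} @x0 @(fun x2 => ℕ) (nat_lit 0) @(fun x2 x3 x4 => @Nat.add @x4 (nat_lit 1)) @x1)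
private theorem _root_.Cfsg.Agent.KO6e5caa9.e34.{ku0} : @List.length.{ku0} = @_root_.Cfsg.Agent.KO6e5caa9.k34.{ku0} := by delta _root_.Cfsg.Agent.KO6e5caa9.k34; funext a0 a1; refine (_root_.Cfsg.Agent.KO6e5caa9.e0 (fun a1 => @List.length.{ku0} a0 a1) ?_ (fun c0 c1 => ?_) a1 :) <;> (rfl')
private noncomputable def _root_.Cfsg.Agent.KO6e5caa9.k35.{ku0} : type_of% @List.filter.{ku0} := @(fun x0 x1 x2 => @List.rec.{(ku0+1), ku0} @x0 @(fun x3 => @List.{ku0} @x0) [] @(fun x3 x4 x5 => @Bool.rec.{(ku0+1)} @(fun x6 => @List.{ku0} @x0) @x5 (@x3 :: @x5) (@x1 @x3)) @x2)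
private theorem _root_.Cfsg.Agent.KO6e5caa9.e35.{ku0} : @List.filter.{ku0} = @_root_.Cfsg.Agent.KO6e5caa9.k35.{ku0} := by delta _root_.Cfsg.Agent.KO6e5caa9.k35; funext a0 a1 a2; refine (_root_.Cfsg.Agent.KO6e5caa9.e0 (fun a2 => @List.filter.{ku0} a0 a1 a2) ?_ (fun c0 c1 => ?_) a2 :) <;> (rfl')
private noncomputable def _root_.Cfsg.Agent.KO6e5caa9.k36 : (by first | exact type_of% @Cfsg.Agent.TO.X.Pl.vz | exact Unit : Sort _) := by first | (refine @Subtype.val _ (fun g => @Cfsg.Agent.TO.X.Pl.vz = @g) (@Subtype.mk _ _ (@(fun x0 x1 x2 => @Nat.beq (@Nat.mod (@Cfsg.Agent.KO6e5caa9.k29 (@Prod.snd.{0, 0} _ _ @x2) @x1) @x0) (nat_lit 0))) ?_); rewrite [← Cfsg.Agent.KO6e5caa9.e29]; (try delta Cfsg.Agent.TO.X.Pl.vz); (try generalize @Cfsg.Agent.TO.X.Pl.dt = g0); rfl') | exact @Cfsg.Agent.TO.X.Pl.vz | exact ()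
private theorem _root_.Cfsg.Agent.KO6e5caa9.e36 : (by first | exact @Cfsg.Agent.TO.X.Pl.vz = @_root_.Cfsg.Agent.KO6e5caa9.k36 | exact True : Prop) := by first | (delta _root_.Cfsg.Agent.KO6e5caa9.k36; exact @Subtype.property _ (fun g => @Cfsg.Agent.TO.X.Pl.vz = @g) _) | rfl | trivial
private noncomputable def _root_.Cfsg.Agent.KO6e5caa9.k37.{ku0} : type_of% @List.countP.go.{ku0} := @(fun x0 x1 x2 x3 => @List.rec.{1, ku0} @x0 @(fun x4 => ℕ → ℕ) @(fun x4 => @x4) @(fun x4 x5 x6 x7 => @Bool.rec.{1} @(fun x8 => ℕ) (@x6 @x7) (@x6 (@Nat.add @x7 (nat_lit 1))) (@x1 @x4)) @x2 @x3)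
private theorem _root_.Cfsg.Agent.KO6e5caa9.e37.{ku0} : @List.countP.go.{ku0} = @_root_.Cfsg.Agent.KO6e5caa9.k37.{ku0} := by delta _root_.Cfsg.Agent.KO6e5caa9.k37; funext a0 a1 a2 a3; refine (congrFun (_root_.Cfsg.Agent.KO6e5caa9.e0 (fun a2 a3 => @List.countP.go.{ku0} a0 a1 a2 a3) ?_ (fun c0 c1 => ?_) a2) a3 :) <;> (rfl')
private noncomputable def _root_.Cfsg.Agent.KO6e5caa9.k38 : (by first | exact type_of% @Cfsg.Agent.TO.X.Pl.okZ | exact Unit : Sort _) := by first | (refine @Subtype.val _ (fun g => @Cfsg.Agent.TO.X.Pl.okZ = @g) (@Subtype.mk _ _ (@(fun x0 x1 x2 x3 x4 => @Bool.rec.{1} @(fun x5 => @Bool) @Bool.true (@Nat.beq (@Nat.mul (@Nat.add @x1 (nat_lit 1)) (@Cfsg.Agent.KO6e5caa9.k34.{0} _ (@Cfsg.Agent.KO6e5caa9.k35.{0} _ (@Cfsg.Agent.KO6e5caa9.k36 @x1 @x3) @x2))) (@Nat.add (@Cfsg.Agent.KO6e5caa9.k34.{0} _ @x2) (@Nat.mul @x1 (@Cfsg.Agent.KO6e5caa9.k37.{0}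 _ (@Cfsg.Agent.KO6e5caa9.k36 @x1 @x4) (@Cfsg.Agent.KO6e5caa9.k35.{0} _ (@Cfsg.Agent.KO6e5caa9.k36 @x1 @x3) @x2) (nat_lit 0))))) @x0)) ?_); rewrite [← Cfsg.Agent.KO6e5caa9.e37.{0}, ← Cfsg.Agent.KO6e5caa9.e36, ← Cfsg.Agent.KO6e5caa9.e35.{0}, ← Cfsg.Agent.KO6e5caa9.e34.{0}]; (try delta Cfsg.Agent.TO.X.Pl.okZ); (try generalize @Cfsg.Agent.TO.X.Pl.vz = g0); rfl') | exact @Cfsg.Agent.TO.X.Pl.okZ | exact ()
private theorem _root_.Cfsg.Agent.KO6e5caa9.e38 : (by first | exact @Cfsg.Agent.TO.X.Pl.okZ = @_root_.Cfsg.Agent.KO6e5caa9.k38 | exact True : Prop) := by first | (delta _root_.Cfsg.Agent.KO6e5caa9.k38; exact @Subtype.property _ (fun g => @Cfsg.Agent.TO.X.Pl.okZ = @g) _) | rfl | trivial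
private noncomputable def _root_.Cfsg.Agent.KO6e5caa9.k39 : (by first | exact type_of% @Cfsg.Agent.TO.X.Pl.pre | exact Unit : Sort _) := by first | (refine @Subtype.val _ (fun g => @Cfsg.Agent.TO.X.Pl.pre = @g) (@Subtype.mk _ _ (@(fun x0 x1 x2 x3 x4 => @Bool.rec.{1} @(fun x5 => @Bool) @Bool.true (@Bool.rec.{1} @(fun x5 => @Bool) @Bool.false (@Nat.beq (@Nat.mod (@Cfsg.Agent.KO6e5caa9.k29 (@Cfsg.Agent.KO6e5caa9.k5.{0, 0} _ _ @(fun x5 => @Cfsg.Agent.KO6e5caa9.k29 @x5 @x4) @x2) @x4) @x1) (nat_lit 0)) (@Nat.beq (@Nat.mod @x3 @x1) (nat_lit 0))) @x0)) ?_); rewrite [← Cfsg.Agent.KO6e5caa9.e5.{0, 0}, ← Cfsg.Agent.KO6e5caa9.e29]; (try delta Cfsg.Agent.TO.X.Pl.pre Cfsg.Agent.TO.X.Pl.gv); (try generalize @Cfsg.Agent.TO.X.Pl.dt = g0); rfl') | exact @Cfsg.Agent.TO.X.Pl.pre | exact ()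
private theorem _root_.Cfsg.Agent.KO6e5caa9.e39 : (by first | exact @Cfsg.Agent.TO.X.Pl.pre = @_root_.Cfsg.Agent.KO6e5caa9.k39 | exact True : Prop) := by first | (delta _root_.Cfsg.Agent.KO6e5caa9.k39; exact @Subtype.property _ (fun g => @Cfsg.Agent.TO.X.Pl.pre = @g) _) | rfl | trivial
private noncomputable def _root_.Cfsg.Agent.KO6e5caa9.k40 : (by first | exact type_of% @Cfsg.Agent.TO.X.Pl.Job.chk2 | exact Unit : Sort _) := by first | (refine @Subtype.val _ (fun g => @Cfsg.Agent.TO.X.Pl.Job.chk2 = @g) (@Subtype.mk _ _ (@(fun x0 x1 x2 => @Bool.rec.{1} @(fun x3 => @Bool) @Bool.false (@Bool.rec.{1} @(fun x3 => @Bool) @Bool.false (@Cfsg.Agent.KO6e5caa9.k8 (@Cfsg.Agent.TO.X.Pl.Job.p _ @x1) @x0 @(fun x3 x4 => @Bool.rec.{1} @(fun x5 => @Bool) @Bool.true (@Bool.rec.{1} @(fun x5 => @Bool) @Bool.true (@Bool.rec.{1} @(fun x5 => @Bool) @Bool.true (@Cfsg.Agent.KO6e5caa9.k27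 _ @x1 (@Prod.snd.{0, 0} _ _ (@Prod.snd.{0, 0} _ _ (@Prod.snd.{0, 0} _ _ @x2))) (@Prod.fst.{0, 0} _ _ @x2) @x4) (@Cfsg.Agent.KO6e5caa9.k33 (@Cfsg.Agent.TO.X.Pl.Job.p _ @x1) (@Cfsg.Agent.TO.X.Pl.Job.P _ @x1) (@Cfsg.Agent.TO.X.Pl.Job.alt _ @x1) (@Prod.fst.{0, 0} _ _ @x2) @x4)) (@Cfsg.Agent.KO6e5caa9.k38 (@Cfsg.Agent.TO.X.Pl.Job.iso _ @x1) (@Cfsg.Agent.TO.X.Pl.Job.p _ @x1) (@Cfsg.Agent.TO.X.Pl.Job.P _ @x1) (@Prod.fst.{0, 0} _ _ @x2) @x4)) (@Cfsg.Agent.KO6e5caa9.k39 (@Cfsg.Agent.TO.X.Pl.Job.iso _ @x1) (@Cfsg.Agent.TO.X.Pl.Job.p _ @x1) (@Cfsg.Agent.TO.X.Pl.Job.Gt _ @x1) @x3 @x4)) @(fun x3 => @Bool.rec.{1} @(fun x4 => ℕ) (@Cfsg.Agent.TO.X.Pl.Job.p _ @x1) (nat_lit 1) (@Nat.beq @x3 (@Fin.val _ (@Prod.fst.{0, 0} _ _ (@Prod.snd.{0, 0} _ _ @x2))))) @(fun x3 => @Option.rec.{1, 0} ℕ @(fun x4 => ℕ) (nat_lit 0) @(fun x4 => @x4) (@Cfsg.Agent.KO6e5caa9.k14.{0} _ (@Cfsg.Agent.KO6e5caa9.k5.{0,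 0} _ _ @(fun x4 => @Cfsg.Agent.KO6e5caa9.k29 @x4 (@Prod.fst.{0, 0} _ _ @x2)) (@Cfsg.Agent.TO.X.Pl.Job.Gt _ @x1)) @x3)) @(fun x3 => @Option.rec.{1, 0} ℕ @(fun x4 => ℕ) (nat_lit 0) @(fun x4 => @x4) (@Cfsg.Agent.KO6e5caa9.k14.{0} _ (@Option.rec.{1, 0} (@List.{0} ℕ) @(fun x4 => @List.{0} ℕ) [] @(fun x4 => @x4) (@Cfsg.Agent.KO6e5caa9.k14.{0} _ (@Prod.fst.{0, 0} _ _ (@Prod.snd.{0, 0} _ _ (@Prod.snd.{0, 0} _ _ @x2))) (nat_lit 0))) @x3)) @(fun x3 => @Option.rec.{1, 0} ℕ @(fun x4 => ℕ) (nat_lit 0) @(fun x4 => @x4) (@Cfsg.Agent.KO6e5caa9.k14.{0} _ (@Option.rec.{1, 0} (@List.{0} ℕ) @(fun x4 => @List.{0} ℕ) [] @(fun x4 => @x4) (@Cfsg.Agent.KO6e5caa9.k14.{0} _ (@Prod.fst.{0, 0} _ _ (@Prod.snd.{0, 0} _ _ (@Prod.snd.{0, 0} _ _ @x2))) (nat_lit 1))) @x3)) @(fun x3 => @Option.rec.{1, 0} ℕ @(fun x4 => ℕ) (nat_lit 0) @(fun x4 => @x4) (@Cfsg.Agent.KO6e5caa9.k14.{0} _ (@Option.rec.{1,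 0} (@List.{0} ℕ) @(fun x4 => @List.{0} ℕ) [] @(fun x4 => @x4) (@Cfsg.Agent.KO6e5caa9.k14.{0} _ (@Prod.fst.{0, 0} _ _ (@Prod.snd.{0, 0} _ _ (@Prod.snd.{0, 0} _ _ @x2))) (nat_lit 2))) @x3))) (@Cfsg.Agent.KO6e5caa9.k1.{0} _ (@Prod.fst.{0, 0} _ _ (@Prod.snd.{0, 0} _ _ (@Prod.snd.{0, 0} _ _ @x2))) @(fun x3 => @Bool.rec.{1} @(fun x4 => @Bool) @Bool.false (@Cfsg.Agent.KO6e5caa9.k1.{0} _ (@Cfsg.Agent.KO6e5caa9.k7 @x0 []) @(fun x4 => @Bool.rec.{1} @(fun x5 => @Bool) (@Cfsg.Agent.KO6e5caa9.k2.{1} @Bool (@Nat.mod (@Option.rec.{1, 0} ℕ @(fun x5 => ℕ) (nat_lit 0) @(fun x5 => @x5) (@Cfsg.Agent.KO6e5caa9.k14.{0} _ (@Prod.fst.{0, 0} _ _ @x2) @x4)) (@Cfsg.Agent.TO.X.Pl.Job.p _ @x1)) (nat_lit 0) @Bool.false @Bool.true) @Bool.true (@Cfsg.Agent.KO6e5caa9.k2.{1} @Bool (@Option.rec.{1, 0} ℕ @(fun x5 => ℕ) (nat_lit 0) @(fun x5 => @x5) (@Cfsg.Agent.KO6e5caa9.k14.{0} _ @x3 @x4))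 (nat_lit 0) @Bool.false @Bool.true))) (@Cfsg.Agent.KO6e5caa9.k9.{0} _ (@Cfsg.Agent.TO.X.Pl.Job.P _ @x1) @(fun x4 => @Cfsg.Agent.KO6e5caa9.k26.{0} _ (@BEq.mk.{0} _ @(fun x5 x6 => @Cfsg.Agent.KO6e5caa9.k2.{1} @Bool @x5 @x6 @Bool.false @Bool.true)) (@Prod.snd.{0, 0} _ _ @x4) @x3))))) (@Bool.rec.{1} @(fun x3 => @Bool) @Bool.true @Bool.false (@Cfsg.Agent.KO6e5caa9.k2.{1} @Bool (@Nat.mod (@Option.rec.{1, 0} ℕ @(fun x3 => ℕ) (nat_lit 0) @(fun x3 => @x3) (@Cfsg.Agent.KO6e5caa9.k14.{0} _ (@Prod.fst.{0, 0} _ _ @x2) (@Fin.val _ (@Prod.fst.{0, 0} _ _ (@Prod.snd.{0, 0} _ _ @x2))))) (@Cfsg.Agent.TO.X.Pl.Job.p _ @x1)) (nat_lit 0) @Bool.false @Bool.true)))) ?_); rewrite [← Cfsg.Agent.KO6e5caa9.e26.{0}, ← Cfsg.Agent.KO6e5caa9.e9.{0}, ← Cfsg.Agent.KO6e5caa9.e2.{1}, ← Cfsg.Agent.KO6e5caa9.e7, ← Cfsg.Agent.KO6e5caa9.e1.{0}, ← Cfsg.Agent.KO6e5caa9.e29, ← Cfsg.Agent.KO6e5caa9.e5.{0,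 0}, ← Cfsg.Agent.KO6e5caa9.e14.{0}, ← Cfsg.Agent.KO6e5caa9.e39, ← Cfsg.Agent.KO6e5caa9.e38, ← Cfsg.Agent.KO6e5caa9.e33, ← Cfsg.Agent.KO6e5caa9.e27, ← Cfsg.Agent.KO6e5caa9.e8]; (try delta Cfsg.Agent.TO.X.Pl.Job.chk2 Cfsg.Agent.TO.X.Pl.gv); (try generalize @Cfsg.Agent.TO.X.Pl.run = g0); (try generalize @Cfsg.Agent.TO.X.Pl.Job.fnl = g1); (try generalize @Cfsg.Agent.TO.X.Pl.okH = g2); (try generalize @Cfsg.Agent.TO.X.Pl.okZ = g3); (try generalize @Cfsg.Agent.TO.X.Pl.pre = g4); (try generalize @Cfsg.Agent.TO.X.Pl.dt = g5); rfl') | exact @Cfsg.Agent.TO.X.Pl.Job.chk2 | exact ()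
private theorem _root_.Cfsg.Agent.KO6e5caa9.e40 : (by first | exact @Cfsg.Agent.TO.X.Pl.Job.chk2 = @_root_.Cfsg.Agent.KO6e5caa9.k40 | exact True : Prop) := by first | (delta _root_.Cfsg.Agent.KO6e5caa9.k40; exact @Subtype.property _ (fun g => @Cfsg.Agent.TO.X.Pl.Job.chk2 = @g) _) | rfl | trivial

theorem twoF45a : (cF45a.all jF45.chk2) = true := by (first | (rewrite [Cfsg.Agent.KO6e5caa9.e1.{0}, Cfsg.Agent.KO6e5caa9.e40]; decide +kernel) | decide +kernel)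

theorem oneF45 : jF45.chk1 ((cF45a).map Prod.fst) = true := by decide +kernel

theorem twoF45 : ∀ e ∈ cF45a, jF45.chk2 e = true := List.all_eq_true.1 (by
  simp only [twoF45a])

theorem okF45 : jF45.Ok chevF4 [1] := ⟨tyF4, Nm.one, alt_one, fun h => absurd h Bool.false_ne_true⟩

/-- **the pure planes** -/
theorem plF45 {u x : Fin 4 → ZMod 5} (H : PurePl chevF4 (AdmS 5 [1]) u x) :
    Std chevF4 u x ![1, 0, 0, 1] ![1, 2, 4, 4] := by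
  obtain ⟨s, hs, W, h1, h2⟩ := @Job.Ok.plane _ _ _ _ ⟨pr5⟩ okF45 _ oneF45 twoF45 _ _ H
  obtain rfl := List.mem_singleton.1 hs
  exact ⟨W, h1, h2.trans (by
      rw [sp2, show cv 5 4 [1, 0, 0, 1] = ![1, 0, 0, 1] by decide,
        show cv 5 4 [1, 2, 4, 4] = ![1, 2, 4, 4] by decide])⟩

theorem threeF45 : (jF45.std.all jF45.chk3) = true := by decide +kernel

/-- **the rank** -/
theorem rkF45 {B : Submodule (ZMod 5) (Fin 4 → ZMod 5)} (H : PureSp chevF4 (AdmS 5 [1]) B) :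
    Module.finrank (ZMod 5) B ≤ 2 :=
  @Job.Ok.rank _ _ _ _ ⟨pr5⟩ okF45 _ oneF45 twoF45 (by decide) (List.all_eq_true.1 threeF45) _ H

/-- the search for F4, `p = 5` -/
abbrev jG45 : Job 4 := (beta% delta% lq265c502bbe fun b c _ e _ h _ j k l m n _ _ _ _ _ _ _ _ _ =>
 (h 5 j k l m n (b (e (b 1<|b 0<|b 0<|b 1<|c) (b 1<|b 2<|b 4<|b 4<|c))<|b (e (b 0<|b 1<|b 0<|b 0<|c) (b 1<|b 0<|b 1<|
 b 2<|c))<|c) (b 2<|b 4<|b 3<|b 2<|c) 1 0))

/-- certificates -/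
def cG45a : List (Ent 4) := (beta% delta% lq265c502bbe fun b c _ e _ _ _ _ _ _ _ _ _ _ _ _ _ _ _ _ _ =>
 (b (e (b 1<|b 0<|b 0<|b 0<|c)<|e 0<|e (b (b 0<|b 2<|b 2<|b 1<|c)<|c) c)<|b (e (b 2<|b 0<|b 0<|b 0<|c)<|e 0<|e (b (b 0<|b 2<|b 2<|b 1<|c)<|c) c)<|b (e (b 0<|b 1<|b 0<|
 b 0<|c)<|e 1<|e (b (b 0<|b 0<|b 1<|b 1<|c)<|b (b 1<|b 0<|b 0<|b 0<|c)<|c) (b (e (b 2<|b 0<|b 1<|b 1<|c) (b 3<|c))<|b (e (b 3<|b 0<|b 1<|b 1<|c) (b 2<|b 3<|c))<|b (e (b 1<|b 0<|b 2<|b 1<|c) (b 3<|b 2<|c))<|b (e (b 4<|b 0<|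
 b 2<|b 1<|c) (b 0<|b 1<|b 0<|b 2<|b 1<|b 0<|b 2<|b 1<|b 3<|b 2<|b 1<|b 0<|b 2<|b 1<|b 2<|b 3<|b 2<|b 1<|b 0<|b 2<|b 1<|c))<|b (e (b 2<|b 0<|b 3<|b 1<|c) (b 0<|c))<|b (e (b 3<|b 0<|b 3<|b 1<|c) c)<|
 b (e (b 1<|b 0<|b 1<|b 2<|c) c)<|b (e (b 4<|b 0<|b 1<|b 2<|c) (b 0<|c))<|b (e (b 1<|b 0<|b 2<|b 2<|c) (b 2<|b 3<|c))<|b (e (b 4<|b 0<|b 2<|b 2<|c) (b 3<|c))<|b (e (b 2<|b 0<|b 1<|b 3<|c) (b 0<|b 1<|b 0<|b 2<|b 1<|
 b 0<|b 2<|b 1<|b 3<|b 2<|b 1<|b 0<|b 2<|b 1<|b 2<|b 3<|b 2<|b 1<|b 0<|b 2<|b 1<|c))<|b (e (b 3<|b 0<|b 1<|b 3<|c) (b 3<|b 2<|c))<|c))<|b (e (b 0<|b 0<|b 1<|b 0<|c)<|e 2<|e (b (b 1<|b 1<|b 0<|b 0<|c)<|b (b 0<|b 0<|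
 b 0<|b 1<|c)<|c) (b (e (b 1<|b 1<|b 0<|b 1<|c) (b 3<|b 2<|b 1<|b 0<|b 2<|b 1<|b 2<|b 3<|b 2<|b 1<|c))<|b (e (b 3<|b 1<|b 0<|b 1<|c) (b 0<|b 1<|b 0<|b 2<|b 1<|b 0<|b 2<|b 1<|b 2<|b 3<|b 2<|b 1<|b 0<|b 2<|
 b 1<|b 3<|c))<|b (e (b 1<|b 3<|b 0<|b 1<|c) (b 1<|b 3<|b 2<|b 1<|b 0<|b 2<|b 1<|b 2<|b 3<|b 2<|b 1<|b 0<|c))<|b (e (b 2<|b 1<|b 0<|b 2<|c) (b 1<|b 3<|b 2<|b 1<|b 0<|b 2<|b 1<|b 2<|b 3<|b 2<|b 1<|b 0<|c))<|
 b (e (b 1<|b 2<|b 0<|b 2<|c) (b 0<|b 1<|b 0<|b 2<|b 1<|b 0<|b 2<|b 1<|b 2<|b 3<|b 2<|b 1<|b 0<|b 2<|b 1<|b 3<|c))<|b (e (b 2<|b 2<|b 0<|b 2<|c) (b 3<|b 2<|b 1<|b 0<|b 2<|b 1<|b 2<|b 3<|b 2<|b 1<|c))<|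
 b (e (b 2<|b 1<|b 0<|b 3<|c) (b 3<|b 2<|b 1<|b 0<|b 2<|b 1<|b 2<|b 3<|b 2<|b 1<|b 0<|c))<|b (e (b 1<|b 2<|b 0<|b 3<|c) (b 0<|b 1<|b 2<|b 1<|b 0<|b 2<|b 1<|b 2<|b 3<|b 2<|b 1<|b 0<|b 2<|b 1<|b 3<|c))<|
 b (e (b 2<|b 2<|b 0<|b 3<|c) (b 0<|b 1<|b 2<|b 1<|b 0<|b 2<|b 1<|b 3<|b 2<|b 1<|b 0<|b 2<|b 1<|b 2<|b 3<|c))<|b (e (b 1<|b 1<|b 0<|b 4<|c) (b 0<|b 1<|b 2<|b 1<|b 0<|b 2<|b 1<|b 3<|b 2<|b 1<|b 0<|b 2<|
 b 1<|b 2<|b 3<|c))<|b (e (b 3<|b 1<|b 0<|b 4<|c) (b 0<|b 1<|b 2<|b 1<|b 0<|b 2<|b 1<|b 2<|b 3<|b 2<|b 1<|b 0<|b 2<|b 1<|b 3<|c))<|b (e (b 1<|b 3<|b 0<|b 4<|c) (b 3<|b 2<|b 1<|b 0<|b 2<|b 1<|b 2<|b 3<|b 2<|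
 b 1<|b 0<|c))<|c))<|b (e (b 1<|b 0<|b 1<|b 0<|c)<|e 2<|e (b (b 0<|b 1<|b 0<|b 0<|c)<|b (b 0<|b 0<|b 0<|b 1<|c)<|c) (b (e (b 1<|b 1<|b 0<|b 1<|c) (b 3<|b 2<|b 1<|b 0<|b 2<|b 1<|b 2<|b 3<|b 2<|b 1<|b 2<|c))<|b (e (b 1<|
 b 2<|b 0<|b 1<|c) (b 0<|b 2<|b 1<|b 0<|b 3<|b 2<|b 1<|b 0<|b 2<|b 1<|b 3<|b 2<|b 1<|b 0<|c))<|b (e (b 2<|b 2<|b 0<|b 1<|c) (b 0<|b 1<|b 2<|b 1<|b 0<|b 2<|b 1<|b 3<|b 2<|b 1<|b 0<|b 2<|b 1<|b 2<|b 3<|
 b 2<|b 1<|b 0<|b 2<|b 1<|c))<|b (e (b 0<|b 3<|b 0<|b 1<|c) (b 0<|b 1<|b 3<|b 2<|b 1<|b 0<|b 2<|b 1<|b 3<|c))<|b (e (b 4<|b 3<|b 0<|b 1<|c) (b 2<|b 1<|b 0<|b 2<|b 1<|b 2<|b 3<|b 2<|b 1<|b 2<|b 3<|c))<|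
 b (e (b 0<|b 4<|b 0<|b 1<|c) (b 0<|b 3<|b 2<|b 1<|b 0<|b 2<|b 1<|b 2<|b 3<|b 2<|b 1<|b 2<|c))<|b (e (b 0<|b 1<|b 0<|b 2<|c) (b 0<|b 1<|b 3<|b 2<|b 1<|b 0<|b 2<|b 1<|b 3<|c))<|b (e (b 3<|b 1<|b 0<|b 2<|c)
 (b 2<|b 1<|b 0<|b 2<|b 1<|b 2<|b 3<|b 2<|b 1<|b 2<|b 3<|c))<|b (e (b 2<|b 2<|b 0<|b 2<|c) (b 3<|b 2<|b 1<|b 0<|b 2<|b 1<|b 2<|b 3<|b 2<|b 1<|b 2<|c))<|b (e (b 0<|b 3<|b 0<|b 2<|c) (b 0<|b 3<|b 2<|b 1<|
 b 0<|b 2<|b 1<|b 2<|b 3<|b 2<|b 1<|b 2<|c))<|b (e (b 2<|b 4<|b 0<|b 2<|c) (b 0<|b 2<|b 1<|b 0<|b 3<|b 2<|b 1<|b 0<|b 2<|b 1<|b 3<|b 2<|b 1<|b 0<|c))<|b (e (b 4<|b 4<|b 0<|b 2<|c) (b 0<|b 1<|b 2<|b 1<|b 0<|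
 b 2<|b 1<|b 3<|b 2<|b 1<|b 0<|b 2<|b 1<|b 2<|b 3<|b 2<|b 1<|b 0<|b 2<|b 1<|c))<|b (e (b 1<|b 1<|b 0<|b 3<|c) (b 0<|b 1<|b 2<|b 1<|b 0<|b 2<|b 1<|b 3<|b 2<|b 1<|b 0<|b 2<|b 1<|b 2<|b 3<|b 2<|b 1<|b 0<|
 b 2<|b 1<|c))<|b (e (b 3<|b 1<|b 0<|b 3<|c) (b 0<|b 2<|b 1<|b 0<|b 3<|b 2<|b 1<|b 0<|b 2<|b 1<|b 3<|b 2<|b 1<|b 0<|c))<|b (e (b 0<|b 2<|b 0<|b 3<|c) (b 0<|b 3<|b 2<|b 1<|b 0<|b 2<|b 1<|b 2<|b 3<|b 2<|b 1<|
 b 2<|c))<|b (e (b 3<|b 3<|b 0<|b 3<|c) (b 3<|b 2<|b 1<|b 0<|b 2<|b 1<|b 2<|b 3<|b 2<|b 1<|b 2<|c))<|b (e (b 0<|b 4<|b 0<|b 3<|c) (b 0<|b 1<|b 3<|b 2<|b 1<|b 0<|b 2<|b 1<|b 3<|c))<|b (e (b 2<|b 4<|b 0<|b 3<|c)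
 (b 2<|b 1<|b 0<|b 2<|b 1<|b 2<|b 3<|b 2<|b 1<|b 2<|b 3<|c))<|b (e (b 0<|b 1<|b 0<|b 4<|c) (b 0<|b 3<|b 2<|b 1<|b 0<|b 2<|b 1<|b 2<|b 3<|b 2<|b 1<|b 2<|c))<|b (e (b 0<|b 2<|b 0<|b 4<|c) (b 0<|b 1<|b 3<|
 b 2<|b 1<|b 0<|b 2<|b 1<|b 3<|c))<|b (e (b 1<|b 2<|b 0<|b 4<|c) (b 2<|b 1<|b 0<|b 2<|b 1<|b 2<|b 3<|b 2<|b 1<|b 2<|b 3<|c))<|b (e (b 3<|b 3<|b 0<|b 4<|c) (b 0<|b 1<|b 2<|b 1<|b 0<|b 2<|b 1<|b 3<|b 2<|b 1<|
 b 0<|b 2<|b 1<|b 2<|b 3<|b 2<|b 1<|b 0<|b 2<|b 1<|c))<|b (e (b 4<|b 3<|b 0<|b 4<|c) (b 0<|b 2<|b 1<|b 0<|b 3<|b 2<|b 1<|b 0<|b 2<|b 1<|b 3<|b 2<|b 1<|b 0<|c))<|b (e (b 4<|b 4<|b 0<|b 4<|c) (b 3<|b 2<|b 1<|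
 b 0<|b 2<|b 1<|b 2<|b 3<|b 2<|b 1<|b 2<|c))<|c))<|b (e (b 0<|b 0<|b 0<|b 1<|c)<|e 3<|e (b (b 2<|b 2<|b 1<|b 0<|c)<|c) c)<|b (e (b 1<|b 0<|b 0<|b 1<|c)<|e 3<|e (b (b 0<|b 2<|b 1<|b 0<|c)<|c) (b (e (b 3<|b 1<|b 1<|b 0<|c)
 (b 1<|b 2<|b 1<|c))<|b (e (b 1<|b 1<|b 2<|b 0<|c) (b 1<|b 0<|b 2<|b 1<|b 2<|b 3<|b 2<|b 1<|b 0<|b 2<|b 1<|b 3<|b 2<|b 1<|c))<|c))<|b (e (b 0<|b 0<|b 1<|b 1<|c)<|e 3<|e (b (b 1<|b 1<|b 0<|b 0<|c)<|c) (b (e (b 1<|b 1<|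
 b 0<|b 0<|c) (b 0<|b 1<|b 2<|b 1<|b 0<|b 2<|b 1<|c))<|b (e (b 2<|b 1<|b 0<|b 0<|c) (b 1<|b 2<|b 1<|b 0<|b 2<|b 1<|b 3<|b 2<|b 1<|b 0<|c))<|b (e (b 2<|b 2<|b 0<|b 0<|c) (b 0<|b 1<|b 2<|b 1<|b 0<|b 2<|
 b 1<|c))<|b (e (b 1<|b 3<|b 0<|b 0<|c) (b 1<|b 2<|b 1<|b 0<|b 2<|b 1<|b 3<|b 2<|b 1<|b 0<|c))<|b (e (b 1<|b 1<|b 1<|b 0<|c) (b 2<|b 1<|b 0<|b 2<|b 1<|b 3<|b 2<|b 1<|c))<|b (e (b 1<|b 2<|b 1<|b 0<|c) (b 1<|b 2<|
 b 1<|b 2<|b 3<|b 2<|b 1<|b 0<|b 2<|b 1<|c))<|b (e (b 3<|b 1<|b 2<|b 0<|c) (b 2<|b 1<|b 2<|b 3<|b 2<|b 1<|b 0<|b 2<|b 1<|c))<|b (e (b 2<|b 2<|b 2<|b 0<|c) (b 2<|b 1<|b 0<|b 2<|b 1<|b 3<|b 2<|b 1<|c))<|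
 b (e (b 2<|b 1<|b 3<|b 0<|c) (b 2<|b 1<|b 0<|b 2<|b 1<|b 3<|b 2<|b 1<|b 0<|c))<|b (e (b 3<|b 1<|b 3<|b 0<|c) (b 1<|b 2<|b 1<|b 2<|b 3<|b 2<|b 1<|b 0<|b 2<|b 1<|c))<|b (e (b 1<|b 2<|b 4<|b 0<|c) (b 2<|b 1<|
 b 2<|b 3<|b 2<|b 1<|b 0<|b 2<|b 1<|c))<|b (e (b 1<|b 3<|b 4<|b 0<|c) (b 2<|b 1<|b 0<|b 2<|b 1<|b 3<|b 2<|b 1<|b 0<|c))<|c))<|b (e (b 0<|b 0<|b 0<|b 2<|c)<|e 3<|e (b (b 2<|b 2<|b 1<|b 0<|c)<|c) c)<|c))

theorem twoG45a : (cG45a.all jG45.chk2) = true := by (first | (rewrite [Cfsg.Agent.KO6e5caa9.e1.{0}, Cfsg.Agent.KO6e5caa9.e40]; decide +kernel) | decide +kernel)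

theorem oneG45 : jG45.chk1 ((cG45a).map Prod.fst) = true := by decide +kernel

theorem twoG45 : ∀ e ∈ cG45a, jG45.chk2 e = true := List.all_eq_true.1 (by
  simp only [twoG45a])

theorem okG45 : jG45.Ok chevF4 [1, GamF] := ⟨tyF4, nm_gam, alt_gam, fun h => absurd h Bool.false_ne_true⟩

/-- **the pure planes** -/
theorem plG45 {u x : Fin 4 → ZMod 5} (H : PurePl chevF4 (AdmS 5 [1, GamF]) u x) :
    Std chevF4 u x ![1, 0, 0, 1] ![1, 2, 4, 4] ∨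
      Std chevF4 u x ![0, 1, 0, 0] ![1, 0, 1, 2] := by
  obtain ⟨s, hs, W, h1, h2⟩ := @Job.Ok.plane _ _ _ _ ⟨pr5⟩ okG45 _ oneG45 twoG45 _ _ H
  rcases List.mem_pair.1 hs with rfl | rfl
  · exact Or.inl ⟨W, h1, h2.trans (by
      rw [sp2, show cv 5 4 [1, 0, 0, 1] = ![1, 0, 0, 1] by decide,
        show cv 5 4 [1, 2, 4, 4] = ![1, 2, 4, 4] by decide])⟩
  · exact Or.inr ⟨W, h1, h2.trans (by
      rw [sp2, show cv 5 4 [0, 1, 0, 0] = ![0, 1, 0, 0] by decide,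
        show cv 5 4 [1, 0, 1, 2] = ![1, 0, 1, 2] by decide])⟩

theorem threeG45 : (jG45.std.all jG45.chk3) = true := by decide +kernel

/-- **the rank** -/
theorem rkG45 {B : Submodule (ZMod 5) (Fin 4 → ZMod 5)} (H : PureSp chevF4 (AdmS 5 [1, GamF]) B) :
    Module.finrank (ZMod 5) B ≤ 2 :=
  @Job.Ok.rank _ _ _ _ ⟨pr5⟩ okG45 _ oneG45 twoG45 (by decide) (List.all_eq_true.1 threeG45) _ H

/-- the search for E6, `p = 5` -/
abbrev jE65 : Job 6 := (beta% delta% lq265c502bbe fun b c _ e _ h i _ _ _ _ _ o p q _ _ _ _ _ _ =>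
 (h 5 i o p q (fun u => (b u<|c)) (b (e (b 4<|b 0<|b 4<|b 2<|b 0<|b 1<|c) (b 0<|b 3<|b 0<|b 4<|b 4<|b 3<|c))<|c) (b 1<|b 2<|b 2<|
 b 3<|b 2<|b 1<|c) 0 1))

/-- certificates -/
def cE65a : List (Ent 6) := (beta% delta% lq265c502bbe fun b c _ e _ _ _ _ _ _ _ _ _ _ _ _ _ _ _ _ _ =>
 (b (e (b 3<|b 1<|b 0<|b 0<|b 0<|b 0<|c)<|e 1<|e (b (b 0<|b 0<|b 1<|b 1<|b 1<|b 1<|c)<|c) c)<|b (e (b 1<|b 2<|b 0<|b 0<|b 0<|b 0<|c)<|e 1<|e (b (b 0<|b 0<|b 1<|b 1<|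
 b 1<|b 1<|c)<|c) c)<|b (e (b 0<|b 0<|b 1<|b 0<|b 0<|b 0<|c)<|e 2<|e (b (b 0<|b 1<|b 0<|b 1<|b 1<|b 1<|c)<|b (b 1<|b 0<|b 0<|b 0<|b 0<|b 0<|c)<|c) c)<|b (e (b 0<|b 0<|b 2<|b 0<|b 0<|b 0<|c)<|e 2<|e (b (b 0<|b 1<|
 b 0<|b 1<|b 1<|b 1<|c)<|b (b 1<|b 0<|b 0<|b 0<|b 0<|b 0<|c)<|c) c)<|b (e (b 0<|b 0<|b 0<|b 0<|b 1<|b 0<|c)<|e 4<|e (b (b 1<|b 1<|b 1<|b 1<|b 0<|b 0<|c)<|b (b 0<|b 0<|b 0<|b 0<|b 0<|b 1<|c)<|c) c)<|b (e (b 3<|
 b 0<|b 0<|b 0<|b 1<|b 0<|c)<|e 4<|e (b (b 0<|b 1<|b 1<|b 1<|b 0<|b 0<|c)<|b (b 0<|b 0<|b 0<|b 0<|b 0<|b 1<|c)<|c) c)<|b (e (b 0<|b 0<|b 0<|b 0<|b 2<|b 0<|c)<|e 4<|e (b (b 1<|b 1<|b 1<|b 1<|b 0<|b 0<|c)<|b (b 0<|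
 b 0<|b 0<|b 0<|b 0<|b 1<|c)<|c) c)<|b (e (b 1<|b 0<|b 0<|b 0<|b 2<|b 0<|c)<|e 4<|e (b (b 0<|b 1<|b 1<|b 1<|b 0<|b 0<|c)<|b (b 0<|b 0<|b 0<|b 0<|b 0<|b 1<|c)<|c) c)<|b (e (b 1<|b 1<|b 0<|b 0<|b 0<|b 1<|c)<|e 5<|
 e (b (b 0<|b 0<|b 1<|b 1<|b 1<|b 0<|c)<|c) (b (e (b 0<|b 2<|b 1<|b 1<|b 1<|b 0<|c) (b 1<|b 3<|b 1<|b 2<|b 0<|b 3<|b 2<|b 4<|b 3<|b 1<|b 5<|b 4<|b 3<|b 1<|b 2<|b 3<|b 4<|b 5<|c))<|b (e (b 2<|b 3<|b 2<|b 1<|
 b 1<|b 0<|c) (b 0<|b 2<|b 3<|b 2<|b 0<|b 4<|b 3<|b 1<|b 2<|b 3<|b 4<|b 5<|b 4<|b 3<|b 1<|b 2<|b 3<|b 4<|b 5<|c))<|b (e (b 0<|b 4<|b 1<|b 2<|b 1<|b 0<|c) (b 1<|b 2<|b 3<|b 1<|b 2<|b 0<|b 3<|b 2<|b 4<|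
 b 3<|b 1<|b 5<|b 4<|b 3<|b 1<|b 2<|b 3<|b 4<|b 5<|c))<|b (e (b 3<|b 1<|b 1<|b 1<|b 2<|b 0<|c) (b 0<|b 1<|b 2<|b 3<|b 1<|b 2<|b 0<|b 3<|b 2<|b 4<|b 3<|b 1<|b 5<|b 4<|b 3<|b 1<|b 2<|b 3<|b 4<|
 b 5<|c))<|c))<|b (e (b 0<|b 2<|b 0<|b 0<|b 0<|b 1<|c)<|e 5<|e (b (b 1<|b 0<|b 1<|b 1<|b 1<|b 0<|c)<|c) c)<|b (e (b 1<|b 0<|b 1<|b 0<|b 0<|b 1<|c)<|e 5<|e (b (b 0<|b 1<|b 0<|b 1<|b 1<|b 0<|c)<|c) (b (e (b 4<|b 1<|b 2<|
 b 1<|b 1<|b 0<|c) (b 3<|b 2<|b 0<|b 4<|b 3<|b 1<|b 2<|b 0<|b 3<|b 4<|c))<|b (e (b 3<|b 2<|b 3<|b 1<|b 1<|b 0<|c) (b 0<|b 1<|b 2<|b 0<|b 3<|b 1<|b 4<|b 3<|c))<|b (e (b 2<|b 1<|b 4<|b 2<|b 1<|b 0<|c) (b 2<|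
 b 3<|b 2<|b 0<|b 4<|b 3<|b 1<|b 2<|b 0<|b 3<|b 4<|c))<|b (e (b 1<|b 1<|b 1<|b 1<|b 2<|b 0<|c) (b 0<|b 2<|b 0<|b 3<|b 1<|b 4<|b 3<|c))<|c))<|b (e (b 0<|b 0<|b 2<|b 0<|b 0<|b 1<|c)<|e 5<|e (b (b 0<|b 1<|b 0<|b 1<|
 b 1<|b 0<|c)<|b (b 1<|b 0<|b 0<|b 0<|b 0<|b 0<|c)<|c) c)<|b (e (b 1<|b 0<|b 0<|b 0<|b 1<|b 1<|c)<|e 5<|e (b (b 0<|b 1<|b 1<|b 1<|b 0<|b 0<|c)<|c) (b (e (b 2<|b 2<|b 1<|b 1<|b 0<|b 0<|c) (b 0<|b 2<|b 3<|b 1<|b 2<|
 b 0<|b 3<|b 2<|b 4<|b 3<|b 1<|b 5<|b 4<|b 3<|b 1<|b 2<|b 0<|b 3<|b 2<|b 4<|b 3<|b 1<|b 5<|b 4<|b 3<|b 2<|b 0<|c))<|b (e (b 4<|b 1<|b 2<|b 1<|b 0<|b 0<|c) (b 0<|b 1<|b 2<|b 3<|b 2<|b 0<|b 4<|b 3<|b 1<|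
 b 2<|b 3<|b 4<|b 5<|b 4<|b 3<|b 1<|b 2<|b 0<|b 3<|b 2<|b 4<|b 3<|b 1<|b 5<|b 4<|b 3<|b 2<|b 0<|c))<|b (e (b 3<|b 1<|b 1<|b 2<|b 2<|b 0<|c) (b 2<|b 3<|b 2<|b 0<|b 4<|b 3<|b 1<|b 2<|b 0<|b 3<|b 4<|b 5<|
 b 4<|b 3<|b 1<|b 2<|b 0<|b 3<|b 2<|b 4<|b 3<|b 1<|b 5<|b 4<|b 3<|b 2<|b 0<|c))<|b (e (b 1<|b 1<|b 1<|b 1<|b 3<|b 0<|c) (b 3<|b 2<|b 0<|b 4<|b 3<|b 1<|b 2<|b 0<|b 3<|b 4<|b 5<|b 4<|b 3<|b 1<|b 2<|b 0<|
 b 3<|b 2<|b 4<|b 3<|b 1<|b 5<|b 4<|b 3<|b 2<|b 0<|c))<|c))<|b (e (b 0<|b 1<|b 0<|b 0<|b 0<|b 3<|c)<|e 5<|e (b (b 1<|b 0<|b 1<|b 1<|b 1<|b 0<|c)<|c) c)<|b (e (b 0<|b 0<|b 1<|b 0<|b 0<|b 3<|c)<|e 5<|e (b (b 0<|b 1<|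
 b 0<|b 1<|b 1<|b 0<|c)<|b (b 1<|b 0<|b 0<|b 0<|b 0<|b 0<|c)<|c) c)<|c))

private noncomputable def _root_.Cfsg.Agent.KO6e5caa9.k42 : (by first | exact type_of% @Cfsg.Agent.TO.X.Pl.fsFc | exact Unit : Sort _) := by first | (refine @Subtype.val _ (fun g => @Cfsg.Agent.TO.X.Pl.fsFc = @g) (@Subtype.mk _ _ (@(fun x0 x1 => @Nat.rec.{1} @(fun x2 => @Bool) (@x1 (nat_lit 0)) @(fun x2 x3 => @x1 (@Nat.succ @x2)) @x0)) ?_); rfl') | exact @Cfsg.Agent.TO.X.Pl.fsFc | exact ()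
private theorem _root_.Cfsg.Agent.KO6e5caa9.e42 : (by first | exact @Cfsg.Agent.TO.X.Pl.fsFc = @_root_.Cfsg.Agent.KO6e5caa9.k42 | exact True : Prop) := by first | (delta _root_.Cfsg.Agent.KO6e5caa9.k42; exact @Subtype.property _ (fun g => @Cfsg.Agent.TO.X.Pl.fsFc = @g) _) | rfl | trivial
private noncomputable def _root_.Cfsg.Agent.KO6e5caa9.k43 : (by first | exact type_of% @Cfsg.Agent.TO.X.Pl.fsLv | exact Unit : Sort _) := by first | (refine @Subtype.val _ (fun g => @Cfsg.Agent.TO.X.Pl.fsLv = @g) (@Subtype.mk _ _ (@(fun x0 x1 x2 x3 x4 x5 x6 x7 x8 x9 x10 x11 x12 x13 x14 x15 x16 => @List.rec.{1, 0} ℕ @(fun x17 => @Bool) @Bool.false @(fun x17 x18 x19 => @Nat.rec.{1} @(fun x20 => @Bool) @Bool.true @(fun x20 x21 => @Bool.rec.{1} @(fun x22 => @Bool) @x21 (@Bool.rec.{1} @(fun x22 => @Bool) @x21 (@Bool.rec.{1} @(fun x22 => @Bool) @x21 (@Bool.rec.{1} @(fun x22 =>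 @Bool) @x21 (@Bool.rec.{1} @(fun x22 => @Bool) @Bool.false @x21 (@x9 (@Nat.add @x10 (@Nat.mul @x3 @x20)) (@Nat.sub @x11 (@Nat.mul @x4 @x20)) (@Nat.sub @x12 (@Nat.mul @x5 @x20)) (@Nat.sub @x13 (@Nat.mul @x6 @x20)) (@Nat.add @x14 (@Nat.mul @x20 (@Nat.add @x17 (@Nat.mul @x7 @x20)))) (@Cfsg.Agent.TO.X.Pl.fsUp @x20 @x18 @x8) (@x20 :: @x16))) (@Nat.ble (@Nat.mul @x6 @x20) @x13)) (@Nat.ble (@Nat.mul @x5 @x20) @x12)) (@Nat.ble (@Nat.mul @x4 @x20) @x11)) (@Bool.rec.{1} @(fun x22 => @Bool) @Bool.true (@Nat.beq (@Nat.mod (@Nat.add @x10 (@Nat.mul @x3 @x20)) @x0) (nat_lit 0)) @x1)) @x2) @x15)) ?_); (try delta Cfsg.Agent.TO.X.Pl.fsLv); (try generalize @Cfsg.Agent.TO.X.Pl.fsUp = g0); rfl') | exact @Cfsg.Agent.TO.X.Pl.fsLv | exact ()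
private theorem _root_.Cfsg.Agent.KO6e5caa9.e43 : (by first | exact @Cfsg.Agent.TO.X.Pl.fsLv = @_root_.Cfsg.Agent.KO6e5caa9.k43 | exact True : Prop) := by first | (delta _root_.Cfsg.Agent.KO6e5caa9.k43; exact @Subtype.property _ (fun g => @Cfsg.Agent.TO.X.Pl.fsLv = @g) _) | rfl | trivial
private noncomputable def _root_.Cfsg.Agent.KO6e5caa9.k44 : (by first | exact type_of% @Cfsg.Agent.TO.X.Pl.fsSp | exact Unit : Sort _) := by first | (refine @Subtype.val _ (fun g => @Cfsg.Agent.TO.X.Pl.fsSp = @g) (@Subtype.mk _ _ (@(fun x0 x1 x2 => @List.rec.{1, 0} (ℕ × (ℕ × (ℕ × (ℕ × ℕ)))) @(fun x3 => (@List.{0} (ℕ × (@List.{0} ℕ))) → (@Bool → @Cfsg.Agent.TO.X.Pl.FsF → @Bool) → @Bool) @(fun x3 x4 => @x4 @Bool.true @(fun x5 x6 x7 x8 x9 x10 x11 => @Bool.rec.{1} @(fun x12 => @Bool) @Bool.true (@Cfsg.Agent.TO.X.Pl.fsRv @x11 (@x1 @x5) []) (@Nat.beq (@Nat.mod @x9 @x0) (nat_lit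 0)))) @(fun x3 x4 x5 x6 x7 => @List.rec.{1, 0} (ℕ × (@List.{0} ℕ)) @(fun x8 => @Bool) @Bool.false @(fun x8 x9 x10 => @x5 @x9 @(fun x11 x12 => @Cfsg.Agent.KO6e5caa9.k42 (@Prod.fst.{0, 0} _ _ @x3) @(fun x13 => @Cfsg.Agent.KO6e5caa9.k42 (@Prod.fst.{0, 0} _ _ (@Prod.snd.{0, 0} _ _ @x3)) @(fun x14 => @Cfsg.Agent.KO6e5caa9.k42 (@Prod.fst.{0, 0} _ _ (@Prod.snd.{0, 0} _ _ (@Prod.snd.{0, 0} _ _ @x3))) @(fun x15 => @Cfsg.Agent.KO6e5caa9.k42 (@Prod.fst.{0, 0} _ _ (@Prod.snd.{0, 0} _ _ (@Prod.snd.{0, 0} _ _ (@Prod.snd.{0, 0} _ _ @x3)))) @(fun x16 => @Cfsg.Agent.KO6e5caa9.k42 (@Prod.snd.{0, 0} _ _ (@Prod.snd.{0, 0} _ _ (@Prod.snd.{0, 0} _ _ (@Prod.snd.{0, 0} _ _ @x3)))) @(fun x17 => @Prod.rec.{1, 0, 0} ℕ (@List.{0} ℕ) @(fun x18 => @Bool) @(fun x18 x19 => @Bool.rec.{1} @(fun x20 => @Bool) (@x7 @Bool.false (@Cfsg.Agent.KO6e5caa9.k43 @x0 @x11 @x13 @x14 @x15 @x16 @x17 @x18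 @x19 @x12)) (@x7 @Bool.true (@Cfsg.Agent.KO6e5caa9.k43 @x0 @x11 @x13 @x14 @x15 @x16 @x17 @x18 @x19 @x12)) (@Bool.rec.{1} @(fun x20 => @Bool) @Bool.false (@Nat.beq (@Nat.mod @x14 @x0) (nat_lit 0)) @x11)) @x8))))))) @x6) @x2)) ?_); rewrite [← Cfsg.Agent.KO6e5caa9.e43, ← Cfsg.Agent.KO6e5caa9.e42]; (try delta Cfsg.Agent.TO.X.Pl.fsSp); (try generalize @Cfsg.Agent.TO.X.Pl.fsRv = g0); (try generalize @Cfsg.Agent.TO.X.Pl.fsFc = g1); (try generalize @Cfsg.Agent.TO.X.Pl.fsLv = g2); rfl') | exact @Cfsg.Agent.TO.X.Pl.fsSp | exact ()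
private theorem _root_.Cfsg.Agent.KO6e5caa9.e44 : (by first | exact @Cfsg.Agent.TO.X.Pl.fsSp = @_root_.Cfsg.Agent.KO6e5caa9.k44 | exact True : Prop) := by first | (delta _root_.Cfsg.Agent.KO6e5caa9.k44; exact @Subtype.property _ (fun g => @Cfsg.Agent.TO.X.Pl.fsSp = @g) _) | rfl | trivial
private noncomputable def _root_.Cfsg.Agent.KO6e5caa9.k45.{ku0} : type_of% @List.replicate.{ku0} := @(fun x0 x1 x2 => @Nat.rec.{(ku0+1)} @(fun x3 => @x0 → @List.{ku0} @x0) @(fun x3 => []) @(fun x3 x4 x5 => @x5 :: (@x4 @x5)) @x1 @x2)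
private theorem _root_.Cfsg.Agent.KO6e5caa9.e45.{ku0} : @List.replicate.{ku0} = @_root_.Cfsg.Agent.KO6e5caa9.k45.{ku0} := by delta _root_.Cfsg.Agent.KO6e5caa9.k45; funext a0 a1 a2; refine (congrFun (_root_.Cfsg.Agent.KO6e5caa9.e6 (fun a1 a2 => @List.replicate.{ku0} a0 a1 a2) ?_ (fun c0 => ?_) a1) a2 :) <;> (rfl')
private noncomputable def _root_.Cfsg.Agent.KO6e5caa9.k46 : (by first | exact type_of% @Cfsg.Agent.TO.X.Pl.fsRun | exact Unit : Sort _) := by first | (refine @Subtype.val _ (fun g => @Cfsg.Agent.TO.X.Pl.fsRun = @g) (@Subtype.mk _ _ (@(fun x0 x1 x2 x3 x4 x5 x6 x7 x8 => @Cfsg.Agent.KO6e5caa9.k44 @x1 @x3 (@Cfsg.Agent.KO6e5caa9.k5.{0, 0} _ _ @(fun x9 => (@x4 @x9, (@x5 @x9, (@x6 @x9, (@x7 @x9, @x8 @x9))))) (@Cfsg.Agent.KO6e5caa9.k7 @x2 [])) @x0 @(fun x9 x10 => @x10 (nat_lit 0) @x1 @x1 @x1 (nat_lit 0) (@Cfsg.Agent.KO6e5caa9.k45.{0} _ @x2 (nat_lit 0))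 []))) ?_); rewrite [← Cfsg.Agent.KO6e5caa9.e45.{0}, ← Cfsg.Agent.KO6e5caa9.e7, ← Cfsg.Agent.KO6e5caa9.e5.{0, 0}, ← Cfsg.Agent.KO6e5caa9.e44]; (try delta Cfsg.Agent.TO.X.Pl.fsRun); (try generalize @Cfsg.Agent.TO.X.Pl.fsSp = g0); rfl') | exact @Cfsg.Agent.TO.X.Pl.fsRun | exact ()
private theorem _root_.Cfsg.Agent.KO6e5caa9.e46 : (by first | exact @Cfsg.Agent.TO.X.Pl.fsRun = @_root_.Cfsg.Agent.KO6e5caa9.k46 | exact True : Prop) := by first | (delta _root_.Cfsg.Agent.KO6e5caa9.k46; exact @Subtype.property _ (fun g => @Cfsg.Agent.TO.X.Pl.fsRun = @g) _) | rfl | trivial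
private noncomputable def _root_.Cfsg.Agent.KO6e5caa9.k47 : (by first | exact type_of% @Cfsg.Agent.TO.X.Pl.Job.chk2F | exact Unit : Sort _) := by first | (refine @Subtype.val _ (fun g => @Cfsg.Agent.TO.X.Pl.Job.chk2F = @g) (@Subtype.mk _ _ (@(fun x0 x1 x2 x3 => @Bool.rec.{1} @(fun x4 => @Bool) @Bool.false (@Bool.rec.{1} @(fun x4 => @Bool) @Bool.false (@Cfsg.Agent.KO6e5caa9.k46 @x2 (@Cfsg.Agent.TO.X.Pl.Job.p _ @x1) @x0 @(fun x4 x5 => @Bool.rec.{1} @(fun x6 => @Bool) @Bool.true (@Bool.rec.{1} @(fun x6 => @Bool) @Bool.true (@Cfsg.Agent.KO6e5caa9.k27 _ @x1 (@Prod.snd.{0, 0} _ _ (@Prod.snd.{0, 0} _ _ (@Prod.snd.{0, 0} _ _ @x3))) (@Prod.fst.{0, 0} _ _ @x3) @x5) (@Cfsg.Agent.KO6e5caa9.k33 (@Cfsg.Agent.TO.X.Pl.Job.p _ @x1) (@Cfsg.Agent.TO.X.Pl.Job.P _ @x1) (@Cfsg.Agent.TO.X.Pl.Job.alt _ @x1) (@Prod.fst.{0, 0} _ _ @x3) @x5)) (@Cfsg.Agent.KO6e5caa9.k38 (@Cfsg.Agent.TO.X.Pl.Job.iso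 _ @x1) (@Cfsg.Agent.TO.X.Pl.Job.p _ @x1) (@Cfsg.Agent.TO.X.Pl.Job.P _ @x1) (@Prod.fst.{0, 0} _ _ @x3) @x5)) @(fun x4 => @Bool.rec.{1} @(fun x5 => ℕ) (@Cfsg.Agent.TO.X.Pl.Job.p _ @x1) (nat_lit 1) (@Nat.beq @x4 (@Fin.val _ (@Prod.fst.{0, 0} _ _ (@Prod.snd.{0, 0} _ _ @x3))))) @(fun x4 => @Option.rec.{1, 0} ℕ @(fun x5 => ℕ) (nat_lit 0) @(fun x5 => @x5) (@Cfsg.Agent.KO6e5caa9.k14.{0} _ (@Cfsg.Agent.KO6e5caa9.k5.{0, 0} _ _ @(fun x5 => @Cfsg.Agent.KO6e5caa9.k29 @x5 (@Prod.fst.{0, 0} _ _ @x3)) (@Cfsg.Agent.TO.X.Pl.Job.Gt _ @x1)) @x4)) @(fun x4 => @Option.rec.{1, 0} ℕ @(fun x5 => ℕ) (nat_lit 0) @(fun x5 => @x5) (@Cfsg.Agent.KO6e5caa9.k14.{0} _ (@Option.rec.{1, 0} (@List.{0} ℕ) @(fun x5 => @List.{0} ℕ) [] @(fun x5 => @x5) (@Cfsg.Agent.KO6e5caa9.k14.{0} _ (@Prod.fst.{0, 0} _ _ (@Prod.snd.{0, 0} _ _ (@Prod.snd.{0, 0} _ _ @x3))) (nat_lit 0))) @x4)) @(fun x4 => @Option.rec.{1,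 0} ℕ @(fun x5 => ℕ) (nat_lit 0) @(fun x5 => @x5) (@Cfsg.Agent.KO6e5caa9.k14.{0} _ (@Option.rec.{1, 0} (@List.{0} ℕ) @(fun x5 => @List.{0} ℕ) [] @(fun x5 => @x5) (@Cfsg.Agent.KO6e5caa9.k14.{0} _ (@Prod.fst.{0, 0} _ _ (@Prod.snd.{0, 0} _ _ (@Prod.snd.{0, 0} _ _ @x3))) (nat_lit 1))) @x4)) @(fun x4 => @Option.rec.{1, 0} ℕ @(fun x5 => ℕ) (nat_lit 0) @(fun x5 => @x5) (@Cfsg.Agent.KO6e5caa9.k14.{0} _ (@Option.rec.{1, 0} (@List.{0} ℕ) @(fun x5 => @List.{0} ℕ) [] @(fun x5 => @x5) (@Cfsg.Agent.KO6e5caa9.k14.{0} _ (@Prod.fst.{0, 0} _ _ (@Prod.snd.{0, 0} _ _ (@Prod.snd.{0, 0} _ _ @x3))) (nat_lit 2))) @x4))) (@Cfsg.Agent.KO6e5caa9.k1.{0} _ (@Prod.fst.{0, 0} _ _ (@Prod.snd.{0, 0} _ _ (@Prod.snd.{0, 0} _ _ @x3))) @(fun x4 => @Bool.rec.{1} @(fun x5 => @Bool) @Bool.false (@Cfsg.Agent.KO6e5caa9.k1.{0} _ (@Cfsg.Agent.KO6e5caa9.k7 @x0 []) @(fun x5 => @Bool.rec.{1} @(fun x6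 => @Bool) (@Cfsg.Agent.KO6e5caa9.k2.{1} @Bool (@Nat.mod (@Option.rec.{1, 0} ℕ @(fun x6 => ℕ) (nat_lit 0) @(fun x6 => @x6) (@Cfsg.Agent.KO6e5caa9.k14.{0} _ (@Prod.fst.{0, 0} _ _ @x3) @x5)) (@Cfsg.Agent.TO.X.Pl.Job.p _ @x1)) (nat_lit 0) @Bool.false @Bool.true) @Bool.true (@Cfsg.Agent.KO6e5caa9.k2.{1} @Bool (@Option.rec.{1, 0} ℕ @(fun x6 => ℕ) (nat_lit 0) @(fun x6 => @x6) (@Cfsg.Agent.KO6e5caa9.k14.{0} _ @x4 @x5)) (nat_lit 0) @Bool.false @Bool.true))) (@Cfsg.Agent.KO6e5caa9.k9.{0} _ (@Cfsg.Agent.TO.X.Pl.Job.P _ @x1) @(fun x5 => @Cfsg.Agent.KO6e5caa9.k26.{0} _ (@BEq.mk.{0} _ @(fun x6 x7 => @Cfsg.Agent.KO6e5caa9.k2.{1} @Bool @x6 @x7 @Bool.false @Bool.true)) (@Prod.snd.{0, 0} _ _ @x5) @x4))))) (@Bool.rec.{1} @(fun x4 => @Bool) @Bool.true @Bool.false (@Cfsg.Agent.KO6e5caa9.k2.{1} @Bool (@Nat.mod (@Option.rec.{1, 0} ℕ @(fun x4 => ℕ) (nat_lit 0) @(fun x4 => @x4)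 (@Cfsg.Agent.KO6e5caa9.k14.{0} _ (@Prod.fst.{0, 0} _ _ @x3) (@Fin.val _ (@Prod.fst.{0, 0} _ _ (@Prod.snd.{0, 0} _ _ @x3))))) (@Cfsg.Agent.TO.X.Pl.Job.p _ @x1)) (nat_lit 0) @Bool.false @Bool.true)))) ?_); rewrite [← Cfsg.Agent.KO6e5caa9.e26.{0}, ← Cfsg.Agent.KO6e5caa9.e9.{0}, ← Cfsg.Agent.KO6e5caa9.e2.{1}, ← Cfsg.Agent.KO6e5caa9.e7, ← Cfsg.Agent.KO6e5caa9.e1.{0}, ← Cfsg.Agent.KO6e5caa9.e29, ← Cfsg.Agent.KO6e5caa9.e5.{0, 0}, ← Cfsg.Agent.KO6e5caa9.e14.{0}, ← Cfsg.Agent.KO6e5caa9.e38, ← Cfsg.Agent.KO6e5caa9.e33, ← Cfsg.Agent.KO6e5caa9.e27, ← Cfsg.Agent.KO6e5caa9.e46]; (try delta Cfsg.Agent.TO.X.Pl.Job.chk2F Cfsg.Agent.TO.X.Pl.gv); (try generalize @Cfsg.Agent.TO.X.Pl.fsRun = g0); (try generalize @Cfsg.Agent.TO.X.Pl.Job.fnl = g1); (try generalize @Cfsg.Agent.TO.X.Pl.okH = g2); (try generalize @Cfsg.Agent.TO.X.Pl.okZ = g3); (try generalize @Cfsg.Agent.TO.X.Pl.dt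 = g4); rfl') | exact @Cfsg.Agent.TO.X.Pl.Job.chk2F | exact ()
private theorem _root_.Cfsg.Agent.KO6e5caa9.e47 : (by first | exact @Cfsg.Agent.TO.X.Pl.Job.chk2F = @_root_.Cfsg.Agent.KO6e5caa9.k47 | exact True : Prop) := by first | (delta _root_.Cfsg.Agent.KO6e5caa9.k47; exact @Subtype.property _ (fun g => @Cfsg.Agent.TO.X.Pl.Job.chk2F = @g) _) | rfl | trivial

theorem twoE65a : (cE65a.all jE65.chk2) = true :=
  Job.chk2_of (J := jE65) rfl fsOk_E6 (by (first | (rewrite [Cfsg.Agent.KO6e5caa9.e1.{0}, Cfsg.Agent.KO6e5caa9.e47]; decide +kernel) | decide +kernel))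

theorem oneE65 : jE65.chk1 ((cE65a).map Prod.fst) = true := by decide +kernel

theorem twoE65 : ∀ e ∈ cE65a, jE65.chk2 e = true := List.all_eq_true.1 (by
  simp only [twoE65a])

theorem okE65 : jE65.Ok chevE6 [1] := ⟨tyE6, Nm.one, alt_one, fun _ => ⟨rfl, sq5⟩⟩

/-- **the pure planes** -/
theorem plE65 {u x : Fin 6 → ZMod 5} (H : PurePl chevE6 (AdmS 5 [1, P6]) u x) :
    Std chevE6 u x ![4, 0, 4, 2, 0, 1] ![0, 3, 0, 4, 4, 3] := by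
  obtain ⟨s, hs, W, h1, h2⟩ := @Job.Ok.plane _ _ _ _ ⟨pr5⟩ okE65 _ oneE65 twoE65 _ _ (pl_P6 H)
  obtain rfl := List.mem_singleton.1 hs
  exact ⟨W, h1, h2.trans (by
      rw [sp2, show cv 5 6 [4, 0, 4, 2, 0, 1] = ![4, 0, 4, 2, 0, 1] by decide,
        show cv 5 6 [0, 3, 0, 4, 4, 3] = ![0, 3, 0, 4, 4, 3] by decide])⟩

theorem threeE65 : (jE65.std.all jE65.chk3) = true :=
  Job.chk3_of (J := jE65) rfl fsOk_E6 (by decide +kernel)

/-- **the rank** -/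
theorem rkE65 {B : Submodule (ZMod 5) (Fin 6 → ZMod 5)} (H : PureSp chevE6 (AdmS 5 [1, P6]) B) :
    Module.finrank (ZMod 5) B ≤ 2 :=
  @Job.Ok.rank _ _ _ _ ⟨pr5⟩ okE65 _ oneE65 twoE65 (by decide) (List.all_eq_true.1 threeE65) _ (sp_P6 H)

/-- the search for E7, `p = 5` -/
abbrev jE75 : Job 7 := (beta% delta% lq265c502bbe fun b c _ e _ h i _ _ _ _ _ _ _ _ r s t _ _ _ =>
 (h 5 i r s t (fun u => (b u<|c)) (b (e (b 4<|b 0<|b 4<|b 2<|b 0<|b 1<|b 0<|c) (b 0<|b 3<|b 0<|b 4<|b 4<|b 3<|b 0<|c))<|c) (b 2<|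
 b 2<|b 3<|b 4<|b 3<|b 2<|b 1<|c) 0 1))

/-- certificates -/
def cE75a : List (Ent 7) := (beta% delta% lq265c502bbe fun b c _ e g _ _ _ _ _ _ _ _ _ _ _ _ _ _ _ _ =>
 (b (e (b 0<|b 1<|b 1<|b 0<|b 0<|b 0<|b 0<|c)<|e 2<|e (b (b 0<|b 0<|b 0<|b 1<|b 1<|b 1<|b 1<|c)<|b (b 1<|b 0<|b 0<|b 0<|b 0<|b 0<|b 0<|c)<|c) c)<|b (e (b 0<|b 0<|
 b 0<|b 0<|b 1<|b 0<|b 0<|c)<|e 4<|e (b (b 1<|b 1<|b 1<|b 1<|b 0<|b 0<|b 0<|c)<|b (b 0<|b 0<|b 0<|b 0<|b 0<|b 1<|b 1<|c)<|c) c)<|b (e (b 0<|b 1<|b 0<|b 0<|b 1<|b 0<|b 0<|c)<|e 4<|e (b (b 1<|b 0<|b 1<|b 1<|b 0<|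
 b 0<|b 0<|c)<|b (b 0<|b 0<|b 0<|b 0<|b 0<|b 1<|b 1<|c)<|c) c)<|b (e (b 1<|b 0<|b 0<|b 0<|b 0<|b 1<|b 0<|c)<|e 5<|e (b (b 0<|b 1<|b 1<|b 2<|b 1<|b 0<|b 0<|c)<|b (b 0<|b 0<|b 0<|b 0<|b 0<|b 0<|b 1<|c)<|c) (b (e (b 2<|
 b 0<|b 1<|b 1<|b 0<|b 0<|b 0<|c) (b 0<|b 1<|b 3<|b 1<|b 2<|b 0<|b 3<|b 2<|b 4<|b 5<|b 4<|b 3<|b 1<|b 2<|b 3<|b 4<|b 5<|b 6<|b 5<|b 4<|b 3<|b 1<|b 2<|b 0<|b 3<|b 2<|b 4<|b 3<|b 5<|c))<|b (e (b 4<|b 0<|
 b 2<|b 1<|b 0<|b 0<|b 0<|c) (let f:=(let f:=(let f:=(g 4<|g 3<|g 1<|g 5<|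
 g 4<|c);
 (g 2<|g 0<|g 3<|g 2<|f));
 (let f:=(g 5<|g 4<|g 3<|g 1<|f);
 (g 3<|g 4<|g 5<|g 6<|f)));
 (let f:=(let f:=(g 4<|g 3<|g 1<|g 2<|f);
 (g 4<|g 3<|g 1<|g 5<|f));
 (let f:=(g 2<|g 0<|g 3<|g 2<|f);
 (b 1<|b 2<|b 3<|b 1<|f)))))<|b (e (b 3<|b 2<|b 0<|b 1<|b 1<|b 0<|b 0<|c) (let f:=(let f:=(let f:=(g 1<|g 5<|g 4<|g 3<|g 6<|c);
 (g 3<|g 2<|g 4<|
 g 3<|f));
 (let f:=(g 4<|g 3<|g 1<|g 2<|g 0<|f);
 (g 4<|g 3<|g 6<|g 5<|f)));
 (let f:=(let f:=(g 1<|g 2<|g 0<|g 3<|g 2<|f);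
 (g 0<|g 5<|g 4<|g 3<|f));
 (let f:=(g 2<|g 4<|g 3<|g 2<|f);
 (b 0<|b 2<|b 0<|b 3<|f)))))<|b (e (b 1<|b 1<|b 0<|b 1<|b 2<|b 0<|b 0<|c) (let f:=(let f:=(let f:=(g 1<|g 5<|g 4<|g 3<|g 2<|c);
 (g 0<|g 3<|g 2<|g 4<|g 3<|f));
 (let f:=(g 5<|g 4<|
 g 3<|g 1<|g 2<|f);
 (g 3<|g 4<|g 5<|g 6<|f)));
 (let f:=(let f:=(g 5<|g 4<|g 3<|g 1<|g 2<|f);
 (g 2<|g 0<|g 3<|g 4<|f));
 (let f:=(g 2<|g 0<|g 4<|g 3<|g 1<|f);
 (b 0<|b 1<|b 2<|b 3<|f)))))<|c))<|b (e (b 1<|b 0<|b 0<|b 0<|b 0<|b 1<|b 1<|c)<|e 6<|e (b (b 0<|b 1<|b 1<|b 2<|b 1<|b 0<|b 0<|c)<|c) (b (e (b 2<|b 2<|b 1<|b 1<|b 0<|b 0<|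
 b 0<|c) (let f:=(let f:=(let f:=(g 3<|g 1<|g 2<|g 3<|
 g 4<|c);
 (g 2<|g 0<|g 6<|g 5<|g 4<|f));
 (let f:=(g 3<|g 1<|g 5<|g 4<|g 3<|f);
 (g 0<|g 3<|g 2<|g 4<|f)));
 (let f:=(let f:=(g 5<|g 4<|g 3<|g 1<|g 2<|f);
 (g 0<|g 3<|g 4<|g 6<|f));
 (let f:=(g 0<|g 4<|g 3<|g 1<|g 2<|f);
 (b 0<|b 2<|b 3<|b 2<|f)))))<|b (e (b 4<|b 1<|b 2<|b 1<|b 0<|b 0<|b 0<|c) (b 0<|b 2<|b 0<|b 3<|b 1<|b 4<|b 3<|b 5<|b 4<|b 3<|b 1<|b 2<|b 0<|b 3<|b 2<|b 4<|b 3<|b 1<|b 5<|b 4<|b 3<|b 2<|b 0<|b 6<|b 5<|b 4<|b 3<|b 1<|b 2<|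
 b 3<|b 4<|c))<|b (e (b 3<|b 0<|b 0<|b 1<|b 2<|b 2<|b 0<|c) (let f:=(let f:=(let f:=(g 5<|g 4<|g 3<|g 1<|g 2<|c);
 (g 3<|g 2<|g 0<|
 g 6<|f));
 (let f:=(g 3<|g 1<|g 5<|g 4<|f);
 (g 0<|g 3<|g 2<|g 4<|f)));
 (let f:=(let f:=(g 5<|g 4<|g 3<|g 1<|g 2<|f);
 (g 0<|g 3<|g 4<|g 6<|f));
 (let f:=(g 4<|g 3<|g 1<|g 2<|f);
 (b 2<|b 3<|b 2<|b 0<|f)))))<|b (e (b 1<|b 0<|b 0<|b 1<|b 1<|b 3<|b 0<|c) (b 0<|b 3<|b 2<|b 0<|b 4<|b 3<|b 1<|b 2<|b 0<|b 6<|b 5<|b 4<|b 3<|b 1<|b 2<|b 0<|b 3<|b 2<|b 4<|b 3<|b 1<|b 5<|b 4<|b 3<|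
 b 2<|b 0<|b 6<|b 5<|b 4<|b 3<|c))<|c))<|b (e (b 0<|b 0<|b 1<|b 0<|b 0<|b 0<|b 2<|c)<|e 6<|e (b (b 0<|b 1<|b 0<|b 1<|b 1<|b 1<|b 0<|c)<|b (b 1<|b 0<|b 0<|b 0<|b 0<|b 0<|b 0<|c)<|c) c)<|c))

theorem twoE75a : (cE75a.all jE75.chk2) = true :=
  Job.chk2_of (J := jE75) rfl fsOk_E7 (by (first | (rewrite [Cfsg.Agent.KO6e5caa9.e1.{0}, Cfsg.Agent.KO6e5caa9.e47]; decide +kernel) | decide +kernel))

theorem oneE75 : jE75.chk1 ((cE75a).map Prod.fst) = true := by decide +kernel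

theorem twoE75 : ∀ e ∈ cE75a, jE75.chk2 e = true := List.all_eq_true.1 (by
  simp only [twoE75a])

theorem okE75 : jE75.Ok chevE7 [1] := ⟨tyE7, Nm.one, alt_one, fun _ => ⟨rfl, sq5⟩⟩

/-- **the pure planes** -/
theorem plE75 {u x : Fin 7 → ZMod 5} (H : PurePl chevE7 (AdmS 5 [1]) u x) :
    Std chevE7 u x ![4, 0, 4, 2, 0, 1, 0] ![0, 3, 0, 4, 4, 3, 0] := by
  obtain ⟨s, hs, W, h1, h2⟩ := @Job.Ok.plane _ _ _ _ ⟨pr5⟩ okE75 _ oneE75 twoE75 _ _ H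
  obtain rfl := List.mem_singleton.1 hs
  exact ⟨W, h1, h2.trans (by
      rw [sp2, show cv 5 7 [4, 0, 4, 2, 0, 1, 0] = ![4, 0, 4, 2, 0, 1, 0] by decide,
        show cv 5 7 [0, 3, 0, 4, 4, 3, 0] = ![0, 3, 0, 4, 4, 3, 0] by decide])⟩

theorem threeE75 : (jE75.std.all jE75.chk3) = true :=
  Job.chk3_of (J := jE75) rfl fsOk_E7 (by decide +kernel)

/-- **the rank** -/
theorem rkE75 {B : Submodule (ZMod 5) (Fin 7 → ZMod 5)} (H : PureSp chevE7 (AdmS 5 [1]) B) :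
    Module.finrank (ZMod 5) B ≤ 2 :=
  @Job.Ok.rank _ _ _ _ ⟨pr5⟩ okE75 _ oneE75 twoE75 (by decide) (List.all_eq_true.1 threeE75) _ H

/-- the search for E8, `p = 5` -/
abbrev jE85 : Job 8 := (beta% delta% lq265c502bbe fun b c _ e _ h i _ _ _ _ _ _ _ _ _ _ _ v w x =>
 (h 5 i v w x (fun u => (b u<|c)) (b (e (b 4<|b 0<|b 4<|b 2<|b 0<|b 1<|b 0<|b 0<|c) (b 0<|b 3<|b 0<|b 4<|b 4<|b 3<|b 0<|
 b 0<|c))<|b (e (b 0<|b 0<|b 0<|b 0<|b 1<|b 0<|b 0<|b 0<|c) (b 1<|b 1<|b 1<|b 1<|b 0<|b 1<|b 1<|b 1<|c))<|c) (b 2<|b 3<|b 4<|b 6<|b 5<|b 4<|b 3<|b 2<|c) 4 0))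

/-- certificates -/
def cE85a : List (Ent 8) := (beta% delta% lq265c502bbe fun b c d e _ _ _ _ _ _ _ _ _ _ _ _ _ _ _ _ _ =>
 (b (e (b 0<|b 0<|b 0<|b 0<|b 1<|b 0<|b 0<|b 0<|c)<|e 4<|e (b (b 1<|b 1<|b 1<|b 1<|b 0<|b 0<|b 0<|b 0<|c)<|b (b 0<|b 0<|b 0<|b 0<|b 0<|b 1<|b 1<|b 1<|c)<|c) (b (e (b 1<|
 b 1<|b 1<|b 1<|b 0<|b 1<|b 1<|b 1<|c) (let f:=(let f:=(let f:=(d 3<|d 1<|d 2<|d 0<|d 3<|d 2<|c);
 (d 5<|d 6<|d 7<|d 6<|d 5<|d 4<|f));
 (let f:=(d 1<|d 2<|d 0<|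
 d 3<|d 2<|d 4<|f);
 (d 5<|d 6<|d 5<|d 4<|d 3<|f)));
 (let f:=(let f:=(d 1<|d 2<|d 0<|d 3<|d 2<|d 4<|f);
 (d 3<|d 2<|d 4<|d 5<|d 4<|d 3<|f));
 (let f:=(d 3<|d 4<|d 3<|d 1<|d 2<|d 0<|f);
 (b 2<|b 0<|b 3<|b 1<|b 2<|f)))))<|b (e (b 1<|b 1<|b 1<|b 1<|b 0<|b 2<|b 1<|b 1<|c) (b 7<|b 6<|b 5<|c))<|b (e (b 1<|b 1<|b 1<|b 1<|b 0<|b 1<|b 2<|b 1<|c) (b 6<|
 b 5<|b 7<|b 6<|c))<|b (e (b 1<|b 1<|b 1<|b 1<|b 0<|b 1<|b 1<|b 2<|c) (let f:=(let f:=(let f:=(let f:=(d 3<|d 7<|d 6<|d 5<|c);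
 (d 4<|d 3<|d 1<|d 2<|f));
 (d 5<|d 4<|d 3<|d 2<|d 0<|d 6<|d 5<|f));
 (let f:=(d 2<|d 0<|d 3<|d 2<|d 4<|d 3<|d 1<|f);
 (d 5<|d 7<|d 6<|d 5<|d 4<|d 3<|d 1<|f)));
 (let f:=(let f:=(d 3<|d 1<|d 2<|d 0<|d 3<|
 d 2<|d 4<|f);
 (d 4<|d 3<|d 1<|d 2<|d 6<|d 5<|d 4<|f));
 (let f:=(d 2<|d 0<|d 3<|d 2<|d 4<|d 3<|d 5<|f);
 (b 0<|b 1<|b 2<|b 0<|b 4<|b 3<|b 1<|f)))))<|c))<|b (e (b 1<|b 0<|b 0<|b 0<|b 0<|b 0<|
 b 0<|b 1<|c)<|e 7<|e (b (b 0<|b 1<|b 1<|b 2<|b 2<|b 2<|b 1<|b 0<|c)<|c) (b (e (b 2<|b 2<|b 1<|b 1<|b 0<|b 0<|b 0<|b 0<|c) (let f:=(let f:=(let f:=(let f:=(d 3<|d 1<|d 2<|d 3<|d 4<|c);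
 (d 7<|d 6<|d 5<|d 4<|f));
 (let f:=(d 3<|d 1<|d 2<|d 3<|d 4<|f);
 (d 0<|
 d 6<|d 5<|d 4<|f)));
 (let f:=(let f:=(d 1<|d 5<|d 4<|d 3<|d 2<|f);
 (d 3<|d 2<|d 4<|d 3<|f));
 (let f:=(d 4<|d 3<|d 1<|d 2<|d 0<|f);
 (d 2<|d 7<|d 6<|d 5<|f))));
 (let f:=(let f:=(let f:=(d 3<|d 1<|d 5<|d 4<|d 3<|f);
 (d 0<|d 3<|d 2<|d 4<|f));
 (let f:=(d 5<|d 4<|d 3<|d 1<|d 2<|f);
 (d 3<|d 4<|d 5<|d 6<|f)));
 (let f:=(let f:=(d 5<|d 4<|d 3<|
 d 1<|d 2<|f);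
 (d 2<|d 0<|d 3<|d 4<|f));
 (let f:=(d 2<|d 0<|d 4<|d 3<|d 1<|f);
 (b 0<|b 1<|b 2<|b 3<|f))))))<|b (e (b 4<|b 1<|b 2<|b 1<|b 0<|b 0<|b 0<|b 0<|c) (let f:=(let f:=(let f:=(let f:=(d 3<|d 1<|d 2<|d 3<|d 4<|c);
 (d 7<|d 6<|d 5<|d 4<|f));
 (let f:=(d 3<|d 1<|d 2<|d 3<|d 4<|f);
 (d 0<|d 6<|d 5<|d 4<|f)));
 (let f:=(let f:=(d 1<|d 5<|d 4<|
 d 3<|d 2<|f);
 (d 3<|d 2<|d 4<|d 3<|f));
 (let f:=(d 4<|d 3<|d 1<|d 2<|d 0<|f);
 (d 2<|d 7<|d 6<|d 5<|f))));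
 (let f:=(let f:=(let f:=(d 3<|d 1<|d 5<|d 4<|d 3<|f);
 (d 0<|d 3<|d 2<|d 4<|f));
 (let f:=(d 5<|d 4<|d 3<|d 1<|d 2<|f);
 (d 3<|d 4<|d 5<|d 6<|f)));
 (let f:=(let f:=(d 5<|d 4<|d 3<|d 1<|d 2<|f);
 (d 2<|d 4<|d 3<|d 1<|
 f));
 (let f:=(d 1<|d 2<|d 0<|d 3<|f);
 (b 0<|b 1<|b 2<|b 3<|f))))))<|b (e (b 3<|b 0<|b 0<|b 0<|b 0<|b 1<|b 1<|b 0<|c) (let f:=(let f:=(let f:=(let f:=(d 5<|d 4<|d 3<|d 2<|c);
 (d 3<|d 1<|d 7<|d 6<|f));
 (d 4<|d 3<|d 2<|d 0<|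
 d 6<|d 5<|d 4<|f));
 (let f:=(let f:=(d 4<|d 3<|d 1<|d 5<|f);
 (d 2<|d 0<|d 3<|d 2<|f));
 (d 5<|d 7<|d 6<|d 5<|d 4<|d 3<|d 1<|f)));
 (let f:=(let f:=(let f:=(d 2<|d 4<|d 3<|d 1<|f);
 (d 1<|d 2<|d 0<|d 3<|f));
 (d 0<|d 3<|d 4<|d 6<|d 5<|d 4<|d 3<|f));
 (let f:=(d 2<|d 0<|
 d 5<|d 4<|d 3<|d 1<|d 2<|f);
 (b 0<|b 1<|b 2<|b 0<|b 4<|b 3<|b 1<|f)))))<|b (e (b 1<|b 0<|b 0<|b 0<|b 0<|b 1<|b 2<|b 0<|c) (let f:=(let f:=(let f:=(let f:=(d 5<|d 4<|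
 d 3<|d 1<|c);
 (d 3<|d 2<|d 7<|d 6<|f));
 (d 4<|d 3<|d 2<|d 0<|d 6<|d 5<|d 4<|f));
 (let f:=(let f:=(d 4<|d 3<|d 1<|d 5<|f);
 (d 2<|d 0<|d 3<|d 2<|f));
 (d 4<|d 7<|d 6<|d 5<|d 4<|d 3<|d 1<|f)));
 (let f:=(let f:=(let f:=(d 2<|d 4<|d 3<|d 5<|f);
 (d 1<|d 2<|d 0<|d 3<|f));
 (d 0<|d 3<|d 2<|d 6<|
 d 5<|d 4<|d 3<|f));
 (let f:=(d 2<|d 3<|d 5<|d 4<|d 3<|d 1<|d 2<|f);
 (b 0<|b 1<|b 2<|b 0<|b 4<|b 3<|b 1<|f)))))<|c))<|c))

theorem twoE85a : (cE85a.all jE85.chk2) = true :=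
  Job.chk2_of (J := jE85) rfl fsOk_E8 (by (first | (rewrite [Cfsg.Agent.KO6e5caa9.e1.{0}, Cfsg.Agent.KO6e5caa9.e47]; decide +kernel) | decide +kernel))

theorem oneE85 : jE85.chk1 ((cE85a).map Prod.fst) = true := by decide +kernel

theorem twoE85 : ∀ e ∈ cE85a, jE85.chk2 e = true := List.all_eq_true.1 (by
  simp only [twoE85a])

theorem okE85 : jE85.Ok chevE8 [1] := ⟨tyE8, Nm.one, alt_one, fun _ => ⟨rfl, sq5⟩⟩

/-- **the pure planes** -/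
theorem plE85 {u x : Fin 8 → ZMod 5} (H : PurePl chevE8 (AdmS 5 [1]) u x) :
    Std chevE8 u x ![4, 0, 4, 2, 0, 1, 0, 0] ![0, 3, 0, 4, 4, 3, 0, 0] ∨
      Std chevE8 u x ![0, 0, 0, 0, 1, 0, 0, 0] ![1, 1, 1, 1, 0, 1, 1, 1] := by
  obtain ⟨s, hs, W, h1, h2⟩ := @Job.Ok.plane _ _ _ _ ⟨pr5⟩ okE85 _ oneE85 twoE85 _ _ H
  rcases List.mem_pair.1 hs with rfl | rfl
  · exact Or.inl ⟨W, h1, h2.trans (by
      rw [sp2, show cv 5 8 [4, 0, 4, 2, 0, 1, 0, 0] = ![4, 0, 4, 2, 0, 1, 0, 0] by decide,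
        show cv 5 8 [0, 3, 0, 4, 4, 3, 0, 0] = ![0, 3, 0, 4, 4, 3, 0, 0] by decide])⟩
  · exact Or.inr ⟨W, h1, h2.trans (by
      rw [sp2, show cv 5 8 [0, 0, 0, 0, 1, 0, 0, 0] = ![0, 0, 0, 0, 1, 0, 0, 0] by decide,
        show cv 5 8 [1, 1, 1, 1, 0, 1, 1, 1] = ![1, 1, 1, 1, 0, 1, 1, 1] by decide])⟩

private noncomputable def _root_.Cfsg.Agent.KO6e5caa9.k50 : (by first | exact type_of% @Cfsg.Agent.TO.X.Pl.Job.chk3F | exact Unit : Sort _) := by first | (refine @Subtype.val _ (fun g => @Cfsg.Agent.TO.X.Pl.Job.chk3F = @g) (@Subtype.mk _ _ (@(fun x0 x1 x2 x3 => @Cfsg.Agent.KO6e5caa9.k46 @x2 (@Cfsg.Agent.TO.X.Pl.Job.p _ @x1) @x0 @(fun x4 x5 => @Bool.rec.{1} @(fun x6 => @Bool) @Bool.true (@Bool.rec.{1} @(fun x6 => @Bool) @Bool.true @Bool.false (@Nat.rec.{1} @(fun x6 => @Bool) @Bool.true @(fun x6 x7 => @Bool.rec.{1} @(fun x8 => @Bool) @Bool.false @x7 (@Cfsg.Agent.KO6e5caa9.k33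 (@Cfsg.Agent.TO.X.Pl.Job.p _ @x1) (@Cfsg.Agent.TO.X.Pl.Job.P _ @x1) (@Cfsg.Agent.TO.X.Pl.Job.alt _ @x1) (@Prod.fst.{0, 0} _ _ @x3) (@Cfsg.Agent.KO6e5caa9.k5.{0, 0} _ _ @(fun x8 => @Nat.add (@Option.rec.{1, 0} ℕ @(fun x9 => ℕ) (nat_lit 0) @(fun x9 => @x9) (@Cfsg.Agent.KO6e5caa9.k14.{0} _ @x5 @x8)) (@Nat.mul @x6 (@Option.rec.{1, 0} ℕ @(fun x9 => ℕ) (nat_lit 0) @(fun x9 => @x9) (@Cfsg.Agent.KO6e5caa9.k14.{0} _ (@Prod.snd.{0, 0} _ _ @x3) @x8)))) (@Cfsg.Agent.KO6e5caa9.k7 @x0 [])))) (@Cfsg.Agent.TO.X.Pl.Job.p _ @x1))) (@Nat.beq (@Nat.mod (@Cfsg.Agent.KO6e5caa9.k29 (@Cfsg.Agent.KO6e5caa9.k5.{0, 0} _ _ @(fun x6 => @Cfsg.Agent.KO6e5caa9.k29 @x6 (@Prod.snd.{0, 0} _ _ @x3)) (@Cfsg.Agent.TO.X.Pl.Job.Gt _ @x1)) @x5) (@Cfsg.Agent.TO.X.Pl.Job.p _ @x1)) (nat_lit 0))) @(fun x4 => @Bool.rec.{1} @(fun x5 => ℕ) (@Cfsg.Agent.TO.X.Pl.Job.p _ @x1) (nat_lit 1) (@Bool.rec.{1}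 @(fun x5 => @Bool) (@Nat.beq @x4 (@Fin.val _ (@Cfsg.Agent.TO.X.Pl.Job.j2 _ @x1))) @Bool.true (@Nat.beq @x4 (@Fin.val _ (@Cfsg.Agent.TO.X.Pl.Job.j1 _ @x1))))) @(fun x4 => @Option.rec.{1, 0} ℕ @(fun x5 => ℕ) (nat_lit 0) @(fun x5 => @x5) (@Cfsg.Agent.KO6e5caa9.k14.{0} _ (@Cfsg.Agent.KO6e5caa9.k5.{0, 0} _ _ @(fun x5 => @Cfsg.Agent.KO6e5caa9.k29 @x5 (@Prod.fst.{0, 0} _ _ @x3)) (@Cfsg.Agent.TO.X.Pl.Job.Gt _ @x1)) @x4)) @(fun x4 => nat_lit 0) @(fun x4 => nat_lit 0) @(fun x4 => nat_lit 0))) ?_); rewrite [← Cfsg.Agent.KO6e5caa9.e29, ← Cfsg.Agent.KO6e5caa9.e7, ← Cfsg.Agent.KO6e5caa9.e14.{0}, ← Cfsg.Agent.KO6e5caa9.e5.{0, 0}, ← Cfsg.Agent.KO6e5caa9.e33, ← Cfsg.Agent.KO6e5caa9.e46]; (try delta Cfsg.Agent.TO.X.Pl.Job.chk3F Cfsg.Agent.TO.X.Pl.gv Cfsg.Agent.TO.X.Pl.lp); (try generalize @Cfsg.Agent.TO.X.Pl.fsRun = g0); (try generalize @Cfsg.Agent.TO.X.Pl.okH = g1); (try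 generalize @Cfsg.Agent.TO.X.Pl.dt = g2); rfl') | exact @Cfsg.Agent.TO.X.Pl.Job.chk3F | exact ()
private theorem _root_.Cfsg.Agent.KO6e5caa9.e50 : (by first | exact @Cfsg.Agent.TO.X.Pl.Job.chk3F = @_root_.Cfsg.Agent.KO6e5caa9.k50 | exact True : Prop) := by first | (delta _root_.Cfsg.Agent.KO6e5caa9.k50; exact @Subtype.property _ (fun g => @Cfsg.Agent.TO.X.Pl.Job.chk3F = @g) _) | rfl | trivial

theorem threeE85 : (jE85.std.all jE85.chk3) = true :=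
  Job.chk3_of (J := jE85) rfl fsOk_E8 (by (first | (rewrite [Cfsg.Agent.KO6e5caa9.e1.{0}, Cfsg.Agent.KO6e5caa9.e50]; decide +kernel) | decide +kernel))

/-- **the rank** -/
theorem rkE85 {B : Submodule (ZMod 5) (Fin 8 → ZMod 5)} (H : PureSp chevE8 (AdmS 5 [1]) B) :
    Module.finrank (ZMod 5) B ≤ 2 :=
  @Job.Ok.rank _ _ _ _ ⟨pr5⟩ okE85 _ oneE85 twoE85 (by decide) (List.all_eq_true.1 threeE85) _ H

end Cfsg.Agent.TO.X.Pl
end

-- part: TO/X5/TabA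
section
/-!
# S4817, exceptional groups, `p = 5` : the root system `D₄` on the non-zero points of a plane over `𝔽₅` (helper34)
-/

set_option autoImplicit false
set_option linter.unusedSectionVars false
set_option maxHeartbeats 200000

namespace Cfsg.Agent.TO.X5

open CoxeterSystem Cfsg Cfsg.Lie Cfsg.Lie.ChevalleyDatum Matrix
open Cfsg.Agent.ChevalleyStructure Cfsg.Agent.ChevalleyStructure.Elts Cfsg.Agent.ChevalleyStructure.CoxeterGeom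
  Cfsg.Agent.ChevalleyStructure.CoxeterGeomTypes
open Cfsg.Agent.Tits.Roots Cfsg.Agent.Nodes Cfsg.Agent.Nodes.RGDChev Cfsg.Agent.Nodes.Coroot Cfsg.Agent.TO.X

/-! ### the universal table -/

/-- the linear forms on the plane -/
abbrev P5 : Type := ZMod 5 × ZMod 5

/-- the number of a form -/
def cd (a : P5) : ℕ := 5 * a.1.val + a.2.val

/-- the scalar product of two lists -/
def dt (x y : List ℤ) : ℤ := (List.zipWith (· * ·) x y).sum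

/-- the roots of `D₄` -/
def r0 (a : P5) : List ℤ :=
  (beta% delta% lq265c502bbe fun b c _ _ _ _ _ _ _ _ _ _ _ _ _ _ _ _ _ _ _ =>
 (b c<|b (b 0<|b 0<|b (-1)<|b 1<|c)<|b (b 0<|b 0<|b (-1)<|b (-1)<|c)<|b (b 0<|b 0<|b 1<|b 1<|c)<|b (b 0<|b 0<|b 1<|b (-1)<|c)<|b (b (-1)<|b 1<|b 0<|b 0<|c)<|b (b 1<|b 0<|b 1<|b 0<|c)<|b (b 1<|b 0<|b 0<|b 1<|c)<|
 b (b 1<|b 0<|b 0<|b (-1)<|c)<|b (b 1<|b 0<|b (-1)<|b 0<|c)<|b (b (-1)<|b (-1)<|b 0<|b 0<|c)<|b (b 0<|b 1<|b 1<|b 0<|c)<|b (b 0<|b 1<|b 0<|b 1<|c)<|b (b 0<|b 1<|b 0<|b (-1)<|c)<|b (b 0<|b 1<|b (-1)<|b 0<|c)<|b (b 1<|b 1<|b 0<|b 0<|c)<|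
 b (b 0<|b (-1)<|b 1<|b 0<|c)<|b (b 0<|b (-1)<|b 0<|b 1<|c)<|b (b 0<|b (-1)<|b 0<|b (-1)<|c)<|b (b 0<|b (-1)<|b (-1)<|b 0<|c)<|b (b 1<|b (-1)<|b 0<|b 0<|c)<|b (b (-1)<|b 0<|b 1<|b 0<|c)<|b (b (-1)<|b 0<|b 0<|b 1<|c)<|
 b (b (-1)<|b 0<|b 0<|b (-1)<|c)<|b (b (-1)<|b 0<|b (-1)<|b 0<|c)<|c).getD (cd a) c)

/-- the Gram matrix -/
def gm (a b : P5) : ℤ := dt (r0 a) (r0 b)

/-- a linear map -/
def lm (m : P5 × P5) (a : P5) : P5 := (m.1.1 * a.1 + m.1.2 * a.2, m.2.1 * a.1 + m.2.2 * a.2)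

/-- the Gram matrix is preserved -/
def Gp (m : P5 × P5) : Prop := ∀ a, gm (lm m a) (lm m (1, 0)) = gm a (1, 0)

instance decGp (m : P5 × P5) : Decidable (Gp m) := by unfold Gp; infer_instance

theorem gp_five : ∀ m : P5 × P5, Gp m → (lm m)^[5] (1, 0) = (1, 0) → (lm m)^[5] (0, 1) = (0, 1) →
    m = ((1, 0), (0, 1)) := by
  decide +kernel

/-- the relation of an element of order three -/
def Th (m : P5 × P5) (a : P5) : Prop := gm a (lm m a) = -1 ∧ gm (lm m a) a = -1 ∧ lm m (lm m a) = -(a + lm m a)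

instance decTh (m : P5 × P5) (a : P5) : Decidable (Th m a) := by unfold Th; infer_instance

theorem gp_three : ∀ m : P5 × P5, Gp m → (1, 0) + lm m (1, 0) + lm m (lm m (1, 0)) = 0 →
    (0, 1) + lm m (0, 1) + lm m (lm m (0, 1)) = 0 → ∀ a, a ≠ 0 → Th m a := by
  decide +kernel

private noncomputable def _root_.Cfsg.Agent.KO6e5caa9.k51 : type_of% @Decidable.decide := @(fun x0 x1 => @Decidable.rec.{1} _ @(fun x2 => @Bool) @(fun x2 => @Bool.false) @(fun x2 => @Bool.true) @x1)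
private theorem _root_.Cfsg.Agent.KO6e5caa9.e51 : @Decidable.decide = @_root_.Cfsg.Agent.KO6e5caa9.k51 := by delta _root_.Cfsg.Agent.KO6e5caa9.k51; rfl'
private noncomputable def _root_.Cfsg.Agent.KO6e5caa9.k52.{ku0, ku1} : type_of% @Quot.rec.{ku0, ku1} := @(fun x0 x1 x2 x3 x4 x5 => @Eq.rec.{ku1, ku0} (@Quot.{ku0} _ @x1) (@PSigma.fst.{ku0, ku1} _ _ (@Quot.lift.{ku0, (max (max 1 ku1) ku0)} _ _ _ (@Quot.indep.{ku0, ku1} _ _ _ @x3) (@Quot.indepCoherent.{ku0, ku1} _ _ _ @x3 @x4) @x5)) @(fun x6 x7 => @x2 @x6) (@PSigma.snd.{ku0, ku1} _ _ (@Quot.lift.{ku0, (max (max 1 ku1) ku0)} _ _ _ (@Quot.indep.{ku0, ku1} _ _ _ @x3) (@Quot.indepCoherent.{ku0, ku1} _ _ _ @x3 @x4) @x5)) @x5 (@Quot.liftIndepPr1.{ku0, ku1} _ _ _ @x3 @x4 @x5))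
private theorem _root_.Cfsg.Agent.KO6e5caa9.e52.{ku0, ku1} : @Quot.rec.{ku0, ku1} = @_root_.Cfsg.Agent.KO6e5caa9.k52.{ku0, ku1} := by delta _root_.Cfsg.Agent.KO6e5caa9.k52; rfl'
private noncomputable def _root_.Cfsg.Agent.KO6e5caa9.k53.{ku0, ku1} : type_of% @Quot.recOnSubsingleton.{ku0, ku1} := @(fun x0 x1 x2 x3 x4 x5 => @Cfsg.Agent.KO6e5caa9.k52.{ku0, ku1} _ _ @(fun x6 => @x2 @x6) @(fun x6 => @x5 @x6) (@Quot.recOnSubsingleton._proof_1.{ku1, ku0} _ _ _ _ @x5) @x4)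
private theorem _root_.Cfsg.Agent.KO6e5caa9.e53.{ku0, ku1} : @Quot.recOnSubsingleton.{ku0, ku1} = @_root_.Cfsg.Agent.KO6e5caa9.k53.{ku0, ku1} := by delta _root_.Cfsg.Agent.KO6e5caa9.k53; rewrite [← Cfsg.Agent.KO6e5caa9.e52.{ku0, ku1}]; rfl'
private noncomputable def _root_.Cfsg.Agent.KO6e5caa9.k54.{ku0} : type_of% @List.decidableBAll.{ku0} := @(fun x0 x1 x2 x3 => @List.rec.{1, ku0} @x0 @(fun x4 => @Decidable ((x5 : @x0) → (@Membership.mem.{ku0, ku0} _ _ _ @x4 @x5) → @x1 @x5)) (@Decidable.isTrue _ (@List.decidableBAll._proof_1.{ku0} _ @x1)) @(fun x4 x5 x6 => @Decidable.rec.{1} _ @(fun x7 => @Decidable ((x8 : @x0) → (@Membership.mem.{ku0, ku0} _ _ _ (@x4 :: @x5) @x8) → @x1 @x8)) @(fun x7 => @Decidable.isFalse _ (@List.decidableBAll._proof_4.{ku0} _ @x1 @x4 @x5 @x7)) @(fun x7 => @Decidable.rec.{1} _ @(fun x8 => @Decidable ((x9 : @x0) → (@Membership.mem.{ku0,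 ku0} _ _ _ (@x4 :: @x5) @x9) → @x1 @x9)) @(fun x8 => @Decidable.isFalse _ (@List.decidableBAll._proof_3.{ku0} _ @x1 @x4 @x5 @x8)) @(fun x8 => @Decidable.isTrue _ (@List.decidableBAll._proof_2.{ku0} _ @x1 @x4 @x5 @x7 @x8)) @x6) (@x2 @x4)) @x3)
private theorem _root_.Cfsg.Agent.KO6e5caa9.e54.{ku0} : @List.decidableBAll.{ku0} = @_root_.Cfsg.Agent.KO6e5caa9.k54.{ku0} := by delta _root_.Cfsg.Agent.KO6e5caa9.k54; funext a0 a1 a2 a3; refine (_root_.Cfsg.Agent.KO6e5caa9.e0 (fun a3 => @List.decidableBAll.{ku0} a0 a1 a2 a3) ?_ (fun c0 c1 => ?_) a3 :) <;> (rfl')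
private noncomputable def _root_.Cfsg.Agent.KO6e5caa9.k55.{ku0} : type_of% @Multiset.decidableForallMultiset.{ku0} := @(fun (x0 : Sort (ku0+1)) (x1 : @Multiset.{ku0} @x0) (x2 : (x0 → Prop)) (x3 : ((x3 : x0) → @Decidable (@x2 @x3))) => @Cfsg.Agent.KO6e5caa9.k53.{(ku0+1), 1} (@List.{ku0} @x0) (@Setoid.r.{(ku0+1)} (@List.{ku0} @x0) (@List.isSetoid.{ku0} @x0)) @(fun (x4 : @Quotient.{(ku0+1)} (@List.{ku0} @x0) (@List.isSetoid.{ku0} @x0)) => @Decidable ((x5 : x0) → ((@Membership.mem.{ku0, ku0} @x0 (@Multiset.{ku0} @x0) (@Multiset.instMembership.{ku0} @x0) @x4 @x5) → @x2 @x5))) (@Multiset.decidableForallMultiset._proof_2.{ku0} @x0 @x2) @x1 @(fun (x4 : @List.{ku0} @x0) => @Decidable.rec.{1} ((x5 : x0) → ((@Membership.mem.{ku0, ku0} @x0 (@List.{ku0} @x0) (@List.instMembership.{ku0} @x0) @x4 @x5) → @x2 @x5)) @(fun (x5 : @Decidable ((x5 : x0) → ((@Membership.mem.{ku0,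 ku0} @x0 (@List.{ku0} @x0) (@List.instMembership.{ku0} @x0) @x4 @x5) → @x2 @x5))) => @Decidable ((x6 : x0) → ((@Membership.mem.{ku0, ku0} @x0 (@Multiset.{ku0} @x0) (@Multiset.instMembership.{ku0} @x0) (@Quotient.mk.{(ku0+1)} (@List.{ku0} @x0) (@List.isSetoid.{ku0} @x0) @x4) @x6) → @x2 @x6))) @(fun (x5 : @Not ((x5 : x0) → ((@Membership.mem.{ku0, ku0} @x0 (@List.{ku0} @x0) (@List.instMembership.{ku0} @x0) @x4 @x5) → @x2 @x5))) => @Decidable.isFalse ((x6 : x0) → ((@Membership.mem.{ku0, ku0} @x0 (@Multiset.{ku0} @x0) (@Multiset.instMembership.{ku0} @x0) (@Quotient.mk.{(ku0+1)} (@List.{ku0} @x0) (@List.isSetoid.{ku0} @x0) @x4) @x6) → @x2 @x6)) (@decidable_of_decidable_of_iff._proof_1 ((x6 : x0) → ((@Membership.mem.{ku0, ku0} @x0 (@List.{ku0} @x0) (@List.instMembership.{ku0} @x0) @x4 @x6) → @x2 @x6)) ((x6 : x0) → ((@Membership.mem.{ku0, ku0} @x0 (@Multiset.{ku0}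 @x0) (@Multiset.instMembership.{ku0} @x0) (@Quotient.mk.{(ku0+1)} (@List.{ku0} @x0) (@List.isSetoid.{ku0} @x0) @x4) @x6) → @x2 @x6)) (@Multiset.decidableForallMultiset._proof_1.{ku0} @x0 @x2 @x4) @x5)) @(fun (x5 : ((x5 : x0) → ((@Membership.mem.{ku0, ku0} @x0 (@List.{ku0} @x0) (@List.instMembership.{ku0} @x0) @x4 @x5) → @x2 @x5))) => @Decidable.isTrue ((x6 : x0) → ((@Membership.mem.{ku0, ku0} @x0 (@Multiset.{ku0} @x0) (@Multiset.instMembership.{ku0} @x0) (@Quotient.mk.{(ku0+1)} (@List.{ku0} @x0) (@List.isSetoid.{ku0} @x0) @x4) @x6) → @x2 @x6)) (@Iff.mp ((x6 : x0) → ((@Membership.mem.{ku0, ku0} @x0 (@List.{ku0} @x0) (@List.instMembership.{ku0} @x0) @x4 @x6) → @x2 @x6)) ((x6 : x0) → ((@Membership.mem.{ku0, ku0} @x0 (@Multiset.{ku0} @x0) (@Multiset.instMembership.{ku0} @x0) (@Quotient.mk.{(ku0+1)} (@List.{ku0} @x0) (@List.isSetoid.{ku0} @x0) @x4) @x6) → @x2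 @x6)) (@Multiset.decidableForallMultiset._proof_1.{ku0} @x0 @x2 @x4) @x5)) (@Cfsg.Agent.KO6e5caa9.k54.{ku0} @x0 @x2 @x3 @x4)))
private theorem _root_.Cfsg.Agent.KO6e5caa9.e55.{ku0} : @Multiset.decidableForallMultiset.{ku0} = @_root_.Cfsg.Agent.KO6e5caa9.k55.{ku0} := by delta _root_.Cfsg.Agent.KO6e5caa9.k55; rewrite [← Cfsg.Agent.KO6e5caa9.e54.{ku0}, ← Cfsg.Agent.KO6e5caa9.e53.{(ku0+1), 1}]; rfl'
private noncomputable def _root_.Cfsg.Agent.KO6e5caa9.k59.{ku0} : type_of% @Multiset.decidableDforallMultiset.{ku0} := @(fun x0 x1 x2 x3 => @Decidable.rec.{1} _ @(fun x4 => @Decidable ((x5 : @x0) → (x6 : @Membership.mem.{ku0, ku0} _ _ _ @x1 @x5) → @x2 @x5 @x6)) @(fun x4 => @Decidable.isFalse _ (@decidable_of_decidable_of_iff._proof_1 _ _ (@Multiset.decidableDforallMultiset._proof_2.{ku0} _ _ _) @x4)) @(fun x4 => @Decidable.isTrue _ (@Iff.mp _ _ (@Multiset.decidableDforallMultiset._proof_2.{ku0}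 _ _ _) @x4)) (@Cfsg.Agent.KO6e5caa9.k55.{ku0} _ _ @(fun x4 => @x2 (@Subtype.val.{(ku0+1)} _ @(fun x5 => @Membership.mem.{ku0, ku0} _ _ _ @x1 @x5) @x4) (@Multiset.decidableDforallMultiset._proof_1.{ku0} _ _ @x4)) @(fun x4 => @x3 (@Subtype.val.{(ku0+1)} _ @(fun x5 => @Membership.mem.{ku0, ku0} _ _ _ @x1 @x5) @x4) (@Multiset.decidableDforallMultiset._proof_1.{ku0} _ _ @x4))))
private theorem _root_.Cfsg.Agent.KO6e5caa9.e59.{ku0} : @Multiset.decidableDforallMultiset.{ku0} = @_root_.Cfsg.Agent.KO6e5caa9.k59.{ku0} := by delta _root_.Cfsg.Agent.KO6e5caa9.k59; rewrite [← Cfsg.Agent.KO6e5caa9.e55.{ku0}]; rfl'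
private noncomputable def _root_.Cfsg.Agent.KO6e5caa9.k60.{ku0} : type_of% @Finset.decidableDforallFinset.{ku0} := @(fun x0 x1 x2 x3 => @Cfsg.Agent.KO6e5caa9.k59.{ku0} _ _ _ @x3)
private theorem _root_.Cfsg.Agent.KO6e5caa9.e60.{ku0} : @Finset.decidableDforallFinset.{ku0} = @_root_.Cfsg.Agent.KO6e5caa9.k60.{ku0} := by delta _root_.Cfsg.Agent.KO6e5caa9.k60; rewrite [← Cfsg.Agent.KO6e5caa9.e59.{ku0}]; rfl'
private noncomputable def _root_.Cfsg.Agent.KO6e5caa9.k61.{ku0} : type_of% @Fintype.decidableForallFintype.{ku0} := @(fun x0 x1 x2 x3 => @Decidable.rec.{1} _ @(fun x4 => @Decidable ((x5 : @x0) → @x1 @x5)) @(fun x4 => @Decidable.isFalse _ (@decidable_of_decidable_of_iff._proof_1 _ _ (@Fintype.decidableForallFintype._proof_1.{ku0} _ _ _) @x4)) @(fun x4 => @Decidable.isTrue _ (@Iff.mp _ _ (@Fintype.decidableForallFintype._proof_1.{ku0} _ _ _) @x4)) (@Cfsg.Agent.KO6e5caa9.k60.{ku0}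 _ _ @(fun x4 x5 => @x1 @x4) @(fun x4 x5 => @x2 @x4)))
private theorem _root_.Cfsg.Agent.KO6e5caa9.e61.{ku0} : @Fintype.decidableForallFintype.{ku0} = @_root_.Cfsg.Agent.KO6e5caa9.k61.{ku0} := by delta _root_.Cfsg.Agent.KO6e5caa9.k61; rewrite [← Cfsg.Agent.KO6e5caa9.e60.{ku0}]; rfl'
private noncomputable def _root_.Cfsg.Agent.KO6e5caa9.k62 : type_of% @forall_prop_decidable := @(fun x0 x1 x2 x3 => @Decidable.rec.{1} _ @(fun x4 => @Decidable ((x5 : @x0) → @x1 @x5)) @(fun x4 => @Decidable.isTrue _ (@forall_prop_decidable._proof_2 _ @x1 @x4)) @(fun x4 => @Decidable.rec.{1} _ @(fun x5 => @Decidable ((x6 : @x0) → @x1 @x6)) @(fun x5 => @Decidable.isFalse _ (@decidable_of_decidable_of_iff._proof_1 _ _ (@forall_prop_decidable._proof_1 _ @x1 @x4) @x5)) @(fun x5 => @Decidable.isTrue _ (@Iff.mp _ _ (@forall_prop_decidable._proof_1 _ @x1 @x4) @x5)) (@x3 @x4)) @x2)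
private theorem _root_.Cfsg.Agent.KO6e5caa9.e62 : @forall_prop_decidable = @_root_.Cfsg.Agent.KO6e5caa9.k62 := by delta _root_.Cfsg.Agent.KO6e5caa9.k62; rfl'
private noncomputable def _root_.Cfsg.Agent.KO6e5caa9.k64 : type_of% @Fin.add := @(fun x0 x1 x2 => @Fin.rec.{1} @x0 @(fun x3 => @Fin @x0) @(fun x3 x4 => @Fin.rec.{1} @x0 @(fun x5 => @Fin @x0) @(fun x5 x6 => @Fin.mk _ (@Nat.mod (@Nat.add @x3 @x5) @x0) (@Fin.add._proof_3 _ @x3 @x4 @x5)) @x2) @x1)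
private theorem _root_.Cfsg.Agent.KO6e5caa9.e64 : @Fin.add = @_root_.Cfsg.Agent.KO6e5caa9.k64 := by delta _root_.Cfsg.Agent.KO6e5caa9.k64; rfl'
private noncomputable def _root_.Cfsg.Agent.KO6e5caa9.k65 : type_of% @Fin.mul := @(fun x0 x1 x2 => @Fin.rec.{1} @x0 @(fun x3 => @Fin @x0) @(fun x3 x4 => @Fin.rec.{1} @x0 @(fun x5 => @Fin @x0) @(fun x5 x6 => @Fin.mk _ (@Nat.mod (@Nat.mul @x3 @x5) @x0) (@Fin.mul._proof_1 _ @x3 @x4 @x5)) @x2) @x1)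
private theorem _root_.Cfsg.Agent.KO6e5caa9.e65 : @Fin.mul = @_root_.Cfsg.Agent.KO6e5caa9.k65 := by delta _root_.Cfsg.Agent.KO6e5caa9.k65; rfl'
private noncomputable def _root_.Cfsg.Agent.KO6e5caa9.k66 : (by first | exact type_of% @Cfsg.Agent.TO.X5.lm | exact Unit : Sort _) := by first | (refine @Subtype.val _ (fun g => @Cfsg.Agent.TO.X5.lm = @g) (@Subtype.mk _ _ (@(fun x0 x1 => (@Nat.rec.{1} @(fun x2 => (@ZMod @x2) → (@ZMod @x2) → @ZMod @x2) @Cfsg.Agent.KO6e5caa9.k12 @(fun x2 x3 => @Cfsg.Agent.KO6e5caa9.k64 _) (nat_lit 5) (@Nat.rec.{1} @(fun x2 => (@ZMod @x2) → (@ZMod @x2) → @ZMod @x2) @Cfsg.Agent.KO6e5caa9.k19 @(fun x2 x3 => @Cfsg.Agent.KO6e5caa9.k65 _) (nat_lit 5) (@Prod.fst.{0, 0} _ _ (@Prod.fst.{0, 0} _ _ @x0)) (@Prod.fst.{0, 0} _ _ @x1)) (@Nat.rec.{1} @(fun x2 => (@ZMod @x2) → (@ZMod @x2) → @ZMod @x2) @Cfsg.Agent.KO6e5caa9.k19 @(fun x2 x3 => @Cfsg.Agent.KO6e5caa9.k65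 _) (nat_lit 5) (@Prod.snd.{0, 0} _ _ (@Prod.fst.{0, 0} _ _ @x0)) (@Prod.snd.{0, 0} _ _ @x1)), @Nat.rec.{1} @(fun x2 => (@ZMod @x2) → (@ZMod @x2) → @ZMod @x2) @Cfsg.Agent.KO6e5caa9.k12 @(fun x2 x3 => @Cfsg.Agent.KO6e5caa9.k64 _) (nat_lit 5) (@Nat.rec.{1} @(fun x2 => (@ZMod @x2) → (@ZMod @x2) → @ZMod @x2) @Cfsg.Agent.KO6e5caa9.k19 @(fun x2 x3 => @Cfsg.Agent.KO6e5caa9.k65 _) (nat_lit 5) (@Prod.fst.{0, 0} _ _ (@Prod.snd.{0, 0} _ _ @x0)) (@Prod.fst.{0, 0} _ _ @x1)) (@Nat.rec.{1} @(fun x2 => (@ZMod @x2) → (@ZMod @x2) → @ZMod @x2) @Cfsg.Agent.KO6e5caa9.k19 @(fun x2 x3 => @Cfsg.Agent.KO6e5caa9.k65 _) (nat_lit 5) (@Prod.snd.{0, 0} _ _ (@Prod.snd.{0, 0} _ _ @x0)) (@Prod.snd.{0, 0} _ _ @x1))))) ?_); rewrite [← Cfsg.Agent.KO6e5caa9.e65, ← Cfsg.Agent.KO6e5caa9.e19, ← Cfsg.Agent.KO6e5caa9.e64, ← Cfsg.Agent.KO6e5caa9.e12]; rfl') | exact @Cfsg.Agent.TO.X5.lm | exact ()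
private theorem _root_.Cfsg.Agent.KO6e5caa9.e66 : (by first | exact @Cfsg.Agent.TO.X5.lm = @_root_.Cfsg.Agent.KO6e5caa9.k66 | exact True : Prop) := by first | (delta _root_.Cfsg.Agent.KO6e5caa9.k66; exact @Subtype.property _ (fun g => @Cfsg.Agent.TO.X5.lm = @g) _) | rfl | trivial
private noncomputable def _root_.Cfsg.Agent.KO6e5caa9.k67.{ku0, ku1} : type_of% @instDecidableEqProd.{ku0, ku1} := @(fun x0 x1 x2 x3 x4 x5 => @Prod.rec.{1, ku0, ku1} @x0 @x1 @(fun x6 => @Decidable (@Eq.{(max (ku1+1) (ku0+1))} _ @x6 @x5)) @(fun x6 x7 => @Prod.rec.{1, ku0, ku1} @x0 @x1 @(fun x8 => @Decidable (@Eq.{(max (ku1+1) (ku0+1))} _ ((@x6, @x7)) @x8)) @(fun x8 x9 => @Decidable.rec.{1} _ @(fun x10 => @Decidable (@Eq.{(max (ku1+1) (ku0+1))} _ ((@x6, @x7)) ((@x8, @x9)))) @(fun x10 => @Decidable.isFalse _ (@instDecidableEqProd._proof_3.{ku1, ku0} _ _ @x6 @x7 @x8 @x9 @x10)) @(fun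 x10 => @Decidable.rec.{1} _ @(fun x11 => @Decidable (@Eq.{(max (ku1+1) (ku0+1))} _ ((@x6, @x7)) ((@x8, @x9)))) @(fun x11 => @Decidable.isFalse _ (@instDecidableEqProd._proof_2.{ku1, ku0} _ _ @x6 @x7 @x8 @x9 @x11)) @(fun x11 => @Decidable.isTrue _ (@instDecidableEqProd._proof_1.{ku1, ku0} _ _ @x6 @x7 @x8 @x9 @x10 @x11)) (@x3 @x7 @x9)) (@x2 @x6 @x8)) @x5) @x4)
private theorem _root_.Cfsg.Agent.KO6e5caa9.e67.{ku0, ku1} : @instDecidableEqProd.{ku0, ku1} = @_root_.Cfsg.Agent.KO6e5caa9.k67.{ku0, ku1} := by delta _root_.Cfsg.Agent.KO6e5caa9.k67; rfl'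
private noncomputable def _root_.Cfsg.Agent.KO6e5caa9.k68 : type_of% @instDecidableEqFin := @(fun x0 x1 x2 => @Decidable.rec.{1} _ @(fun x3 => @Decidable (@Eq.{1} _ @x1 @x2)) @(fun x3 => @Decidable.isFalse _ (@instDecidableEqFin._proof_1 @x0 @x1 @x2 @x3)) @(fun x3 => @Decidable.isTrue _ (@Fin.eq_of_val_eq _ _ _ @x3)) (@Cfsg.Agent.KO6e5caa9.k10 (@Fin.val _ @x1) (@Fin.val _ @x2)))
private theorem _root_.Cfsg.Agent.KO6e5caa9.e68 : @instDecidableEqFin = @_root_.Cfsg.Agent.KO6e5caa9.k68 := by delta _root_.Cfsg.Agent.KO6e5caa9.k68; rewrite [← Cfsg.Agent.KO6e5caa9.e10]; rfl'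
private noncomputable def _root_.Cfsg.Agent.KO6e5caa9.k69 : type_of% @ZMod.decidableEq := @(fun x0 => @Nat.rec.{1} @(fun x1 => @DecidableEq.{1} (@ZMod @x1)) @Cfsg.Agent.KO6e5caa9.k11 @(fun x1 x2 => @Cfsg.Agent.KO6e5caa9.k68 (@Nat.add @x1 (nat_lit 1))) @x0)
private theorem _root_.Cfsg.Agent.KO6e5caa9.e69 : @ZMod.decidableEq = @_root_.Cfsg.Agent.KO6e5caa9.k69 := by delta _root_.Cfsg.Agent.KO6e5caa9.k69; rewrite [← Cfsg.Agent.KO6e5caa9.e68, ← Cfsg.Agent.KO6e5caa9.e11]; rfl'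
private noncomputable def _root_.Cfsg.Agent.KO6e5caa9.k70.{ku0} : type_of% @Nat.iterate.{ku0} := @(fun x0 x1 x2 x3 => @Nat.rec.{ku0} @(fun x4 => @x0 → @x0) @(fun x4 => @x4) @(fun x4 x5 x6 => @x5 (@x1 @x6)) @x2 @x3)
private theorem _root_.Cfsg.Agent.KO6e5caa9.e70.{ku0} : @Nat.iterate.{ku0} = @_root_.Cfsg.Agent.KO6e5caa9.k70.{ku0} := by delta _root_.Cfsg.Agent.KO6e5caa9.k70; funext a0 a1 a2 a3; refine (congrFun (_root_.Cfsg.Agent.KO6e5caa9.e6 (fun a2 a3 => @Nat.iterate.{ku0} a0 a1 a2 a3) ?_ (fun c0 => ?_) a2) a3 :) <;> (rfl')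
private noncomputable def _root_.Cfsg.Agent.KO6e5caa9.k73 : type_of% @instDecidableOr := @(fun x0 x1 x2 x3 => @Decidable.rec.{1} _ @(fun x4 => @Decidable (@Or @x0 @x1)) @(fun x4 => @Decidable.rec.{1} _ @(fun x5 => @Decidable (@Or @x0 @x1)) @(fun x5 => @Decidable.isFalse _ (@instDecidableOr._proof_1 _ _ @x4 @x5)) @(fun x5 => @Decidable.isTrue _ (@Or.inr _ _ @x5)) @x3) @(fun x4 => @Decidable.isTrue _ (@Or.inl _ _ @x4)) @x2)
private theorem _root_.Cfsg.Agent.KO6e5caa9.e73 : @instDecidableOr = @_root_.Cfsg.Agent.KO6e5caa9.k73 := by delta _root_.Cfsg.Agent.KO6e5caa9.k73; rfl'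
private noncomputable def _root_.Cfsg.Agent.KO6e5caa9.k74 : type_of% @instDecidableAnd := @(fun x0 x1 x2 x3 => @Decidable.rec.{1} _ @(fun x4 => @Decidable (@And @x0 @x1)) @(fun x4 => @Decidable.isFalse _ (@instDecidableAnd._proof_2 _ _ @x4)) @(fun x4 => @Decidable.rec.{1} _ @(fun x5 => @Decidable (@And @x0 @x1)) @(fun x5 => @Decidable.isFalse _ (@instDecidableAnd._proof_1 _ _ @x5)) @(fun x5 => @Decidable.isTrue _ (@And.intro _ _ @x4 @x5)) @x3) @x2)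
private theorem _root_.Cfsg.Agent.KO6e5caa9.e74 : @instDecidableAnd = @_root_.Cfsg.Agent.KO6e5caa9.k74 := by delta _root_.Cfsg.Agent.KO6e5caa9.k74; rfl'

theorem gp_four : ∀ m : P5 × P5, Gp m → ((lm m)^[4] (1, 0) = (1, 0) ∧ (lm m)^[4] (0, 1) = (0, 1)) ∨
    ∀ u : P5, (u.1 * m.1.1 + u.2 * m.2.1, u.1 * m.1.2 + u.2 * m.2.2) = u → u = 0 := by
  (first | (refine of_decide_eq_true ?_; rewrite [Cfsg.Agent.KO6e5caa9.e51, Cfsg.Agent.KO6e5caa9.e61.{0}, Cfsg.Agent.KO6e5caa9.e62, Cfsg.Agent.KO6e5caa9.e73, Cfsg.Agent.KO6e5caa9.e74, Cfsg.Agent.KO6e5caa9.e67.{0, 0}, Cfsg.Agent.KO6e5caa9.e69, Cfsg.Agent.KO6e5caa9.e70.{1}, Cfsg.Agent.KO6e5caa9.e66]; decide +kernel) | decide +kernel)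

/-- the four points of a line -/
def Ln (a : P5) (c : ZMod 5) : Prop :=
  c • a ≠ 0 ∧ gm a (c • a) = 0 ∧ gm (c • a) a = 0 ∧ c • c • a = -a ∧
    ((2 : ZMod 5) • a = c • a ∨ (2 : ZMod 5) • a = -(c • a)) ∧ ((2 : ZMod 5) • c • a = a ∨ (2 : ZMod 5) • c • a = -a)

instance decLn (a : P5) (c : ZMod 5) : Decidable (Ln a c) := by unfold Ln; infer_instance

theorem ln_of : ∀ a : P5, a ≠ 0 → ∀ c : ZMod 5, c = 2 ∨ c = 3 → Ln a c := by decide +kernel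

private noncomputable def _root_.Cfsg.Agent.KO6e5caa9.k71 : type_of% @instDecidableForall := @(fun x0 x1 x2 x3 => @Decidable.rec.{1} _ @(fun x4 => @Decidable (@x0 → @x1)) @(fun x4 => @Decidable.isTrue _ @(fun x5 => @absurd.{0} _ _ @x5 @x4)) @(fun x4 => @Decidable.rec.{1} _ @(fun x5 => @Decidable (@x0 → @x1)) @(fun x5 => @Decidable.isFalse _ (@instDecidableForall._proof_1 _ _ @x4 @x5)) @(fun x5 => @Decidable.isTrue _ @(fun x6 => @x5)) @x3) @x2)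
private theorem _root_.Cfsg.Agent.KO6e5caa9.e71 : @instDecidableForall = @_root_.Cfsg.Agent.KO6e5caa9.k71 := by delta _root_.Cfsg.Agent.KO6e5caa9.k71; rfl'
private noncomputable def _root_.Cfsg.Agent.KO6e5caa9.k72 : type_of% @instDecidableNot := @(fun x0 x1 => @Decidable.rec.{1} _ @(fun x2 => @Decidable (¬ @x0)) @(fun x2 => @Decidable.isTrue _ @x2) @(fun x2 => @Decidable.isFalse _ (@absurd.{0} _ _ @x2)) @x1)
private theorem _root_.Cfsg.Agent.KO6e5caa9.e72 : @instDecidableNot = @_root_.Cfsg.Agent.KO6e5caa9.k72 := by delta _root_.Cfsg.Agent.KO6e5caa9.k72; rfl'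
private noncomputable def _root_.Cfsg.Agent.KO6e5caa9.k75 : type_of% @instDecidableIff := @(fun x0 x1 x2 x3 => @Decidable.rec.{1} _ @(fun x4 => @Decidable (@Iff @x0 @x1)) @(fun x4 => @Decidable.rec.{1} _ @(fun x5 => @Decidable (@Iff @x0 @x1)) @(fun x5 => @Decidable.isTrue _ (@instDecidableIff._proof_4 _ _ @x4 @x5)) @(fun x5 => @Decidable.isFalse _ (@instDecidableIff._proof_3 _ _ @x4 @x5)) @x3) @(fun x4 => @Decidable.rec.{1} _ @(fun x5 => @Decidable (@Iff @x0 @x1)) @(fun x5 => @Decidable.isFalse _ (@instDecidableIff._proof_2 _ _ @x4 @x5)) @(fun x5 => @Decidable.isTrue _ (@instDecidableIff._proof_1 _ _ @x4 @x5)) @x3) @x2)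
private theorem _root_.Cfsg.Agent.KO6e5caa9.e75 : @instDecidableIff = @_root_.Cfsg.Agent.KO6e5caa9.k75 := by delta _root_.Cfsg.Agent.KO6e5caa9.k75; rfl'

theorem ln_iff : ∀ a : P5, a ≠ 0 → ∀ c : ZMod 5, c = 2 ∨ c = 3 → ∀ b : P5, b ≠ 0 →
    (a.2 * b.1 - a.1 * b.2 = 0 ↔ b = a ∨ b = -a ∨ b = c • a ∨ b = -(c • a)) := by
  (first | (refine of_decide_eq_true ?_; rewrite [Cfsg.Agent.KO6e5caa9.e51, Cfsg.Agent.KO6e5caa9.e61.{0}, Cfsg.Agent.KO6e5caa9.e71, Cfsg.Agent.KO6e5caa9.e72, Cfsg.Agent.KO6e5caa9.e67.{0, 0}, Cfsg.Agent.KO6e5caa9.e69, Cfsg.Agent.KO6e5caa9.e73, Cfsg.Agent.KO6e5caa9.e62, Cfsg.Agent.KO6e5caa9.e75]; decide +kernel) | decide +kernel)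

/-! ### the structure -/

variable {C : ChevalleyDatum} {l : ℕ} {M : CoxeterMatrix (Fin l)} (hp : IsType C l M)

/-- the Cartan integers -/
noncomputable abbrev cp (b a : Fin l → ℤ) : ℤ := cpr M.toCoxeterSystem hp.isCartan b a

/-- the restriction of a character to the plane -/
def cl (u x : Fin l → ZMod 5) (a : Fin l → ℤ) : P5 := (vl a u, vl a x)

/-- The roots `rt a` form a system of type `D₄` which is determined by the plane spanned by `u` and `x`. -/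
structure Tb (u x : Fin l → ZMod 5) (rt : P5 → Fin l → ℤ) : Prop where
  root : ∀ a, a ≠ 0 → X.Rt C l (rt a)
  cl_rt : ∀ a, a ≠ 0 → cl u x (rt a) = a
  gram : ∀ a b, a ≠ 0 → b ≠ 0 → cp hp (rt a) (rt b) = gm a b
  neg : ∀ a, rt (-a) = -rt a
  add : ∀ a b, gm a b = -1 → rt (a + b) = rt a + rt b
  chr : ∀ a, X.Rt C l a → cl u x a ≠ 0 →
    (a = rt (cl u x a) ↔ ∀ b, X.Rt C l b → b ≠ a → cl u x b = cl u x a → cp hp b a = -1)
  long : ∀ a, a ≠ 0 → ∀ b, X.Rt C l b → b ≠ rt a → cp hp b (rt a) ≤ 1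
  psi : ∀ b, X.Rt C l b → (cl u x b = 0 ↔ ∀ a, a ≠ 0 → cp hp b (rt a) = 0)
  sep : ∀ a, a ≠ 0 → ∃ c, cp hp c (rt a) = 1 ∧ cp hp c (rt ((2 : ZMod 5) • a)) = 0
  par : ∀ i, Even (cp hp (sr i) (rt (1, 0)) + cp hp (sr i) (rt (2, 0)) + (cp hp (sr i) (rt (1, 1)) +
    cp hp (sr i) (rt (2, 2))) + (cp hp (sr i) (rt (1, 2)) + cp hp (sr i) (rt (2, 4))))

/-! ### the Cartan integers from an invariant form -/

theorem cp_form {d : Fin l → ℤ} (hd : ∀ i j, d i * cartanOf C l i j = d j * cartanOf C l j i) (hd0 : ∀ i, d i ≠ 0)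
    {a c : Fin l → ℤ} (ha : X.Rt C l a) {n : ℤ} (hn : n = ∑ i, a i * (d i * pairing (cartanOf C l) i a))
    (hc : ∀ i, 2 * (d i * pairing (cartanOf C l) i a) = n * c i) (x : Fin l → ℤ) : cp hp x a = x ⬝ᵥ c := by
  have := finite_W hp M.toCoxeterSystem
  set B : (Fin l → ℤ) → (Fin l → ℤ) → ℤ := fun x y => ∑ i, x i * (d i * pairing (cartanOf C l) i y) with hB
  have sym : ∀ x y, B x y = B y x := fun x y => by
    simp only [hB, CoxeterGeom.pairing, Finset.mul_sum]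
    rw [Finset.sum_comm]
    refine Finset.sum_congr rfl fun i _ => Finset.sum_congr rfl fun j _ => ?_
    linear_combination (x j * y i) * hd j i
  have hs : ∀ i y, B (sr i) y = d i * pairing (cartanOf C l) i y := fun i y => by
    simp [hB, sr, Pi.single_apply]
  have lin : ∀ x y z (m : ℤ), B (x - m • y) z = B x z - m * B y z := fun x y z m => by
    simp only [hB, Pi.sub_apply, Pi.smul_apply, smul_eq_mul, sub_mul, Finset.sum_sub_distrib, Finset.mul_sum, mul_assoc]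
  have two : ∀ i, pairing (cartanOf C l) i (sr i) = 2 := fun i => by
    rw [← cpr_sr M.toCoxeterSystem hp.isCartan, cpr_self _ _ (isRoot_sr _ _ i)]
  have inv : ∀ (w : M.Group) x y, B (rep M.toCoxeterSystem hp.isCartan w x) (rep M.toCoxeterSystem hp.isCartan w y) = B x y := by
    intro w
    induction w using M.toCoxeterSystem.simple_induction with
    | simple i =>
      intro x y
      rw [rep_simple_eq, rep_simple_eq, lin, sym x, sym (sr i), lin, lin, hs, hs, sym y (sr i), hs, two, sym y]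
      ring
    | one => intro x y; rw [map_one]; rfl
    | mul v w hv hw => intro x y; rw [rep_mul_apply, rep_mul_apply, hv, hw]
  obtain ⟨w, i, rfl⟩ := (isRoot_iff hp M.toCoxeterSystem a).2 ha
  have h1 : n = d i * 2 := by rw [hn, ← two i, ← hs, ← inv w]
  have h2 := inv w (rep M.toCoxeterSystem hp.isCartan w⁻¹ x) (sr i)
  rw [← rep_mul_apply, mul_inv_cancel, map_one, Module.End.one_apply, sym _ (sr i), hs, ← cpr_rep_sr] at h2
  refine mul_left_cancel₀ (mul_ne_zero (hd0 i) two_ne_zero) ?_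
  rw [← h1, dotProduct, Finset.mul_sum, Finset.sum_congr rfl fun j _ => show n * (x j * c j) = 2 * (x j * (d j * _)) by
    rw [mul_left_comm, ← hc j, mul_left_comm], ← Finset.mul_sum, h1]
  linear_combination (-2) * h2

end Cfsg.Agent.TO.X5
end

private theorem dce_dd8c66bc7787 : _root_.True := by
  try have : _root_.True := by simp only [_root_.Cfsg.Agent.TO.X.Pl.sp2.eq_1]
  exact _root_.True.intro
end

-- part: TO/X/LatA
section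
prune_inst 0x8140000061620200001c809053000221490000020040080018220900010b10604041a0000a002d10080a000008040000000000000000000002000000000101208000400013000104060089800000000000000000000000000000000000041004000000000
set_option linter.all false
open scoped Cfsg.Agent.FastGrp

-- part: TO/X/BigF
section
/-!
# Transitive eigenspaces for at most 48 roots (special isogenies allowed)
-/

set_option autoImplicit false
set_option linter.unusedSectionVars false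
set_option linter.style.haveILetI false

namespace Cfsg.Agent.TO.X.Big

open Matrix Module

section Gen

variable {F : Type*} [Field F] [Finite F] {V : Type*} [AddCommGroup V] [Module F V] [FiniteDimensional F V]
  {Γ : Type*} [Group Γ] [Finite Γ] {A : Type*} [Fintype A]

/-- `t` permutes the kernels of the forms -/
def Pj (ev : A → Module.Dual F V) (t : Module.End F V) : Prop :=
  ∃ e : Equiv.Perm A, ∀ α v, ev (e α) v = 0 ↔ ev α (t v) = 0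

/-- transitivity on `S` of the maps that preserve `S` and permute the kernels of the forms -/
def TrP (ev : A → Module.Dual F V) (S : Submodule F V) : Prop :=
  ∀ s ∈ S, ∀ s' ∈ S, s ≠ 0 → s' ≠ 0 → ∃ t : Module.End F V, (∀ x ∈ S, t x ∈ S) ∧ Pj ev t ∧ s' = t s

/-- irreducibility of the family -/
def Irr (ev : A → Module.Dual F V) : Prop :=
  ∀ P : A → Prop, (∀ α δ δ', P α → δ' ≠ δ → (∀ v, ev α v = 0 → ev δ' v = ev δ v) → P δ) → ∀ α δ, P α → P δ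

variable {σ : Γ →* Module.End F V} {S : Submodule F V} {ev : A → Module.Dual F V}

theorem Rt.pj (hR : Rt σ ev) (z : Γ) : Pj ev (σ z) := by
  obtain ⟨e, he⟩ := hR.perm z
  exact ⟨e, fun α v => by rw [he]⟩

theorem Pj.smul {t : Module.End F V} (h : Pj ev t) {a : F} (ha : a ≠ 0) : Pj ev (a • t) := by
  obtain ⟨e, he⟩ := h
  exact ⟨e, fun α v => by rw [he, LinearMap.smul_apply, map_smul, smul_eq_mul, mul_eq_zero, or_iff_right ha]⟩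

theorem Pj.mul {t u : Module.End F V} (h : Pj ev t) (h' : Pj ev u) : Pj ev (t * u) := by
  obtain ⟨e, he⟩ := h
  obtain ⟨e', he'⟩ := h'
  exact ⟨e' * e, fun α v => by rw [Equiv.Perm.mul_apply, he', he, Module.End.mul_apply]⟩

theorem Trs.trP (hR : Rt σ ev) (h : Trs σ S) : TrP ev S := fun s hs s' hs' h0 h0' => by
  obtain ⟨z, hz, a, e⟩ := h s hs s' hs' h0 h0'
  refine ⟨a • σ z, fun x hx => S.smul_mem _ (hz x hx), (hR.pj z).smul ?_, e⟩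
  rintro rfl
  exact h0' (by rw [e, zero_smul])

theorem van_eqP (hR : Rt σ ev) (htr : TrP ev S) {s s' : V} (hs : s ∈ S) (hs' : s' ∈ S) (h0 : s ≠ 0) (h0' : s' ≠ 0) :
    (van ev S s').card = (van ev S s).card := by
  obtain ⟨t, ht, ⟨e, he⟩, rfl⟩ := htr s hs s' hs' h0 h0'
  have hinj : Function.Injective (t.restrict ht) := by
    refine (injective_iff_map_eq_zero _).2 fun x hx => Subtype.ext (hR.nd _ fun w => Finset.sum_eq_zero fun α _ => ?_)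
    have h1 : t x = 0 := congrArg Subtype.val hx
    have h2 := (he (e.symm α) x).2 (by rw [h1, map_zero])
    rw [e.apply_symm_apply] at h2
    rw [h2, zero_mul]
  refine Finset.card_bijective e e.bijective fun α => ?_
  rw [mem_van, mem_van, he]
  refine and_congr_left' (not_congr ⟨fun h1 x hx => (he _ _).2 (h1 _ (ht x hx)), fun h1 x hx => ?_⟩)
  obtain ⟨y, hy⟩ := LinearMap.surjective_of_injective hinj ⟨x, hx⟩
  have h2 := (he _ _).1 (h1 y y.2)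
  rwa [show t y = x from congrArg Subtype.val hy] at h2

/-- multiples of a restricted form that occur -/
theorem card_le_van {s : V} {α : A} (hα : α ∈ van ev S s) (hs : s ∈ S) (L : Finset F) (h0 : 0 ∉ L)
    (hL : ∀ a ∈ L, ∃ β, ∀ x ∈ S, ev β x = a * ev α x) : L.card ≤ (van ev S s).card := by
  classical
  haveI : Nonempty A := ⟨α⟩
  choose! f hf using hL
  obtain ⟨h1, h2⟩ := mem_van.1 hα
  refine Finset.card_le_card_of_injOn f (fun a ha => mem_van.2 ⟨fun h => h1 fun x hx => ?_, ?_⟩) fun a ha b hb e => ?_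
  · have := h x hx
    rw [hf a ha x hx] at this
    exact (mul_eq_zero.1 this).resolve_left fun e => h0 (e ▸ ha)
  · rw [hf a ha s hs, h2, mul_zero]
  · by_contra hab
    refine h1 fun x hx => ?_
    have h3 := hf a ha x hx
    rw [e, hf b hb x hx] at h3
    exact (mul_eq_zero.1 (show (a - b) * ev α x = 0 by linear_combination -h3)).resolve_left (sub_ne_zero.2 hab)

end Gen

variable {p : ℕ} [hp : Fact p.Prime] {V : Type*} [AddCommGroup V] [Module (ZMod p) V] [FiniteDimensional (ZMod p) V]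
  {Γ : Type*} [Group Γ] [Finite Γ] {A : Type*} [Fintype A]
  {σ : Γ →* Module.End (ZMod p) V} {S : Submodule (ZMod p) V} {ev : A → Module.Dual (ZMod p) V}

theorem cnt_two {m : ℕ} (hm : ∀ s ∈ S, s ≠ 0 → (van ev S s).card = m) (h2 : finrank (ZMod p) S = 2) :
    (out ev S).card = (p + 1) * m := by
  have h := cnt_of_eq hm
  rw [h2, Nat.card_zmod, show 2 - 1 = 1 from rfl, pow_one, show p ^ 2 - 1 = (p - 1) * (p + 1) by
    rw [mul_comm, ← Nat.sq_sub_sq, one_pow], mul_comm, mul_assoc] at h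
  exact Nat.eq_of_mul_eq_mul_left (by have := hp.out.two_le; omega) h

/-- the eigenvalue of `g` and its negative act on the forms vanishing at `s` -/
theorem pow_occ (hR : Rt σ ev) {g : Γ} {c : ZMod p} (hg : ∀ s ∈ S, σ g s = c • s) (α : A) (k : ℕ) :
    (∃ β, ∀ x ∈ S, ev β x = c ^ k * ev α x) ∧ ∃ β, ∀ x ∈ S, ev β x = -c ^ k * ev α x := by
  have h1 : ∃ β, ∀ x ∈ S, ev β x = c ^ k * ev α x := by
    induction k with
    | zero => exact ⟨α, fun x _ => by rw [pow_zero, one_mul]⟩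
    | succ k ih =>
      obtain ⟨β, hβ⟩ := ih
      obtain ⟨e, he⟩ := hR.perm g
      exact ⟨e β, fun x hx => by rw [he, hg x hx, map_smul, hβ x hx, smul_eq_mul]; ring⟩
  refine ⟨h1, ?_⟩
  obtain ⟨β, hβ⟩ := h1
  obtain ⟨ν, -, hν⟩ := hR.neg
  exact ⟨ν β, fun x hx => by rw [hν, LinearMap.neg_apply, hβ x hx, neg_mul]⟩

theorem five_le : ∀ c : ZMod 11, c ≠ 0 → c ^ 2 ≠ 1 →
    (0 : ZMod 11) ∉ ({1, -1, c, -c, c ^ 2} : Finset (ZMod 11)) ∧ ({1, -1, c, -c, c ^ 2} : Finset (ZMod 11)).card = 5 := by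
  decide +kernel

/-- **at most 48 forms**: an irreducible family has no transitive eigenspace for `p ≥ 11` -/
theorem small (h11 : 11 ≤ p) (hR : Rt σ ev) (hA : Fintype.card A ≤ 48) (hV : finrank (ZMod p) V ≠ 2)
    (hneg : ∃ z, σ z = -1)
    (hirr : Irr ev)
    (hconn : (∀ α, ¬ ∀ s ∈ S, ev α s = 0) → ∀ z, (∀ s ∈ S, σ z s = s) → σ z = 1)
    (h2 : 2 ≤ finrank (ZMod p) S) (htr : TrP ev S) {g : Γ} {c : ZMod p} (hc : Cut σ S g c) : False := by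
  classical
  have h0 : S ≠ ⊥ := by
    rintro rfl
    simp at h2
  have h20 : (2 : ZMod p) ≠ 0 := fun e => by
    have := Nat.le_of_dvd two_pos ((ZMod.natCast_eq_zero_iff 2 p).1 (by exact_mod_cast e))
    omega
  obtain ⟨s0, hs0, hs0'⟩ := Submodule.exists_mem_ne_zero_of_ne_bot h0
  have hm := fun s hs hs' => van_eqP hR htr hs0 (s' := s) hs hs0' hs'
  have hd := dim_two h11 (by omega) (even_out h20 hR) (out_nonempty hR h0) hm h2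
  have h3 := cnt_two hm hd
  have h4 : (out ev S).card ≤ 48 := (Finset.card_le_univ _).trans hA
  have h5 := (out_nonempty hR h0).card_pos
  have h6 := even_van (S := S) h20 hR s0
  have hc0 := hc.ne_zero h0
  -- no form vanishes on `S` and the eigenvalue is a sign
  have fin : (∀ α, ¬ ∀ s ∈ S, ev α s = 0) → c ^ 2 = 1 → False := by
    intro h7 h8
    obtain ⟨z, hz⟩ := hneg
    have h9 : S = ⊤ := by
      refine eq_top_iff.2 fun v _ => hc.2 v ?_ fun y hy => by rw [hconn h7 y hy, Module.End.one_apply]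
      rcases sq_eq_one_iff.1 h8 with rfl | rfl
      · rw [hconn h7 g fun s hs => by rw [hc.1 s hs, one_smul], one_smul, Module.End.one_apply]
      · have h10 := hconn h7 (z * g) fun s hs => by
          rw [map_mul, hz, Module.End.mul_apply, hc.1 s hs]
          simp only [_root_.neg_smul, _root_.one_smul, _root_.LinearMap.neg_apply, _root_.Module.End.one_apply, _root_.neg_neg]
        rw [map_mul, hz, neg_one_mul, neg_eq_iff_eq_neg] at h10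
        rw [h10]
        simp
    rw [h9, finrank_top] at hd
    exact hV hd
  set m := (van ev S s0).card with hm0
  obtain ⟨α0, hα0⟩ : (van ev S s0).Nonempty := Finset.card_pos.1 (Nat.pos_of_ne_zero fun e => by
    rw [← hm0] at e
    rw [e] at h3
    omega)
  have hm4 : m ≤ 4 := by nlinarith only [h11, h4, h3]
  obtain h7 | h7 : m = 2 ∨ m = 4 := by
    obtain ⟨r, hr⟩ := h6
    have : m ≠ 0 := fun e => by rw [e] at h3; omega
    omega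
  · refine fin (fun α hα => ?_) (by_contra fun h8 => ?_)
    · have key : ∀ β δ δ', (∀ s ∈ S, ev β s = 0) → δ ∈ out ev S → δ' ≠ δ → (∀ v, ev β v = 0 → ev δ' v = ev δ v) → False := by
        intro β δ δ' hβ hδ hne he
        let f : S →ₗ[ZMod p] ZMod p := (ev δ).comp S.subtype
        obtain ⟨t, ht, ht0⟩ : ∃ t ∈ LinearMap.ker f, t ≠ 0 := by
          refine Submodule.exists_mem_ne_zero_of_ne_bot (LinearMap.ker_ne_bot_of_finrank_lt ?_)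
          rw [finrank_self]
          omega
        have ht1 : ev δ t = 0 := ht
        obtain ⟨ν, -, hν⟩ := hR.neg
        have hδ1 := mem_out.1 hδ
        have hs : ({δ, δ', ν δ} : Finset A) ⊆ van ev S t := by
          intro x hx
          simp only [Finset.mem_insert, Finset.mem_singleton] at hx
          rcases hx with rfl | rfl | rfl
          · exact mem_van.2 ⟨hδ1, ht1⟩
          · exact mem_van.2 ⟨fun h => hδ1 fun s hs => by rw [← he s (hβ s hs), h s hs], by rw [he _ (hβ _ t.2), ht1]⟩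
          · exact mem_van.2 ⟨fun h => hδ1 fun s hs => by simpa only [hν, _root_.LinearMap.neg_apply, _root_.neg_eq_zero] using h s hs, by simp [hν, ht1]⟩
        have n1 : ∀ x, (∀ s ∈ S, ev x s = ev δ s) → x ≠ ν δ := fun x hx e => hδ1 fun s hs => by
          have h9 := hx s hs
          rw [e, hν, LinearMap.neg_apply] at h9
          exact mul_left_cancel₀ h20 (by linear_combination -h9)
        have h9 := Finset.card_le_card hs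
        rw [hm t t.2 fun e => ht0 (Subtype.ext e), h7, Finset.card_eq_three.2 ⟨δ, δ', ν δ, hne.symm, n1 δ fun _ _ => rfl,
          n1 δ' fun s hs => he s (hβ s hs), rfl⟩] at h9
        omega
      obtain ⟨δ, hδ⟩ := out_nonempty hR h0
      exact mem_out.1 hδ (hirr (fun β => ∀ s ∈ S, ev β s = 0)
        (fun β δ δ' hβ n1 e1 => by_contra fun h => key β δ δ' hβ (mem_out.2 h) n1 e1) α δ hα)
    · have h9 := card_le_van hα0 hs0 {1, -1, c} (by simp only [hc0.symm, _root_.Finset.mem_insert, _root_.zero_ne_one, _root_.zero_eq_neg, _root_.one_ne_zero, _root_.Finset.mem_singleton, _root_.or_self, _root_.not_false_eq_true]) fun a ha => by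
        simp only [Finset.mem_insert, Finset.mem_singleton] at ha
        rcases ha with rfl | rfl | rfl
        · simpa only [_root_.one_mul, _root_.pow_zero] using (pow_occ hR hc.1 α0 0).1
        · simpa only [_root_.neg_mul, _root_.one_mul, _root_.pow_zero] using (pow_occ hR hc.1 α0 0).2
        · simpa only [_root_.pow_one] using (pow_occ hR hc.1 α0 1).1
      rw [← hm0, h7, Finset.card_eq_three.2 ⟨1, -1, c, fun e => h20 (by linear_combination e),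
        fun e => h8 (by rw [← e]; ring), fun e => h8 (by rw [← e]; ring), rfl⟩] at h9
      omega
  · obtain rfl : p = 11 := by rw [h7] at h3; omega
    refine fin (fun α => mem_out.1 ?_) (by_contra fun h8 => ?_)
    · rw [Finset.eq_univ_of_card (out ev S) (le_antisymm (Finset.card_le_univ _) (by omega))]
      exact Finset.mem_univ _
    · obtain ⟨h9, h10⟩ := five_le c hc0 h8
      have h12 := card_le_van hα0 hs0 _ h9 fun a ha => by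
        simp only [Finset.mem_insert, Finset.mem_singleton] at ha
        rcases ha with rfl | rfl | rfl | rfl | rfl
        · simpa only [_root_.one_mul, _root_.pow_zero] using (pow_occ hR hc.1 α0 0).1
        · simpa only [_root_.neg_mul, _root_.one_mul, _root_.pow_zero] using (pow_occ hR hc.1 α0 0).2
        · simpa only [_root_.pow_one] using (pow_occ hR hc.1 α0 1).1
        · simpa only [_root_.neg_mul, _root_.pow_one] using (pow_occ hR hc.1 α0 1).2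
        · exact (pow_occ hR hc.1 α0 2).1
      rw [← hm0, h7, h10] at h12
      omega

end Cfsg.Agent.TO.X.Big
end

-- part: TO/X/LatA
section
/-!
# S4817, exceptional groups: the root data as input of the eigenspace theorems (helper3)
-/

set_option autoImplicit false
set_option linter.unusedSectionVars false
set_option linter.style.haveILetI false

namespace Cfsg.Agent.TO.X.Lat

open CoxeterSystem Cfsg Cfsg.Lie Matrix Module
open Cfsg.Agent.ChevalleyStructure.CoxeterGeom Cfsg.Agent.ChevalleyStructure.CoxeterGeomTypes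
open Cfsg.Agent.Tits.Roots Cfsg.Agent.Nodes Cfsg.Agent.Nodes.RGDChev Cfsg.Agent.KZ.DatX Cfsg.Agent.KZ.Exc
  Cfsg.Agent.KZ.Exc.Gr

variable {C : ChevalleyDatum} {l : ℕ} {M : CoxeterMatrix (Fin l)} (hp : IsType C l M)

/-- the roots -/
def RR (C : ChevalleyDatum) (l : ℕ) : Finset (Fin l → ℤ) := (Finset.range C.nroots).image (_root_.Cfsg.Agent.Nodes.RGDChev.vec C l)

theorem mem_RR {a : Fin l → ℤ} : a ∈ RR C l ↔ X.Rt C l a := by
  simp only [RR, Finset.mem_image, Finset.mem_range, X.Rt]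

theorem card_RR_le : (RR C l).card ≤ C.nroots := Finset.card_image_le.trans (Finset.card_range _).le

theorem rt_iff {a : Fin l → ℤ} : X.Rt C l a ↔ IsRoot M.toCoxeterSystem hp.isCartan a := (isRoot_iff hp _ a).symm

theorem wM_iff {W : Matrix (Fin l) (Fin l) ℤ} : WM C l W ↔ ∃ w, wm hp w = W :=
  ⟨fun ⟨L, h⟩ => ⟨wd M L, (wm_wd hp L).trans h.symm⟩, fun ⟨w, h⟩ => by
    obtain ⟨L, rfl⟩ := M.toCoxeterSystem.wordProd_surjective w
    exact ⟨L, h.symm.trans (wm_wd hp L)⟩⟩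

theorem rt_wm {a : Fin l → ℤ} (ha : X.Rt C l a) (w : M.Group) : X.Rt C l (a ᵥ* wm hp w) := by
  rw [vecMul_wm]
  exact (rt_iff hp).2 (((rt_iff hp).1 ha).act _)

include hp in
theorem rt_neg {a : Fin l → ℤ} (ha : X.Rt C l a) : X.Rt C l (-a) := (rt_iff hp).2 ((rt_iff hp).1 ha).neg

include hp in
theorem rt_sr (i : Fin l) : X.Rt C l (sr i) := (rt_iff hp).2 (isRoot_sr _ _ i)

theorem wm_sr (i : Fin l) : wm hp (sr' M i) = 1 - vecMulVec (cartanOf C l i) (sr i) := by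
  rw [wm_simple]
  ext a b
  simp [sM, vecMulVec_apply, sr, Pi.single_apply, Matrix.one_apply]

theorem sr_dot (i : Fin l) (v : Fin l → ℤ) : sr i ⬝ᵥ v = v i := single_one_dotProduct i v

/-- the reflection in a root -/
theorem exists_refl {a : Fin l → ℤ} (ha : X.Rt C l a) :
    ∃ (z : M.Group) (b : Fin l → ℤ), a ⬝ᵥ b = 2 ∧ wm hp z = 1 - vecMulVec b a := by
  obtain ⟨w, i, rfl⟩ := (rt_iff hp).1 ha
  have h1 : rep M.toCoxeterSystem hp.isCartan w (sr i) = sr i ᵥ* wm hp w⁻¹ := by rw [vecMul_wm, inv_inv]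
  refine ⟨w * sr' M i * w⁻¹, wm hp w *ᵥ cartanOf C l i, ?_, ?_⟩
  · rw [h1, dotProduct_mulVec, vecMul_vecMul, ← map_mul, inv_mul_cancel, map_one, vecMul_one, sr_dot, hp.isCartan.diag]
  · rw [h1, map_mul, map_mul, wm_sr, mul_sub, sub_mul, mul_one, ← map_mul, mul_inv_cancel, map_one, mul_vecMulVec,
      vecMulVec_mul]

theorem sum_RR (hp : IsType C l M) {β : Type*} [AddCommMonoid β] (f : (Fin l → ℤ) → β) :
    ∑ a ∈ RR C l, f a = ∑ r ∈ Finset.range C.nroots, f (_root_.Cfsg.Agent.Nodes.RGDChev.vec C l r) :=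
  Finset.sum_image fun _ hr _ hs h => vec_inj hp (Finset.mem_range.1 hr) (Finset.mem_range.1 hs) h

/-- `K` is the Killing matrix -/
def kilB (C : ChevalleyDatum) (l : ℕ) (K : Matrix (Fin l) (Fin l) ℤ) : Bool :=
  (List.finRange l).all fun i => (List.finRange l).all fun j =>
    ((List.range C.nroots).map fun r => _root_.Cfsg.Agent.Nodes.RGDChev.vec C l r i * _root_.Cfsg.Agent.Nodes.RGDChev.vec C l r j).sum == K i j

/-- the Killing matrix is invertible away from `n` -/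
def Kil (C : ChevalleyDatum) (l : ℕ) (n : ℤ) : Prop :=
  ∃ B K : Matrix (Fin l) (Fin l) ℤ, kilB C l K = true ∧ B * K = n • (1 : Matrix (Fin l) (Fin l) ℤ)

theorem Kil.mat (hp : IsType C l M) {n : ℤ} (h : Kil C l n) :
    ∃ B : Matrix (Fin l) (Fin l) ℤ, B * ∑ a ∈ RR C l, vecMulVec a a = n • (1 : Matrix (Fin l) (Fin l) ℤ) := by
  obtain ⟨B, K, h1, h2⟩ := h
  refine ⟨B, ?_⟩
  rw [← h2, sum_RR hp]
  congr 1
  ext i j
  simp only [kilB, List.all_eq_true, List.mem_finRange, forall_const, beq_iff_eq] at h1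
  rw [← h1 i j, Matrix.sum_apply]
  rfl

variable {p : ℕ} [Fact p.Prime]

theorem rt_RR {n : ℤ} (h : Kil C l n) (hn : ¬ (p : ℤ) ∣ n) :
    haveI := finite_W hp M.toCoxeterSystem
    Big.Rt (Big.red p (wm hp)) (Big.evm p (RR C l)) := by
  haveI := finite_W hp M.toCoxeterSystem
  obtain ⟨B, hB⟩ := h.mat hp
  exact Big.rt_mat _ (fun z a ha => mem_RR.2 (rt_wm hp (mem_RR.1 ha) z)) (fun a ha => mem_RR.2 (rt_neg hp (mem_RR.1 ha)))
    hB hn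

theorem red_eq (w : M.Group) (v : Fin l → ZMod p) : Big.red p (wm hp) w v = mv (wm hp w) v := rfl

theorem evm_eq (a : RR C l) (v : Fin l → ZMod p) : Big.evm p (RR C l) a v = vl a.1 v := rfl

theorem vl_sub_smul (a b : Fin l → ℤ) (k : ℤ) (v : Fin l → ZMod p) : vl (a - k • b) v = vl a v - k * vl b v := by
  simp only [vl, sub_mul, Finset.sum_sub_distrib, Finset.mul_sum, mul_assoc, _root_.zsmul_eq_mul, _root_.Pi.sub_apply, _root_.Pi.mul_apply, _root_.Pi.intCast_apply, _root_.Int.cast_eq, _root_.Int.cast_sub, _root_.Int.cast_mul]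

theorem vl_zsmul (a : Fin l → ℤ) (k : ℤ) (v : Fin l → ZMod p) : vl (k • a) v = k * vl a v := by
  simp only [vl, Finset.mul_sum, mul_assoc, _root_.Pi.smul_apply, _root_.Int.zsmul_eq_mul, _root_.Int.cast_mul]

/-- irreducibility from the connectedness of the diagram -/
theorem irr_RR (hp : IsType C l M)
    (hc : ∀ Q : Fin l → Prop, (∀ i j, Q i → cartanOf C l i j ≠ 0 → Q j) → ∀ i j, Q i → Q j) :
    Big.Irr (Big.evm p (RR C l)) := by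
  intro P hP α δ hα
  have step : ∀ (a d : RR C l) (z : M.Group) (b : Fin l → ℤ), P a → wm hp z = 1 - vecMulVec b a.1 → d.1 ⬝ᵥ b ≠ 0 → P d := by
    intro a d z b ha hz hd
    have e : d.1 ᵥ* wm hp z = d.1 - (d.1 ⬝ᵥ b) • a.1 := by rw [hz, vecMul_sub, vecMul_one, vecMul_vecMulVec]
    refine hP a d ⟨d.1 ᵥ* wm hp z, mem_RR.2 (rt_wm hp (mem_RR.1 d.2) z)⟩ ha (fun h => ?_) fun v hv => ?_
    · have h1 : d.1 ᵥ* wm hp z = d.1 := congrArg Subtype.val h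
      rw [e, sub_eq_self, smul_eq_zero] at h1
      exact ((rt_iff hp).1 (mem_RR.1 a.2)).ne_zero (h1.resolve_left hd)
    · rw [evm_eq] at hv
      rw [evm_eq, evm_eq]
      change vl (d.1 ᵥ* wm hp z) v = _
      rw [e, vl_sub_smul, hv, mul_zero, sub_zero]
  let s : Fin l → RR C l := fun i => ⟨sr i, mem_RR.2 (rt_sr hp i)⟩
  obtain ⟨i, hi⟩ : ∃ i, P (s i) := by
    obtain ⟨z, b, h1, h2⟩ := exists_refl hp (mem_RR.1 α.2)
    obtain ⟨i, hi⟩ : ∃ i, b i ≠ 0 := by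
      by_contra h
      push Not at h
      rw [show b = 0 from funext h, dotProduct_zero] at h1
      omega
    exact ⟨i, step α (s i) z b hα h2 (by rwa [sr_dot])⟩
  have hall : ∀ j, P (s j) := fun j =>
    hc (fun i => P (s i)) (fun i j h1 h2 => step (s i) (s j) _ _ h1 (wm_sr hp i) (by rwa [sr_dot])) i j hi
  by_cases h : ∃ j, δ.1 ⬝ᵥ cartanOf C l j ≠ 0
  · obtain ⟨j, hj⟩ := h
    exact step (s j) δ _ _ (hall j) (wm_sr hp j) hj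
  exfalso
  push Not at h
  have h1 : ∀ w, δ.1 ᵥ* wm hp w = δ.1 := fun w => by
    obtain ⟨L, rfl⟩ := M.toCoxeterSystem.wordProd_surjective w
    induction L with
    | nil => rw [wordProd_nil, map_one, vecMul_one]
    | cons j L ih =>
      rw [wordProd_cons, map_mul, ← vecMul_vecMul, wm_sr, vecMul_sub, vecMul_one, vecMul_vecMulVec, h, zero_smul, sub_zero,
        ih]
  obtain ⟨z, b, h2, h3⟩ := exists_refl hp (mem_RR.1 δ.2)
  have h4 := h1 z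
  rw [h3, vecMul_sub, vecMul_one, vecMul_vecMulVec, h2, sub_eq_self, smul_eq_zero] at h4
  exact ((rt_iff hp).1 (mem_RR.1 δ.2)).ne_zero (h4.resolve_left two_ne_zero)

theorem exists_generic {I : Type*} [Finite I] (b : I → Fin l → ℤ) (hb : ∀ i, b i ≠ 0) :
    ∃ y : Fin l → ℤ, ∀ i, b i ⬝ᵥ y ≠ 0 := by
  let f : I → Module.Dual ℚ (Fin l → ℚ) := fun i =>
    { toFun := fun v => (fun j => (b i j : ℚ)) ⬝ᵥ v
      map_add' := dotProduct_add _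
      map_smul' := fun a v => dotProduct_smul a _ v }
  obtain ⟨x, hx⟩ := Module.Dual.exists_forall_ne_zero_of_forall_exists f fun i => by
    obtain ⟨j, hj⟩ := Function.ne_iff.1 (hb i)
    exact ⟨Pi.single j 1, by simpa only [f, _root_.LinearMap.coe_mk, _root_.AddHom.coe_mk, _root_.dotProduct_single, _root_.mul_one, _root_.ne_eq, _root_.Int.cast_eq_zero, _root_.Pi.zero_apply] using hj⟩
  obtain ⟨d, hd⟩ := IsLocalization.exist_integer_multiples_of_finite (nonZeroDivisors ℤ) x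
  choose y hy using hd
  refine ⟨y, fun i h => hx i ?_⟩
  have h1 : ((d : ℤ) : ℚ) * f i x = ((b i ⬝ᵥ y : ℤ) : ℚ) := by
    simp only [f, LinearMap.coe_mk, AddHom.coe_mk, dotProduct, Int.cast_sum, Int.cast_mul, Finset.mul_sum]
    refine Finset.sum_congr rfl fun j _ => ?_
    have h2 := hy j
    simp only [algebraMap_int_eq, eq_intCast, zsmul_eq_mul] at h2
    rw [h2]
    ring
  rw [h, Int.cast_zero, mul_eq_zero] at h1
  exact h1.resolve_left (Int.cast_ne_zero.2 (nonZeroDivisors.coe_ne_zero d))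

theorem exists_dominant {φ : Fin l → ℤ} (hφ : ∀ i, 0 < φ ⬝ᵥ cartanOf C l i) (y : Fin l → ℤ) :
    ∃ u, 0 ≤ wm hp u *ᵥ y := by
  haveI := finite_W hp M.toCoxeterSystem
  obtain ⟨u, hu⟩ := Finite.exists_max fun u => φ ⬝ᵥ (wm hp u *ᵥ y)
  refine ⟨u, fun i => ?_⟩
  have h1 := hu (sr' M i * u)
  have h2 : wm hp (sr' M i) *ᵥ (wm hp u *ᵥ y) = wm hp u *ᵥ y - (wm hp u *ᵥ y) i • cartanOf C l i :=
    funext fun a => simple_apply hp i _ a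
  simp only [wm_mul_mulVec, h2, dotProduct_sub, dotProduct_smul, smul_eq_mul] at h1
  exact nonneg_of_mul_nonneg_left (by linarith) (hφ i)

/-- an element of order prime to `p` which fixes a regular set of vectors is trivial -/
theorem eq_one_of_fix {φ : Fin l → ℤ} (hφ : ∀ i, 0 < φ ⬝ᵥ cartanOf C l i) {S : Set (Fin l → ZMod p)}
    (hS : ∀ a, X.Rt C l a → ¬ ∀ s ∈ S, vl a s = 0) {w : M.Group} {n : ℕ} (hn : ¬ p ∣ n) (hw : w ^ n = 1)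
    (h : ∀ s ∈ S, mv (wm hp w) s = s) : w = 1 := by
  let π : Matrix (Fin l) (Fin l) ℤ := ∑ j ∈ Finset.range n, wm hp (w ^ j)
  have h1 : ∀ s ∈ S, ∀ j : ℕ, mv (wm hp (w ^ j)) s = s := fun s hs j => by
    induction j with
    | zero => rw [pow_zero, map_one, mv_one]
    | succ j ih => rw [pow_succ, map_mul, mv_mul, h s hs, ih]
  have h2 : wm hp w * π = π := by
    have h3 := Finset.sum_range_succ' (fun j => wm hp (w ^ j)) n
    rw [Finset.sum_range_succ, hw, pow_zero] at h3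
    rw [Finset.mul_sum]
    simp only [← map_mul, ← pow_succ']
    exact (add_right_cancel h3).symm
  obtain ⟨y, hy⟩ := exists_generic (fun a : RR C l => a.1 ᵥ* π) fun a e => hS a.1 (mem_RR.1 a.2) fun s hs => by
    have h3 : vl (a.1 ᵥ* π) s = n * vl a.1 s := by
      rw [Matrix.vecMul_sum]
      have h4 : ∀ j ∈ Finset.range n, vl (a.1 ᵥ* wm hp (w ^ j)) s = vl a.1 s := fun j _ => by rw [vl_vecMul, h1 s hs]
      rw [← Finset.card_range n, ← nsmul_eq_mul, ← Finset.sum_const, ← Finset.sum_congr rfl h4, Finset.card_range]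
      simp only [vl, Finset.sum_apply, Int.cast_sum, Finset.sum_mul]
      exact Finset.sum_comm
    rw [e] at h3
    have h5 : vl (0 : Fin l → ℤ) s = 0 := by simp only [vl, _root_.Pi.zero_apply, _root_.Int.cast_zero, _root_.MulZeroClass.zero_mul, _root_.Finset.sum_const_zero]
    rw [h5, eq_comm, mul_eq_zero] at h3
    exact h3.resolve_left fun e' => hn ((ZMod.natCast_eq_zero_iff _ _).1 e')
  obtain ⟨u, hu⟩ := exists_dominant hp hφ (π *ᵥ y)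
  have h3 : u * w * u⁻¹ ∈ (⊥ : Subgroup M.Group) := by
    refine dom_key hp hu (fun i hi => absurd ?_ (hy ⟨sr i ᵥ* wm hp u, mem_RR.2 (rt_wm hp (rt_sr hp i) u)⟩)) _ ?_
    · rw [← hi, ← sr_dot i (wm hp u *ᵥ π *ᵥ y), dotProduct_mulVec, dotProduct_mulVec]
    · rwa [← wm_mul_mulVec, inv_mul_cancel_right, wm_mul_mulVec, mulVec_mulVec y, h2]
  rw [Subgroup.mem_bot, mul_inv_eq_one, mul_eq_left] at h3
  exact h3

theorem kil_F4 : Kil chevF4 4 36 :=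
  ⟨!![2, -1, 0, 0; -1, 2, -2, 0; 0, -2, 4, -2; 0, 0, -2, 4],
    !![72, 108, 72, 36; 108, 216, 144, 72; 72, 144, 108, 54; 36, 72, 54, 36], by decide +kernel, by decide +kernel⟩

private noncomputable def _root_.Cfsg.Agent.LsF.f8fbc7f_0 : {f // @Cfsg.Agent.ChevalleyStructure.RootVecTab.dig = f} := ⟨_, by first | (delta Cfsg.Agent.ChevalleyStructure.RootVecTab.dig; rewrite [Cfsg.Agent.LsF.nmul_pat]; exact rfl) | exact rfl⟩
private noncomputable def _root_.Cfsg.Agent.LsF.f8fbc7f_1 : {f // @Cfsg.Agent.ChevalleyStructure.RootVecTab.packTab = f} := ⟨_, by first | (delta Cfsg.Agent.ChevalleyStructure.RootVecTab.packTab; rewrite [Cfsg.Agent.LsF.instDecEq_eq, Cfsg.Agent.LsF.ite_eq]; exact rfl) | exact rfl⟩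
private noncomputable def _root_.Cfsg.Agent.LsF.f8fbc7f_2 : {f // @Cfsg.Agent.ChevalleyStructure.RootVecTab.code = f} := ⟨_, by first | (delta Cfsg.Agent.ChevalleyStructure.RootVecTab.code; rewrite [Cfsg.Agent.LsF.f8fbc7f_1.2, Cfsg.Agent.LsF.nmul_pat, Cfsg.Agent.LsF.npow_pat]; exact rfl) | exact rfl⟩
private noncomputable def _root_.Cfsg.Agent.LsF.f8fbc7f_3 : {f // @Cfsg.Agent.ChevalleyStructure.RootVec.rt = f} := ⟨_, by first | (delta Cfsg.Agent.ChevalleyStructure.RootVec.rt; rewrite [Cfsg.Agent.LsF.f8fbc7f_0.2, Cfsg.Agent.LsF.f8fbc7f_2.2, Cfsg.Agent.LsF.nsub_pat, Cfsg.Agent.LsF.isub_pat, Cfsg.Agent.LsF.icast_pat, Cfsg.Agent.LsF.decLt_eq, Cfsg.Agent.LsF.dAnd_eq, Cfsg.Agent.LsF.ite_eq]; exact rfl) | exact rfl⟩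
private noncomputable def _root_.Cfsg.Agent.LsF.f8fbc7f_4 : {f // @Cfsg.Agent.Nodes.RGDChev.vec = f} := ⟨_, by first | (delta Cfsg.Agent.Nodes.RGDChev.vec; rewrite [Cfsg.Agent.LsF.f8fbc7f_3.2]; exact rfl) | exact rfl⟩
private noncomputable def _root_.Cfsg.Agent.LsF.f8fbc7f_5 : {f // @Cfsg.Agent.TO.X.Lat.kilB = f} := ⟨_, by first | (delta Cfsg.Agent.TO.X.Lat.kilB; rewrite [Cfsg.Agent.LsF.f8fbc7f_4.2, Cfsg.Agent.LsF.imul_pat, Cfsg.Agent.LsF.ibeq_pat, Cfsg.Agent.LsF.all_eq, Cfsg.Agent.LsF.map_eq, Cfsg.Agent.LsF.range_eq, Cfsg.Agent.LsF.sum_eq, Cfsg.Agent.LsF.instIAdd_eq, Cfsg.Agent.LsF.finRange_eq]; exact rfl) | exact rfl⟩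
theorem kil_E6 : Kil chevE6 6 24 :=
  ⟨!![2, 0, -1, 0, 0, 0; 0, 2, 0, -1, 0, 0; -1, 0, 2, -1, 0, 0; 0, -1, -1, 2, -1, 0; 0, 0, 0, -1, 2, -1; 0, 0, 0, 0, -1, 2],
    !![32, 24, 40, 48, 32, 16; 24, 48, 48, 72, 48, 24; 40, 48, 80, 96, 64, 32; 48, 72, 96, 144, 96, 48;
      32, 48, 64, 96, 80, 40; 16, 24, 32, 48, 40, 32], by ((try (rewrite [Cfsg.Agent.LsF.f8fbc7f_5.2, Cfsg.Agent.LsF.mof_pat, Cfsg.Agent.LsF.vecCons_eq])); decide +kernel), by decide +kernel⟩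

theorem kil_E7 : Kil chevE7 7 36 :=
  ⟨!![2, 0, -1, 0, 0, 0, 0; 0, 2, 0, -1, 0, 0, 0; -1, 0, 2, -1, 0, 0, 0; 0, -1, -1, 2, -1, 0, 0; 0, 0, 0, -1, 2, -1, 0;
      0, 0, 0, 0, -1, 2, -1; 0, 0, 0, 0, 0, -1, 2],
    !![72, 72, 108, 144, 108, 72, 36; 72, 126, 144, 216, 162, 108, 54; 108, 144, 216, 288, 216, 144, 72;
      144, 216, 288, 432, 324, 216, 108; 108, 162, 216, 324, 270, 180, 90; 72, 108, 144, 216, 180, 144, 72;
      36, 54, 72, 108, 90, 72, 54], by ((try (rewrite [Cfsg.Agent.LsF.f8fbc7f_5.2, Cfsg.Agent.LsF.mof_pat, Cfsg.Agent.LsF.vecCons_eq])); decide +kernel), by decide +kernel⟩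

theorem kil_E8 : Kil chevE8 8 60 :=
  ⟨!![2, 0, -1, 0, 0, 0, 0, 0; 0, 2, 0, -1, 0, 0, 0, 0; -1, 0, 2, -1, 0, 0, 0, 0; 0, -1, -1, 2, -1, 0, 0, 0;
      0, 0, 0, -1, 2, -1, 0, 0; 0, 0, 0, 0, -1, 2, -1, 0; 0, 0, 0, 0, 0, -1, 2, -1; 0, 0, 0, 0, 0, 0, -1, 2],
    !![240, 300, 420, 600, 480, 360, 240, 120; 300, 480, 600, 900, 720, 540, 360, 180;
      420, 600, 840, 1200, 960, 720, 480, 240; 600, 900, 1200, 1800, 1440, 1080, 720, 360;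
      480, 720, 960, 1440, 1200, 900, 600, 300; 360, 540, 720, 1080, 900, 720, 480, 240;
      240, 360, 480, 720, 600, 480, 360, 180; 120, 180, 240, 360, 300, 240, 180, 120],
    by ((try (rewrite [Cfsg.Agent.LsF.f8fbc7f_5.2, Cfsg.Agent.LsF.mof_pat, Cfsg.Agent.LsF.vecCons_eq])); decide +kernel), by decide +kernel⟩

end Cfsg.Agent.TO.X.Lat
end

private theorem dce_820ab9f3b828 : _root_.True := by
  try have : _root_.True := by simp only [_root_.Cfsg.Agent.TO.X.Rt.eq_1]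
  try have : _root_.True := by simp only [_root_.Cfsg.Agent.TO.X.Lat.RR.eq_1]
  try have : _root_.True := by simp only [_root_.Cfsg.Agent.TO.X.Lat.kilB.eq_1]
  exact _root_.True.intro
end

-- part: TO/X7/Lat
section
set_option linter.all false
open scoped Cfsg.Agent.FastGrp

/-!
# S4817, `E₈`, `p = 7`: the plane of type `D₄ A₂` (helper92)

`reg` : no root vanishes; `stab` : the pointwise stabiliser is trivial; `eig` : a scalar on the plane is the same scalar on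
`v0`; `not_cj` : `v0` is of another type.
-/

set_option autoImplicit false
set_option linter.unusedSectionVars false
set_option maxHeartbeats 400000
set_option maxRecDepth 100000

namespace Cfsg.Agent.TO.X7

open CoxeterSystem Cfsg Cfsg.Lie Matrix
open Cfsg.Agent.ChevalleyStructure.CoxeterGeom Cfsg.Agent.ChevalleyStructure.CoxeterGeomTypes
open Cfsg.Agent.Tits.Roots Cfsg.Agent.Nodes Cfsg.Agent.Nodes.RGDChev Cfsg.Agent.KZ.DatX Cfsg.Agent.KZ.Exc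
open Cfsg.Agent.TO.X Cfsg.Agent.TO.X.Lat

/-- the number of the roots which vanish -/
def nz (C : ChevalleyDatum) {l p : ℕ} (v : Fin l → ZMod p) : ℕ :=
  ((Finset.range C.nroots).filter fun s => vl (vec C l s) v = 0).card

section gen

variable {C : ChevalleyDatum} {l : ℕ} {M : CoxeterMatrix (Fin l)} (hp : IsType C l M) {p : ℕ} [Fact p.Prime]

include hp in
theorem nz_eq (v : Fin l → ZMod p) : nz C v = ((RR C l).filter fun a => vl a v = 0).card := by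
  rw [nz, Finset.card_filter, Finset.card_filter, sum_RR hp]

theorem nz_le (w : M.Group) (v : Fin l → ZMod p) : nz C (mv (wm hp w) v) ≤ nz C v := by
  rw [nz_eq hp, nz_eq hp]
  refine Finset.card_le_card_of_injOn (fun a => a ᵥ* wm hp w) (fun a ha => ?_) fun a _ b _ e => ?_
  · rw [Finset.mem_coe, Finset.mem_filter] at ha ⊢
    exact ⟨mem_RR.2 (rt_wm hp (mem_RR.1 ha.1) w), (vl_vecMul _ _ _).trans ha.2⟩
  · have h := congrArg (· ᵥ* wm hp w⁻¹) e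
    simpa only [vecMul_vecMul, ← map_mul, mul_inv_cancel, map_one, vecMul_one] using h

theorem nz_smul {c : ZMod p} (hc : c ≠ 0) (v : Fin l → ZMod p) : nz C (c • v) = nz C v := by
  unfold nz
  congr 1
  refine Finset.filter_congr fun s _ => ?_
  rw [vl_smul, mul_eq_zero, or_iff_right hc]

include hp in
theorem nz_cj {u v : Fin l → ZMod p} (h : Cj C (AdmS p [1]) u v) : nz C v ≤ nz C u := by
  obtain ⟨W, A, h1, ⟨c, hc, B, hB, rfl⟩, rfl⟩ := h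
  obtain ⟨w, rfl⟩ := (wM_iff hp).1 h1
  rw [List.mem_singleton.1 hB, mv_mul, smul_mv, mv_one]
  exact (nz_le hp w _).trans (nz_smul (fun e => hc ((ZMod.intCast_zmod_eq_zero_iff_dvd c p).1 e)) u).le

/-- small colour classes -/
theorem pow_eq_one {u x : Fin l → ZMod p}
    (h : ∀ i j, ((Finset.range C.nroots).filter fun s => vl (vec C l s) u = i ∧ vl (vec C l s) x = j).card ≤ 5)
    {w : M.Group} (h1 : mv (wm hp w) u = u) (h2 : mv (wm hp w) x = x) : w ^ 120 = 1 := by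
  have key : ∀ v : Fin l → ZMod p, mv (wm hp w) v = v → ∀ j : ℕ, mv (wm hp (w ^ j)) v = v := fun v hv j => by
    induction j with
    | zero => rw [pow_zero, map_one, mv_one]
    | succ j ih => rw [pow_succ, map_mul, mv_mul, hv, ih]
  have h3 : ∀ a, X.Rt C l a → a ᵥ* wm hp (w ^ 120) = a := fun a ha => by
    have h4 : ∀ i j : ℕ, i < j → j < 6 → a ᵥ* wm hp (w ^ i) = a ᵥ* wm hp (w ^ j) → a ᵥ* wm hp (w ^ 120) = a := by
      intro i j hij hj e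
      obtain ⟨n, rfl⟩ := Nat.exists_eq_add_of_lt hij
      have h5 := congrArg (· ᵥ* wm hp (w ^ i)⁻¹) e
      simp only [vecMul_vecMul, ← map_mul, mul_inv_cancel, map_one, vecMul_one] at h5
      rw [add_assoc, add_comm i, pow_add, mul_inv_cancel_right] at h5
      obtain ⟨m, hm⟩ : n + 1 ∣ 120 := by
        have : n < 5 := by omega
        interval_cases n <;> norm_num
      rw [hm, pow_mul]
      clear hm
      induction m with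
      | zero => rw [pow_zero, map_one, vecMul_one]
      | succ m ih => rw [pow_succ, map_mul, ← vecMul_vecMul, ih, ← h5]
    obtain ⟨i, hi, j, hj, hij, e⟩ := Finset.exists_ne_map_eq_of_card_lt_of_maps_to (s := Finset.range 6)
      (t := ((Finset.range C.nroots).filter fun s => vl (vec C l s) u = vl a u ∧ vl (vec C l s) x = vl a x).image (vec C l))
      (f := fun i => a ᵥ* wm hp (w ^ i))
      ((Finset.card_image_le.trans (h _ _)).trans_lt (by rw [Finset.card_range]; norm_num)) fun i _ => by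
        obtain ⟨s, hs, e⟩ := rt_wm hp ha (w ^ i)
        refine Finset.mem_coe.2 (Finset.mem_image.2 ⟨s, Finset.mem_filter.2 ⟨Finset.mem_range.2 hs, ?_⟩, e⟩)
        rw [e, vl_vecMul, vl_vecMul, key u h1, key x h2]
        exact ⟨rfl, rfl⟩
    rcases lt_or_gt_of_ne hij with h5 | h5
    · exact h4 i j h5 (Finset.mem_range.1 hj) e
    · exact h4 j i h5 (Finset.mem_range.1 hi) e.symm
  refine wm_inj hp ?_
  rw [map_one]
  ext i j
  have h4 := congrFun (h3 _ (rt_sr hp i)) j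
  rw [sr, single_one_vecMul] at h4
  rw [Matrix.one_apply]
  exact h4.trans (by rw [Pi.single_apply]; exact if_congr eq_comm rfl rfl)

end gen

/-- the first vector -/
def u0 : Fin 8 → ZMod 7 := ![1, 0, 0, 0, 0, 1, 0, 0]

/-- the second vector -/
def x0 : Fin 8 → ZMod 7 := ![0, 1, 1, 1, 1, 1, 1, 2]

/-- a further eigenvector -/
def v0 : Fin 8 → ZMod 7 := ![0, 0, 0, 0, 0, 1, 1, 2]

/-- the matrix of the scalar `3` -/
def g0 : Matrix (Fin 8) (Fin 8) ℤ :=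
  !![-1, -2, -3, -5, -4, -3, -2, -1; 0, 1, 1, 1, 0, 0, 0, 0; 0, 0, 1, 1, 1, 0, 0, 0; 0, -1, -1, -1, -1, 0, 0, 0;
    0, 1, 0, 1, 1, 0, 0, 0; 1, 1, 2, 2, 2, 2, 1, 0; 0, 0, 0, 0, 0, 0, 1, 1; 0, 0, 0, 0, 0, 0, -1, 0]

private noncomputable def _root_.Cfsg.Agent.LsF.f62578b_0 : {f // @Cfsg.Agent.TO.X.vl = f} := ⟨_, by first | (delta Cfsg.Agent.TO.X.vl; rewrite [Cfsg.Agent.LsF.finFintype_eq, Cfsg.Agent.LsF.fsum_eq]; exact rfl) | exact rfl⟩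
private noncomputable def _root_.Cfsg.Agent.LsF.f62578b_1 : {f // @Cfsg.Agent.ChevalleyStructure.RootVecTab.dig = f} := ⟨_, by first | (delta Cfsg.Agent.ChevalleyStructure.RootVecTab.dig; rewrite [Cfsg.Agent.LsF.nmul_pat]; exact rfl) | exact rfl⟩
private noncomputable def _root_.Cfsg.Agent.LsF.f62578b_2 : {f // @Cfsg.Agent.ChevalleyStructure.RootVecTab.packTab = f} := ⟨_, by first | (delta Cfsg.Agent.ChevalleyStructure.RootVecTab.packTab; rewrite [Cfsg.Agent.LsF.instDecEq_eq, Cfsg.Agent.LsF.ite_eq]; exact rfl) | exact rfl⟩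
private noncomputable def _root_.Cfsg.Agent.LsF.f62578b_3 : {f // @Cfsg.Agent.ChevalleyStructure.RootVecTab.code = f} := ⟨_, by first | (delta Cfsg.Agent.ChevalleyStructure.RootVecTab.code; rewrite [Cfsg.Agent.LsF.f62578b_2.2, Cfsg.Agent.LsF.nmul_pat, Cfsg.Agent.LsF.npow_pat]; exact rfl) | exact rfl⟩
private noncomputable def _root_.Cfsg.Agent.LsF.f62578b_4 : {f // @Cfsg.Agent.ChevalleyStructure.RootVec.rt = f} := ⟨_, by first | (delta Cfsg.Agent.ChevalleyStructure.RootVec.rt; rewrite [Cfsg.Agent.LsF.f62578b_1.2, Cfsg.Agent.LsF.f62578b_3.2, Cfsg.Agent.LsF.nsub_pat, Cfsg.Agent.LsF.isub_pat, Cfsg.Agent.LsF.icast_pat, Cfsg.Agent.LsF.decLt_eq, Cfsg.Agent.LsF.dAnd_eq, Cfsg.Agent.LsF.ite_eq]; exact rfl) | exact rfl⟩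
private noncomputable def _root_.Cfsg.Agent.LsF.f62578b_5 : {f // @Cfsg.Agent.Nodes.RGDChev.vec = f} := ⟨_, by first | (delta Cfsg.Agent.Nodes.RGDChev.vec; rewrite [Cfsg.Agent.LsF.f62578b_4.2]; exact rfl) | exact rfl⟩
private noncomputable def _root_.Cfsg.Agent.LsF.f62578b_6 : {f // @Cfsg.Agent.TO.X7.u0 = f} := ⟨_, by first | (delta Cfsg.Agent.TO.X7.u0; rewrite [Cfsg.Agent.LsF.vecCons_eq]; exact rfl) | exact rfl⟩
private noncomputable def _root_.Cfsg.Agent.LsF.f62578b_7 : {f // @Cfsg.Agent.TO.X7.x0 = f} := ⟨_, by first | (delta Cfsg.Agent.TO.X7.x0; rewrite [Cfsg.Agent.LsF.vecCons_eq]; exact rfl) | exact rfl⟩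
theorem reg : ∀ s < 240, ¬ (vl (vec chevE8 8 s) u0 = 0 ∧ vl (vec chevE8 8 s) x0 = 0) := by (refine of_decide_eq_true ?_; (try (rewrite [Cfsg.Agent.LsF.f62578b_0.2, Cfsg.Agent.LsF.f62578b_5.2, Cfsg.Agent.LsF.f62578b_6.2, Cfsg.Agent.LsF.f62578b_7.2, Cfsg.Agent.LsF.zdecEq_eq, Cfsg.Agent.LsF.dAnd_eq, Cfsg.Agent.LsF.dNot_eq, Cfsg.Agent.LsF.dBallLT_eq, Cfsg.Agent.LsF.decide_eq])); decide +kernel)

theorem cls : ∀ i j, ((Finset.range chevE8.nroots).filter fun s =>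
    vl (vec chevE8 8 s) u0 = i ∧ vl (vec chevE8 8 s) x0 = j).card ≤ 5 := by (refine of_decide_eq_true ?_; (try (rewrite [Cfsg.Agent.LsF.f62578b_0.2, Cfsg.Agent.LsF.f62578b_5.2, Cfsg.Agent.LsF.f62578b_6.2, Cfsg.Agent.LsF.f62578b_7.2, Cfsg.Agent.LsF.zdecEq_eq, Cfsg.Agent.LsF.zFintype_eq, Cfsg.Agent.LsF.dForall_eq, Cfsg.Agent.LsF.fcard_eq, Cfsg.Agent.LsF.ffilter_eq, Cfsg.Agent.LsF.frange_eq, Cfsg.Agent.LsF.decLe_eq, Cfsg.Agent.LsF.dAnd_eq, Cfsg.Agent.LsF.decide_eq])); decide +kernel)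

private noncomputable def _root_.Cfsg.Agent.LsF.f62578b_8 : {f // @Cfsg.Agent.TO.X7.nz = f} := ⟨_, by first | (delta Cfsg.Agent.TO.X7.nz; rewrite [Cfsg.Agent.LsF.f62578b_0.2, Cfsg.Agent.LsF.f62578b_5.2, Cfsg.Agent.LsF.zdecEq_eq, Cfsg.Agent.LsF.fcard_eq, Cfsg.Agent.LsF.ffilter_eq, Cfsg.Agent.LsF.frange_eq]; exact rfl) | exact rfl⟩
private noncomputable def _root_.Cfsg.Agent.LsF.f62578b_9 : {f // @Cfsg.Agent.TO.X7.v0 = f} := ⟨_, by first | (delta Cfsg.Agent.TO.X7.v0; rewrite [Cfsg.Agent.LsF.vecCons_eq]; exact rfl) | exact rfl⟩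
theorem nz_lt : nz chevE8 u0 < nz chevE8 v0 := by (refine of_decide_eq_true ?_; (try (rewrite [Cfsg.Agent.LsF.f62578b_8.2, Cfsg.Agent.LsF.f62578b_6.2, Cfsg.Agent.LsF.f62578b_9.2, Cfsg.Agent.LsF.decLt_eq, Cfsg.Agent.LsF.decide_eq])); decide +kernel)

theorem g0_eig : mv g0 u0 = (3 : ZMod 7) • u0 ∧ mv g0 x0 = (3 : ZMod 7) • x0 ∧ mv g0 v0 = (3 : ZMod 7) • v0 := by
  decide +kernel

private noncomputable def _root_.Cfsg.Agent.LsF.f62578b_10 : {f // @Cfsg.Agent.KZ.DatX.refL = f} := ⟨_, by first | (delta Cfsg.Agent.KZ.DatX.refL; rewrite [Cfsg.Agent.LsF.imul_pat, Cfsg.Agent.LsF.isub_pat, Cfsg.Agent.LsF.zipWith_eq, Cfsg.Agent.LsF.getD_eq]; exact rfl) | exact rfl⟩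
private noncomputable def _root_.Cfsg.Agent.LsF.f62578b_11 : {f // @Cfsg.Agent.KZ.DatX.app = f} := ⟨_, by first | (delta Cfsg.Agent.KZ.DatX.app; rewrite [Cfsg.Agent.LsF.f62578b_10.2, Cfsg.Agent.LsF.foldr_eq]; exact rfl) | exact rfl⟩
private noncomputable def _root_.Cfsg.Agent.LsF.f62578b_12 : {f // @Cfsg.Agent.TO.X7.g0 = f} := ⟨_, by first | (delta Cfsg.Agent.TO.X7.g0; rewrite [Cfsg.Agent.LsF.mof_pat, Cfsg.Agent.LsF.ineg_pat, Cfsg.Agent.LsF.vecCons_eq]; exact rfl) | exact rfl⟩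
theorem g0_wm : WM chevE8 8 g0 :=
  ⟨[0, 2, 3, 1, 2, 0, 3, 4, 3, 1, 2, 0, 5, 4, 3, 1, 2, 3, 4, 5, 6, 5, 4, 3, 1, 2, 3, 4, 5, 7, 6, 5, 4, 3, 1, 2, 3, 4, 5, 6],
    (prod_eq_of isRows_E8 _ (by (refine of_decide_eq_true ?_; (try (rewrite [Cfsg.Agent.LsF.f62578b_11.2, Cfsg.Agent.LsF.f62578b_12.2, Cfsg.Agent.LsF.instIDecEq_eq, Cfsg.Agent.LsF.dFinEq_eq, Cfsg.Agent.LsF.dListEq_eq, Cfsg.Agent.LsF.dForallFin_eq, Cfsg.Agent.LsF.ofFn_eq, Cfsg.Agent.LsF.ite_eq, Cfsg.Agent.LsF.decide_eq])); decide +kernel))).symm⟩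

private noncomputable def _root_.Cfsg.Agent.LsF.f62578b_13 : {f // @Cfsg.Lie.ChevalleyDatum.cartan = f} := ⟨_, by first | (delta Cfsg.Lie.ChevalleyDatum.cartan; rewrite [Cfsg.Agent.LsF.agetD_eq]; exact rfl) | exact rfl⟩
private noncomputable def _root_.Cfsg.Agent.LsF.f62578b_14 : {f // @Cfsg.Lie.ChevalleyDatum.simple = f} := ⟨_, by first | (delta Cfsg.Lie.ChevalleyDatum.simple; rewrite [Cfsg.Agent.LsF.agetD_eq]; exact rfl) | exact rfl⟩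
private noncomputable def _root_.Cfsg.Agent.LsF.f62578b_15 : {f // @Cfsg.Agent.ChevalleyStructure.CoxeterGeomTypes.cartanOf = f} := ⟨_, by first | (delta Cfsg.Agent.ChevalleyStructure.CoxeterGeomTypes.cartanOf; rewrite [Cfsg.Agent.LsF.f62578b_13.2, Cfsg.Agent.LsF.f62578b_14.2]; exact rfl) | exact rfl⟩
/-- the pointwise stabiliser of the plane is trivial -/
theorem stab {W : Matrix (Fin 8) (Fin 8) ℤ} (hW : WM chevE8 8 W) (h1 : mv W u0 = u0) (h2 : mv W x0 = x0) : W = 1 := by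
  have : Fact (Nat.Prime 7) := ⟨by norm_num⟩
  obtain ⟨w, rfl⟩ := (wM_iff hpE8).1 hW
  rw [eq_one_of_fix hpE8 (φ := ![92, 136, 182, 270, 220, 168, 114, 58]) (by (refine of_decide_eq_true ?_; (try (rewrite [Cfsg.Agent.LsF.dotF_pat, Cfsg.Agent.LsF.f62578b_15.2, Cfsg.Agent.LsF.iadd_pat, Cfsg.Agent.LsF.imul_pat, Cfsg.Agent.LsF.vecCons_eq, Cfsg.Agent.LsF.iACM_eq, Cfsg.Agent.LsF.idecLt_eq, Cfsg.Agent.LsF.dForallFin_eq, Cfsg.Agent.LsF.decide_eq])); decide +kernel)) (S := {u0, x0})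
    (fun a ⟨s, hs, e⟩ h => reg s hs (e ▸ ⟨h u0 (.inl rfl), h x0 (.inr rfl)⟩)) (n := 120) (by norm_num)
    (pow_eq_one hpE8 cls h1 h2) (by rintro s (rfl | rfl) <;> assumption), map_one]

theorem exists_sc {c : ZMod 7} (hc : c ≠ 0) : ∃ W, WM chevE8 8 W ∧ mv W u0 = c • u0 ∧ mv W x0 = c • x0 ∧ mv W v0 = c • v0 := by
  have key : ∀ j : ℕ, WM chevE8 8 (g0 ^ j) ∧ mv (g0 ^ j) u0 = (3 : ZMod 7) ^ j • u0 ∧
      mv (g0 ^ j) x0 = (3 : ZMod 7) ^ j • x0 ∧ mv (g0 ^ j) v0 = (3 : ZMod 7) ^ j • v0 := fun j => by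
    induction j with
    | zero => simp only [pow_zero, mv_one, one_smul, and_self, and_true]; exact WM.one
    | succ j ih =>
      simp only [pow_succ, mv_mul, g0_eig.1, g0_eig.2.1, g0_eig.2.2, mv_smul, ih.2.1, ih.2.2.1, ih.2.2.2, smul_smul,
        mul_comm (3 : ZMod 7), and_self, and_true]
      exact ih.1.mul g0_wm
  obtain ⟨j, -, rfl⟩ : ∃ j < 6, c = 3 ^ j := by revert c; decide
  exact ⟨_, key j⟩

/-- a scalar on the plane is the same scalar on `v0` -/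
theorem eig {W : Matrix (Fin 8) (Fin 8) ℤ} (hW : WM chevE8 8 W) {c : ZMod 7} (hc : c ≠ 0) (h1 : c • mv W u0 = u0)
    (h2 : c • mv W x0 = x0) : c • mv W v0 = v0 := by
  obtain ⟨W', a1, a2, a3, a4⟩ := exists_sc hc
  rw [← mv_smul, ← a4, ← mv_mul, stab (hW.mul a1) (by rw [mv_mul, a2, mv_smul, h1]) (by rw [mv_mul, a3, mv_smul, h2]),
    mv_one]

theorem not_cj : ¬ Cj chevE8 (AdmS 7 [1]) u0 v0 := fun h =>
  have : Fact (Nat.Prime 7) := ⟨by norm_num⟩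
  absurd (nz_cj hpE8 h) (not_le.2 nz_lt)

theorem u0_ne : u0 ≠ 0 := by decide

theorem v0_ne : v0 ≠ 0 := by decide

end Cfsg.Agent.TO.X7

private theorem dce_b800f209a9d2 : _root_.True := by
  try have : _root_.True := by simp only [_root_.Cfsg.Agent.TO.X7.nz.eq_1]
  exact _root_.True.intro
end

-- part: TO/X/LatB
section
set_option linter.all false
open scoped Cfsg.Agent.FastGrp

/-!
# S4817, exceptional groups: transitive eigenspaces in the torus, type by type (helper3)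
-/

set_option autoImplicit false
set_option linter.unusedSectionVars false
set_option linter.style.haveILetI false

namespace Cfsg.Agent.TO.X.Lat

open CoxeterSystem Cfsg Cfsg.Lie Matrix Module
open Cfsg.Agent.ChevalleyStructure.CoxeterGeom Cfsg.Agent.ChevalleyStructure.CoxeterGeomTypes
open Cfsg.Agent.Tits.Roots Cfsg.Agent.Nodes Cfsg.Agent.Nodes.RGDChev Cfsg.Agent.KZ.DatX Cfsg.Agent.KZ.Exc
  Cfsg.Agent.KZ.Exc.Gr

variable {C : ChevalleyDatum} {l : ℕ} {M : CoxeterMatrix (Fin l)} (hp : IsType C l M) {p : ℕ} [hpp : Fact p.Prime]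

/-- The subspace `B` is the part of the fixed space of `w A₀` which is fixed by its pointwise stabiliser, and the matrices
`u A` which preserve `B` are transitive on its non-zero vectors. -/
structure Lt (L : List (Matrix (Fin l) (Fin l) ℤ)) (B : Submodule (ZMod p) (Fin l → ZMod p)) (w : M.Group)
    (A₀ : Matrix (Fin l) (Fin l) ℤ) : Prop where
  two : 2 ≤ finrank (ZMod p) B
  fix : ∀ s ∈ B, mv (wm hp w * A₀) s = s
  cut : ∀ v, mv (wm hp w * A₀) v = v → (∀ z, (∀ s ∈ B, mv (wm hp z) s = s) → mv (wm hp z) v = v) → v ∈ B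
  trs : ∀ s ∈ B, ∀ s' ∈ B, s ≠ 0 → s' ≠ 0 →
    ∃ u A, AdmS p L A ∧ (∀ t ∈ B, mv (wm hp u * A) t ∈ B) ∧ s' = mv (wm hp u * A) s

/-- the matrices of the list lie in the Weyl group up to sign -/
def Ab (L : List (Matrix (Fin l) (Fin l) ℤ)) : Prop := ∀ B ∈ L, ∃ u, wm hp u = B ∨ wm hp u = -B

theorem ab_one : Ab hp [1] := fun B hB => ⟨1, Or.inl (by rw [map_one, List.mem_singleton.1 hB])⟩

theorem ab_E6 : Ab hpE6 [1, P6] := fun B hB => by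
  rcases List.mem_pair.1 hB with rfl | rfl
  · exact ⟨1, Or.inl (map_one _)⟩
  · exact ⟨_, Or.inr ((wm_wd hpE6 _).trans neg_E6)⟩

variable {hp} {L L₀ : List (Matrix (Fin l) (Fin l) ℤ)} {B : Submodule (ZMod p) (Fin l → ZMod p)} {w : M.Group}
  {A₀ : Matrix (Fin l) (Fin l) ℤ}

theorem Ab.sc (h : Ab hp L) {A : Matrix (Fin l) (Fin l) ℤ} (hA : AdmS p L A) :
    ∃ (u : M.Group) (a : ZMod p), a ≠ 0 ∧ ∀ (x : M.Group) (v : Fin l → ZMod p),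
      mv (wm hp x * A) v = a • mv (wm hp (x * u)) v := by
  obtain ⟨c, hc, D, hD, rfl⟩ := hA
  have hc' : (c : ZMod p) ≠ 0 := fun e => hc ((ZMod.intCast_zmod_eq_zero_iff_dvd c p).1 e)
  obtain ⟨u, e | e⟩ := h D hD
  · exact ⟨u, c, hc', fun x v => by rw [map_mul, e, Matrix.mul_smul, smul_mv]⟩
  · refine ⟨u, -c, neg_ne_zero.2 hc', fun x v => ?_⟩
    rw [map_mul, e, ← Int.cast_neg, ← smul_mv, Matrix.mul_smul, mul_neg, smul_neg, neg_smul, neg_neg]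

theorem Lt.cut' (h : Lt hp L B w A₀) (h0 : Ab hp L₀) (hA : AdmS p L₀ A₀) :
    ∃ (g : M.Group) (c : ZMod p), Big.Cut (Big.red p (wm hp)) B g c ∧
      ∀ v : Fin l → ZMod p, mv (wm hp w * A₀) v = c⁻¹ • mv (wm hp g) v := by
  obtain ⟨u, a, ha, e⟩ := h0.sc hA
  refine ⟨w * u, a⁻¹, ⟨fun s hs => ?_, fun v h1 h2 => h.cut v ?_ h2⟩, fun v => by rw [inv_inv, e]⟩
  · have h1 := h.fix s hs
    rw [e] at h1
    rw [red_eq, eq_inv_smul_iff₀ ha, h1]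
  · rw [red_eq] at h1
    rw [e, h1, smul_inv_smul₀ ha]

theorem Lt.trs' (h : Lt hp L B w A₀) (h0 : Ab hp L) : Big.Trs (Big.red p (wm hp)) B := fun s hs s' hs' h1 h2 => by
  obtain ⟨x, A, hA, h3, h4⟩ := h.trs s hs s' hs' h1 h2
  obtain ⟨u, a, ha, e⟩ := h0.sc hA
  refine ⟨x * u, fun t ht => ?_, a, h4.trans (e x s)⟩
  have h5 := h3 t ht
  rwa [e, B.smul_mem_iff ha] at h5

theorem not_dvd_of_lt {a b c d n : ℕ} (hn : n = 2 ^ a * 3 ^ b * 5 ^ c * 7 ^ d) (h : 11 ≤ p ∨ (7 ≤ p ∧ d = 0)) : ¬ p ∣ n := by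
  intro h1
  have key : ∀ q e : ℕ, q.Prime → p ∣ q ^ e → p = q := fun q e hq h2 =>
    (Nat.prime_dvd_prime_iff_eq hpp.out hq).1 (hpp.out.dvd_of_dvd_pow h2)
  rw [hn] at h1
  rcases (Nat.Prime.dvd_mul hpp.out).1 h1 with h2 | h2
  · rcases (Nat.Prime.dvd_mul hpp.out).1 h2 with h3 | h3
    · rcases (Nat.Prime.dvd_mul hpp.out).1 h3 with h4 | h4
      · have := key _ _ Nat.prime_two h4
        omega
      · have := key _ _ Nat.prime_three h4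
        omega
    · have := key _ _ Nat.prime_five h3
      omega
  · rcases h with h | ⟨-, rfl⟩
    · have := key _ _ (by norm_num) h2
      omega
    · exact hpp.out.one_lt.ne' (Nat.dvd_one.1 h2)

theorem not_dvd_int {n : ℕ} (h : ¬ p ∣ n) : ¬ (p : ℤ) ∣ (n : ℤ) := fun e => h (Int.natCast_dvd_natCast.1 e)

/-- the general statement for large primes -/
theorem Lt.big (h : Lt hp L B w A₀) (hL : Ab hp L) (h0 : Ab hp L₀) (hA : AdmS p L₀ A₀) (h11 : 11 ≤ p)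
    (hW : ¬ p ∣ Nat.card M.Group) {n : ℤ} (hK : Kil C l n) (hn : ¬ (p : ℤ) ∣ n) (hR : C.nroots ≤ 240) (hl : l ≤ 8) :
    p = 11 ∧ l = 8 ∧ finrank (ZMod p) B = 2 ∧ (∀ a, X.Rt C l a → ¬ ∀ s ∈ B, vl a s = 0) ∧
      ∃ (g : M.Group) (c : ZMod p), c ≠ 0 ∧ c ^ 2 ≠ 1 ∧ (∀ s ∈ B, mv (wm hp g) s = c • s) ∧
        ∀ v : Fin l → ZMod p, mv (wm hp w * A₀) v = c⁻¹ • mv (wm hp g) v := by
  haveI := finite_W hp M.toCoxeterSystem
  obtain ⟨g, c, hc, e⟩ := h.cut' h0 hA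
  obtain ⟨D, hD⟩ := hK.mat hp
  obtain ⟨h1, h2, h3, h4, h5, -, h7⟩ := Big.big_mat h11 hW (wm hp) (fun z a ha => mem_RR.2 (rt_wm hp (mem_RR.1 ha) z))
    (fun a ha => mem_RR.2 (rt_neg hp (mem_RR.1 ha))) hD hn (fun a ha => exists_refl hp (mem_RR.1 ha))
    (card_RR_le.trans hR) (by rwa [Fintype.card_fin]) h.two (h.trs' hL) hc
  exact ⟨h1, by rwa [Fintype.card_fin] at h2, h3, fun a ha => h7 a (mem_RR.2 ha), g, c, h4, h5, hc.1, e⟩

/-- the prime seven, at most 112 roots -/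
theorem Lt.seven (h : Lt hp L B w A₀) (hL : Ab hp L) (h0 : Ab hp L₀) (hA : AdmS p L₀ A₀) (h7 : p = 7)
    (hW : ¬ p ∣ Nat.card M.Group) {n : ℤ} (hK : Kil C l n) (hn : ¬ (p : ℤ) ∣ n) (hR : C.nroots ≤ 112) : False := by
  haveI := finite_W hp M.toCoxeterSystem
  obtain ⟨g, c, hc, -⟩ := h.cut' h0 hA
  have hRt := rt_RR hp hK hn
  have h2 := h.two
  have hB : B ≠ ⊥ := by
    rintro rfl
    simp at h2
  by_cases h3 : finrank (ZMod p) B = 2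
  · have := Big.two_dim hW (Big.ratC_red p _) (hc.full hB) h3 (h.trs' hL)
    rw [h7] at this
    omega
  obtain ⟨s0, hs0, hs0'⟩ := Submodule.exists_mem_ne_zero_of_ne_bot hB
  have h4 := Big.points_dvd (fun s hs hs' => Big.van_eq hRt (h.trs' hL) hs0 hs hs0' hs') (by omega)
  have h5 := (Big.out_nonempty hRt hB).card_pos
  have h6 : (Big.out (Big.evm p (RR C l)) B).card ≤ 112 :=
    (Finset.card_le_univ _).trans (by rw [Fintype.card_coe]; exact card_RR_le.trans hR)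
  obtain ⟨r, hr⟩ := Big.even_out (S := B) (fun e => by
    have := Nat.le_of_dvd two_pos ((ZMod.natCast_eq_zero_iff 2 p).1 (by exact_mod_cast e))
    omega) hRt
  subst h7
  by_cases h8 : finrank (ZMod 7) B = 3
  · rw [h8] at h4
    omega
  · have h9 := Nat.le_of_dvd (by omega) h4
    have h10 : 7 ^ 4 ≤ 7 ^ finrank (ZMod 7) B := Nat.pow_le_pow_right (by omega) (by omega)
    omega

theorem rho_F4 : ∀ i, 0 < (![22, 42, 30, 16] : Fin 4 → ℤ) ⬝ᵥ cartanOf chevF4 4 i := by decide +kernel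

/-! ### the type `F₄` -/

/-- the special isogeny permutes the roots -/
def gamB : Bool :=
  (List.range 48).all fun r => (List.range 48).any fun s => (List.finRange 4).all (fun i =>
    (vec chevF4 4 r ᵥ* GamF) i == vec chevF4 4 s i && (vec chevF4 4 s ᵥ* GamF) i == 2 * vec chevF4 4 r i) ||
    (List.finRange 4).all fun i =>
      (vec chevF4 4 r ᵥ* GamF) i == 2 * vec chevF4 4 s i && (vec chevF4 4 s ᵥ* GamF) i == vec chevF4 4 r i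

theorem gam_rt {a : Fin 4 → ℤ} (ha : X.Rt chevF4 4 a) : ∃ b, X.Rt chevF4 4 b ∧
    ((a ᵥ* GamF = b ∧ b ᵥ* GamF = (2 : ℤ) • a) ∨ (a ᵥ* GamF = (2 : ℤ) • b ∧ b ᵥ* GamF = a)) := by
  have h : gamB = true := by decide +kernel
  simp only [gamB, List.all_eq_true, List.any_eq_true, List.mem_range, Bool.or_eq_true, List.mem_finRange, forall_const,
    Bool.and_eq_true, beq_iff_eq] at h
  obtain ⟨r, hr, rfl⟩ := ha
  obtain ⟨s, hs, h1⟩ := h r hr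
  refine ⟨_, ⟨s, hs, rfl⟩, h1.imp (fun h2 => ⟨funext fun i => (h2 i).1, funext fun i => (h2 i).2⟩)
    fun h2 => ⟨funext fun i => (h2 i).1, funext fun i => (h2 i).2⟩⟩

/-- a matrix as an endomorphism modulo `p` -/
noncomputable def en (p : ℕ) [Fact p.Prime] (A : Matrix (Fin l) (Fin l) ℤ) : Module.End (ZMod p) (Fin l → ZMod p) :=
  Matrix.toLin' (A.map (Int.cast : ℤ → ZMod p))

theorem en_apply (A : Matrix (Fin l) (Fin l) ℤ) (v : Fin l → ZMod p) : en p A v = mv A v := rfl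

theorem pj_gam (h2 : (2 : ZMod p) ≠ 0) : Big.Pj (Big.evm p (RR chevF4 4)) (en p GamF) := by
  choose f hf1 hf2 using fun a : RR chevF4 4 => gam_rt (mem_RR.1 a.2)
  let e : RR chevF4 4 → RR chevF4 4 := fun a => ⟨f a, mem_RR.2 (hf1 a)⟩
  have key : ∀ a a' : RR chevF4 4, a'.1 = (2 : ℤ) • a.1 → False := fun a a' h => by
    have := isUnit_of_smul _ _ ((rt_iff hpF4).1 (mem_RR.1 a'.2)) 2 h
    rw [Int.isUnit_iff] at this
    omega
  have hinj : Function.Injective e := fun a a' h => by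
    have h1 : f a = f a' := congrArg Subtype.val h
    rcases hf2 a with ⟨-, h3⟩ | ⟨-, h3⟩ <;> rcases hf2 a' with ⟨-, h4⟩ | ⟨-, h4⟩ <;> rw [h1, h4] at h3
    · exact Subtype.ext (smul_right_injective _ two_ne_zero h3).symm
    · exact (key _ _ h3).elim
    · exact (key _ _ h3.symm).elim
    · exact Subtype.ext h3.symm
  refine ⟨Equiv.ofBijective e (Finite.injective_iff_bijective.1 hinj), fun a v => ?_⟩
  change vl (f a) v = 0 ↔ vl a.1 (mv GamF v) = 0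
  rw [← vl_vecMul]
  rcases hf2 a with ⟨h3, -⟩ | ⟨h3, -⟩ <;> rw [h3]
  rw [vl_zsmul, mul_eq_zero, or_iff_right (by exact_mod_cast h2)]

theorem Lt.trP {B : Submodule (ZMod p) (Fin 4 → ZMod p)} {w : CoxeterMatrix.F₄.Group} {A₀ : Matrix (Fin 4) (Fin 4) ℤ}
    (h : Lt hpF4 [1, GamF] B w A₀) (h5 : 5 ≤ p) : Big.TrP (Big.evm p (RR chevF4 4)) B := by
  haveI := finite_W hpF4 CoxeterMatrix.F₄.toCoxeterSystem
  have h2 : (2 : ZMod p) ≠ 0 := fun e => by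
    have := Nat.le_of_dvd two_pos ((ZMod.natCast_eq_zero_iff 2 p).1 (by exact_mod_cast e))
    omega
  have hn : ¬ (p : ℤ) ∣ 36 := not_dvd_int (n := 36) fun e => by
    have h3 : p ∣ 6 := hpp.out.dvd_of_dvd_pow (show p ∣ 6 ^ 2 from e)
    have := Nat.le_of_dvd (by norm_num) h3
    have h4 := hpp.out
    interval_cases p
    · omega
    · norm_num at h4
  have hR := rt_RR hpF4 kil_F4 hn
  intro s hs s' hs' h0 h0'
  obtain ⟨u, A, ⟨c, hc, D, hD, rfl⟩, h3, h4⟩ := h.trs s hs s' hs' h0 h0'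
  have hc' : (c : ZMod p) ≠ 0 := fun e => hc ((ZMod.intCast_zmod_eq_zero_iff_dvd c p).1 e)
  have e : ∀ v, ((c : ZMod p) • (Big.red p (wm hpF4) u * en p D)) v = mv (wm hpF4 u * c • D) v := fun v => by
    rw [Matrix.mul_smul, smul_mv, mv_mul]
    rfl
  refine ⟨(c : ZMod p) • (Big.red p (wm hpF4) u * en p D), fun x hx => by rw [e]; exact h3 x hx,
    ((hR.pj u).mul ?_).smul hc', by rw [e]; exact h4⟩
  rcases List.mem_pair.1 hD with rfl | rfl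
  · exact ⟨1, fun a v => by rw [en_apply, mv_one]; rfl⟩
  · exact pj_gam h2

/-- **`F₄`**, `p = 7`, without the special isogeny -/
theorem lat_F4_seven (h7 : p = 7) {B : Submodule (ZMod p) (Fin 4 → ZMod p)} {w : CoxeterMatrix.F₄.Group}
    {A₀ : Matrix (Fin 4) (Fin 4) ℤ} (h : Lt hpF4 [1] B w A₀) (hA : AdmS p [1] A₀) : False :=
  h.seven (ab_one _) (ab_one _) hA h7 (not_dvd_of_lt (a := 7) (b := 2) (c := 0) (d := 0) card_W_F4 (Or.inr ⟨h7.ge, rfl⟩))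
    kil_F4 (not_dvd_int (not_dvd_of_lt (n := 36) (a := 2) (b := 2) (c := 0) (d := 0) rfl (Or.inr ⟨h7.ge, rfl⟩))) (by decide)

theorem Lt.mono (h : Lt hp L B w A₀) (h' : ∀ A ∈ L, A ∈ L₀) : Lt hp L₀ B w A₀ :=
  ⟨h.two, h.fix, h.cut, fun s hs s' hs' h1 h2 => by
    obtain ⟨u, A, ⟨c, hc, D, hD, e⟩, h3⟩ := h.trs s hs s' hs' h1 h2
    exact ⟨u, A, ⟨c, hc, D, h' D hD, e⟩, h3⟩⟩

end Cfsg.Agent.TO.X.Lat

private theorem dce_f37afae0e498 : _root_.True := by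
  try have : _root_.True := by simp only [_root_.Cfsg.Agent.TO.X.Lat.gamB.eq_1]
  exact _root_.True.intro
end

-- part: TO/X11/Lin
section
prune_inst 0x90005140412202000004000040001e43cb0000000008880000220b440f8a7c204040886068202c020822008c00340048110000000200000000000400000101a08882100430000000060019000080610000000000000000000000000000041000000000000
set_option linter.all false
open scoped Cfsg.Agent.FastGrp

/-!
# S4817, exceptional rows, the prime eleven: linear algebra (helper4)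
-/

set_option autoImplicit false
set_option linter.unusedSectionVars false

namespace Cfsg.Agent.TO.X11

open Matrix Module Cfsg.Agent.TO.X.Big

theorem tr_cases : ∀ t d : ZMod 11, d ^ 2 = 1 → t ^ 3 - 3 * t * d = t → t ^ 5 - 5 * t ^ 3 * d + 5 * t * d ^ 2 = t →
    t = 0 ∨ (t = 2 * (6 * t) ∧ d = (6 * t) ^ 2) := by decide

theorem sq_of_pow : ∀ d : ZMod 11, d ^ 10 = 1 → (d ^ 2) ^ 5 = 1 := by decide

theorem pow_inj5 : ∀ c : ZMod 11, c ^ 5 = 1 → c ≠ 1 →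
    Function.Injective fun o : Option (Fin 4) => o.elim 1 fun i => c ^ ![1, 3, 7, 9] i := by decide

/-- a transitive group with rational traces contains two anticommuting elements -/
theorem anti_two [Fact (Nat.Prime 11)] {N : Type*} [Group N] [Finite N] {τ : N →* M2 (ZMod 11)} (htr : Tr2 τ)
    (hN : ¬ 11 ∣ Nat.card N) [Fact (Nat.Prime 2)] (P : Sylow 2 N) (hR : Rat τ 2 P) :
    ∃ a b : N, τ (b * a) = -τ (a * b) := by
  classical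
  have key : ∀ h ∈ (P : Subgroup N), (∃ c : ZMod 11, τ h = c • 1) ∨ (τ h).trace = 0 := by
    intro h hh
    obtain ⟨k, hk⟩ := P.isPGroup' ⟨h, hh⟩
    have h1 : (τ h).det ^ 2 ^ k = 1 := by
      rw [← det_pow, ← map_pow, show h ^ 2 ^ k = 1 from congrArg Subtype.val hk, map_one, det_one]
    have h2 : (τ h).det ≠ 0 := fun e => by
      rw [e, zero_pow (by positivity)] at h1
      exact zero_ne_one h1
    have h4 : (τ h).det ^ 2 = 1 := by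
      refine (pow_eq_one_iff_of_coprime (Nat.Coprime.pow_left k (show Nat.Coprime 2 5 by norm_num))).1
        ⟨?_, sq_of_pow _ (ZMod.pow_card_sub_one_eq_one h2)⟩
      rw [← pow_mul, mul_comm, pow_mul, h1, one_pow]
    have c2 := ch (τ h)
    have t3 := hR h hh 3 (by norm_num)
    have t5 := hR h hh 5 (by norm_num)
    have t1 : (1 : M2 (ZMod 11)).trace = 2 := by simp
    have e3 : τ h ^ 3 = ((τ h).trace ^ 2 - (τ h).det) • τ h - ((τ h).trace * (τ h).det) • (1 : M2 (ZMod 11)) := by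
      rw [pow_succ, pow_two, c2, sub_mul, smul_mul_assoc, c2, smul_mul_assoc, one_mul]
      module
    have e5 : τ h ^ 5 = ((τ h).trace ^ 4 - 3 * (τ h).trace ^ 2 * (τ h).det + (τ h).det ^ 2) • τ h -
        ((τ h).trace ^ 3 * (τ h).det - 2 * (τ h).trace * (τ h).det ^ 2) • (1 : M2 (ZMod 11)) := by
      rw [show τ h ^ 5 = τ h ^ 3 * (τ h * τ h) by rw [← pow_two, ← pow_add], e3, c2]
      simp only [sub_mul, mul_sub, smul_mul_assoc, mul_smul_comm, one_mul, mul_one, c2]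
      module
    rw [map_pow, e3, trace_sub, trace_smul, trace_smul, t1] at t3
    rw [map_pow, e5, trace_sub, trace_smul, trace_smul, t1] at t5
    simp only [smul_eq_mul] at t3 t5
    rcases tr_cases (τ h).trace _ h4 (by linear_combination t3) (by linear_combination t5) with h0 | h0
    · exact Or.inr h0
    · exact Or.inl ⟨_, eq_of_double h0.1 h0.2 (cast_ne hN) (pow_card h)⟩
  have fin : ∀ L : Finset N, L.card ≤ 2 → (∀ h ∈ (P : Subgroup N), ∃ x ∈ L, ∃ c : ZMod 11, τ h = c • τ x) → False := by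
    intro L h1 h2
    have := le_of_cover htr P (a := 2) (by norm_num) L h2
    omega
  by_cases ha : ∃ a ∈ (P : Subgroup N), ¬ ∃ c : ZMod 11, τ a = c • 1
  swap
  · push Not at ha
    exact (fin {1} (by simp) fun h hh => ⟨1, by simp, by rw [map_one]; exact ha h hh⟩).elim
  obtain ⟨a, ha, ha1⟩ := ha
  by_cases hb : ∃ b ∈ (P : Subgroup N), (¬ ∃ c : ZMod 11, τ b = c • 1) ∧ ¬ ∃ c : ZMod 11, τ b = c • τ a
  swap
  · refine (fin {1, a} Finset.card_le_two fun h hh => ?_).elim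
    by_cases h1 : ∃ c : ZMod 11, τ h = c • 1
    · exact ⟨1, by simp, by rw [map_one]; exact h1⟩
    · exact ⟨a, by simp, by_contra fun h2 => hb ⟨h, hh, h1, h2⟩⟩
  obtain ⟨b, hb, hb1, hb2⟩ := hb
  have ta := (key a ha).resolve_left ha1
  have h2 := (key _ (mul_mem (inv_mem ha) hb)).resolve_left fun ⟨c, e⟩ =>
    hb2 ⟨c, by rw [← mul_inv_cancel_left a b, map_mul, e, mul_smul_comm, mul_one]⟩
  have h3 : τ a * τ b = (-(τ a).det) • τ (a⁻¹ * b) := by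
    have h4 := ch (τ a)
    rw [ta, zero_smul, zero_sub, ← neg_smul] at h4
    conv_lhs => rw [← mul_inv_cancel_left a b, map_mul, ← mul_assoc, h4, smul_mul_assoc, one_mul]
  exact ⟨a, b, by
    rw [map_mul, map_mul]
    exact anti ta ((key b hb).resolve_left hb1) (by rw [h3, trace_smul, h2, smul_zero])⟩

section

variable [Fact (Nat.Prime 11)] {V : Type*} [AddCommGroup V] [Module (ZMod 11) V] [FiniteDimensional (ZMod 11) V]
  {Γ : Type*} [Group Γ] [Finite Γ] {σ : Γ →* Module.End (ZMod 11) V} {S : Submodule (ZMod 11) V}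
  (hΓ : ¬ 11 ∣ Nat.card Γ) (hr : RatC σ) (hS : Full σ S) (h2 : finrank (ZMod 11) S = 2)

include hΓ hr hS h2

theorem exists_anti {N : Subgroup Γ} (hN : N ≤ NS σ S)
    (htr : ∀ s ∈ S, ∀ s' ∈ S, s ≠ 0 → s' ≠ 0 → ∃ h ∈ N, ∃ a : ZMod 11, s' = a • σ h s) :
    ∃ a ∈ N, ∃ b ∈ N, ∀ s ∈ S, σ (b * a) s = -σ (a * b) s := by
  classical
  let b := Module.finBasisOfFinrankEq (ZMod 11) S h2
  let τ : N →* M2 (ZMod 11) := (LinearMap.toMatrixAlgEquiv b).toMonoidHom.comp ((res σ S).comp (Subgroup.inclusion hN))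
  have hτ : ∀ h, τ h = LinearMap.toMatrix b b (res σ S (Subgroup.inclusion hN h)) := fun _ => rfl
  have h1 : Tr2 τ := fun s s' h0 h0' => by
    have e0 : ∀ s : Fin 2 → ZMod 11, s ≠ 0 → ((b.equivFun.symm s : S) : V) ≠ 0 := fun s h e =>
      h (b.equivFun.symm.map_eq_zero_iff.1 (Subtype.ext e))
    obtain ⟨h, hh, a, e⟩ := htr _ (b.equivFun.symm s).2 _ (b.equivFun.symm s').2 (e0 s h0) (e0 s' h0')
    refine ⟨⟨h, hh⟩, a, ?_⟩
    have e1 : b.equivFun.symm s' = a • res σ S (Subgroup.inclusion hN ⟨h, hh⟩) (b.equivFun.symm s) := Subtype.ext e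
    have e2 := LinearMap.toMatrix_mulVec_repr b b (res σ S (Subgroup.inclusion hN ⟨h, hh⟩)) (b.equivFun.symm s)
    rw [← Basis.equivFun_apply, ← Basis.equivFun_apply, LinearEquiv.apply_symm_apply] at e2
    rw [hτ, e2, ← map_smul, ← e1, LinearEquiv.apply_symm_apply]
  have : Fact (Nat.Prime 2) := ⟨Nat.prime_two⟩
  obtain ⟨P⟩ : Nonempty (Sylow 2 N) := inferInstance
  obtain ⟨x, y, e⟩ := anti_two h1 (fun h => hΓ (h.trans N.card_subgroup_dvd_card)) P fun h hh j hj => by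
    obtain ⟨k, hk⟩ := P.isPGroup' ⟨h, hh⟩
    obtain ⟨j', h3, h4, h5⟩ := exists_exp (p := 11) (e := 5) Nat.prime_two (by norm_num) (Or.inr ⟨rfl, by norm_num⟩) hj k
      (Nat.card_pos (α := Γ)).ne'
    have h6 : h ^ j = h ^ j' :=
      pow_eq_pow_iff_modEq.2 (h3.symm.of_dvd (orderOf_dvd_of_pow_eq_one (congrArg Subtype.val hk)))
    rw [h6, hτ, hτ, ← LinearMap.trace_eq_matrix_trace, ← LinearMap.trace_eq_matrix_trace, map_pow]
    exact tr_pow (cast_ne hΓ) hr hS _ h4 h5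
  refine ⟨x, x.2, y, y.2, fun s hs => ?_⟩
  rw [hτ, hτ, ← map_neg, (LinearMap.toMatrix b b).injective.eq_iff] at e
  exact congrArg Subtype.val (LinearMap.congr_fun e ⟨s, hs⟩)

theorem no_fix (hV : finrank (ZMod 11) V ≤ 8) {g : Γ} {c : ZMod 11} (hg : ∀ s ∈ S, σ g s = c • s) (h5 : c ^ 5 = 1)
    (h1 : c ≠ 1) {v : V} (hv : σ g v = v) : v = 0 := by
  have hc0 : c ≠ 0 := by
    rintro rfl
    rw [zero_pow (by norm_num)] at h5
    exact zero_ne_one h5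
  have hj : ∀ i : Fin 4, ∃ j : ℕ, j ≡ ![1, 3, 7, 9] i [MOD 10] ∧ j.Coprime (Nat.card (Γ × (ZMod 11)ˣ)) := fun i =>
    exists_coprime (by norm_num) Nat.card_pos.ne' (by fin_cases i <;> norm_num)
  choose j hj1 hj2 using hj
  have hE : ∀ i, finrank (ZMod 11) (Ej σ S (j i)) = 2 := fun i => by
    have h3 := finrank_Ej (cast_ne hΓ) hr hS (hj2 i)
    rw [h2, ZMod.natCast_eq_natCast_iff'] at h3
    have h4 := (Ej σ S (j i)).finrank_le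
    omega
  have hcj : ∀ i, c ^ j i = c ^ ![1, 3, 7, 9] i := fun i => by
    have h3 : c ^ 10 = 1 := ZMod.pow_card_sub_one_eq_one hc0
    rw [← Nat.mod_add_div (j i) 10, pow_add, pow_mul, h3, one_pow, mul_one, hj1 i]
    fin_cases i <;> rfl
  have hind : iSupIndep fun o : Option (Fin 4) => o.elim (Module.End.eigenspace (σ g) 1) fun i => Ej σ S (j i) :=
    ((Module.End.eigenspaces_iSupIndep (σ g)).comp (pow_inj5 c h5 h1)).mono fun o => by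
      cases o with
      | none => exact le_rfl
      | some i => exact fun v hv => Module.End.mem_eigenspace_iff.2 ((hv (g, Units.mk0 c hc0) hg).trans (by
          rw [Units.val_mk0, hcj i]; rfl))
  have hT := sum_finrank_le hind (T := ⊤) fun _ => le_top
  rw [Fintype.sum_option, finrank_top] at hT
  change finrank (ZMod 11) (Module.End.eigenspace (σ g) 1) + ∑ i, finrank (ZMod 11) (Ej σ S (j i)) ≤ _ at hT
  simp only [hE, Finset.sum_const, Finset.card_univ, Fintype.card_fin, smul_eq_mul] at hT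
  have h3 : Module.End.eigenspace (σ g) 1 = ⊥ := Submodule.finrank_eq_zero.1 (by omega)
  exact (Submodule.mem_bot _).1 (h3 ▸ Module.End.mem_eigenspace_iff.2 (by rw [hv, one_smul]))

end

section int

variable {p : ℕ} [Fact p.Prime] {ι : Type*} [Fintype ι] [DecidableEq ι]

theorem int_cancel {A B : Matrix ι ι ℤ} (h : ∀ v : ι → ZMod p, A.map (Int.castRingHom (ZMod p)) *ᵥ v = 0 → v = 0)
    (e : A * B = 0) : B = 0 := by
  have h1 : A.det ≠ 0 := fun h0 => by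
    obtain ⟨v, hv, h2⟩ := Matrix.exists_mulVec_eq_zero_iff.2
      (show (A.map (Int.castRingHom (ZMod p))).det = 0 by rw [← RingHom.mapMatrix_apply, ← RingHom.map_det, h0, map_zero])
    exact hv (h v h2)
  have h2 := congrArg (A.adjugate * ·) e
  simp only [← mul_assoc, adjugate_mul, smul_mul_assoc, one_mul, mul_zero] at h2
  exact (smul_eq_zero.1 h2).resolve_left h1

/-- reduction modulo `p` is injective on a group of order prime to `p` -/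
theorem eq_one_of_red {Γ : Type*} [Group Γ] [Finite Γ] (hΓ : ¬ p ∣ Nat.card Γ) (ρ : Γ →* Matrix ι ι ℤ) {z : Γ}
    (h : red p ρ z = 1) : ρ z = 1 := by
  refine sub_eq_zero.1 (int_cancel (p := p) (A := ∑ i ∈ Finset.range (Nat.card Γ), ρ z ^ i) (fun v hv => ?_) ?_)
  · have h1 : ∀ i, (ρ z ^ i).map (Int.castRingHom (ZMod p)) *ᵥ v = v := fun i => by
      rw [← map_pow, ← red_apply, map_pow, h, one_pow, Module.End.one_apply]
    rw [← RingHom.mapMatrix_apply, map_sum, sum_mulVec] at hv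
    simp only [RingHom.mapMatrix_apply, h1, Finset.sum_const, Finset.card_range] at hv
    rw [← Nat.cast_smul_eq_nsmul (ZMod p)] at hv
    exact (smul_eq_zero.1 hv).resolve_left (cast_ne hΓ)
  · rw [geom_sum_mul, ← map_pow, pow_card_eq_one', map_one, sub_self]

end int

end Cfsg.Agent.TO.X11
end

-- part: TO/SM/Lie
section
set_option linter.all false
open scoped Cfsg.Agent.FastGrp

-- part: TO/SM/Gen
section
/-!
# S4817, section SM : groups with at most two classes of outer automorphisms (helper51)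
-/

set_option autoImplicit false

namespace Cfsg.Agent.TO.SM

open Cfsg

variable {p : ℕ} [Fact p.Prime] {X : Type} [Group X] [Finite X]

/-- a noncyclic defect group has order divisible by `p ^ 2` -/
theorem sq_dvd {A : Subgroup (MulAut X)} {Q : Subgroup X} (h : Pure p X A Q) : p ^ 2 ∣ Nat.card X := by
  obtain ⟨n, hn⟩ := IsPGroup.iff_card.1 h.pg
  refine Dvd.dvd.trans ?_ (Subgroup.card_subgroup_dvd_card Q)
  rw [hn]
  refine pow_dvd_pow _ ?_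
  by_contra h1
  apply h.nc
  have h2 : n = 0 ∨ n = 1 := by omega
  rcases h2 with rfl | rfl
  · have : Subsingleton Q := (Nat.card_eq_one_iff_unique.1 (by rw [hn, pow_zero])).1
    exact isCyclic_of_subsingleton
  · exact isCyclic_of_prime_card (by rw [hn, pow_one])

/-- what is left by the box S1 -/
theorem s1 (B : Blk) (ho : Nat.card (Out X) ≤ 2) {G : Type} [Group G] [Finite G] {σ : G →* X} {M : Ideal AlgInt}
    {b : Set (IrrCharacter G)} {D : Subgroup G} (H : Hyp p M b D σ) : p % 4 = 1 ∧ p ^ 2 ∣ Nat.card X ∧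
      2 ∣ Nat.card (Subgroup.center G) ∧ Nat.card (Out X) = 2 ∧ ∀ τ : MulAut X, τ * τ = 1 → τ ∈ Inn X := by
  have P := B.pure G p M b D X σ H
  have h0 : (Inn X).index ≠ 0 := Subgroup.index_ne_zero_of_finite
  have h1 : (Inn X).relIndex (Ind σ b) * (Ind σ b).index = (Inn X).index := Subgroup.relIndex_mul_index P.inn
  have h2 : (Inn X).index ≤ 2 := ho
  have h3 : (Ind σ b).index ≠ 0 := Subgroup.index_ne_zero_of_finite
  obtain ⟨h4, h5, -, h6, h7⟩ := B.s1 G p M b D X σ H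
    (le_trans (Nat.le_mul_of_pos_right _ (Nat.pos_of_ne_zero h3)) (h1 ▸ h2))
  rw [h6] at h1
  have h8 : Ind σ b = ⊤ := Subgroup.index_eq_one.1 (by omega)
  exact ⟨h4, sq_dvd P, h5, show (Inn X).index = 2 by omega, fun τ hτ => h7 τ (h8 ▸ Subgroup.mem_top τ) hτ⟩

theorem row_one (B : Blk) (ho : Nat.card (Out X) = 1) : Row p X := fun _ _ _ _ _ _ _ H => by
  have h := (s1 B (by omega) H).2.2.2.1
  omega

theorem row_inv (B : Blk) (ho : Nat.card (Out X) ≤ 2) (τ : MulAut X) (h1 : ∀ k, τ ≠ MulAut.conj k) (h2 : τ * τ = 1) :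
    Row p X := fun _ _ _ _ _ _ _ H =>
  let ⟨k, hk⟩ := (s1 B ho H).2.2.2.2 τ h2
  h1 k hk.symm

theorem row_mult (B : Blk) (ho : Nat.card (Out X) ≤ 2) {n : ℕ} (hn : ¬ 2 ∣ n) (h : HasCyclicSchurMultiplier X n) :
    Row p X := fun G _ _ σ _ _ _ H => by
  obtain ⟨π, hπ⟩ := h.2 G σ ⟨H.surj, H.ker.le, H.perf ▸ le_top⟩
  have h1 := Subgroup.card_dvd_of_surjective π hπ
  rw [H.ker, Nat.card_congr Multiplicative.toAdd, Nat.card_zmod] at h1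
  exact hn ((s1 B ho H).2.2.1.trans h1)

theorem row_ord (B : Blk) (ho : Nat.card (Out X) ≤ 2) (h : ∀ q : ℕ, q.Prime → q % 4 = 1 → ¬ q ^ 2 ∣ Nat.card X) :
    Row p X := fun _ _ _ _ _ _ _ H => h p Fact.out (s1 B ho H).1 (s1 B ho H).2.1

theorem row_cyc (B : Blk) (h : ¬ p ^ 2 ∣ Nat.card X) : Row p X := B.row_of_pure fun _ _ P => h (sq_dvd P)

end Cfsg.Agent.TO.SM
end

-- part: TO/SM/Lie
section
/-!
# S4817, section SM : `G₂(3)`, `G₂(4)`, `F₄(2)` and the Tits group (helper51)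
-/

set_option autoImplicit false

namespace Cfsg.Agent.TO.SM

open scoped Pointwise
open Cfsg Cfsg.Lie Cfsg.Agent.ChevalleyStructure Cfsg.Agent.ChevalleyStructure.Elts
  Cfsg.Agent.ChevalleyStructure.NConj Cfsg.Agent.ChevalleyStructure.BNChev Cfsg.Agent.S1042
  Cfsg.Agent.Schreier.ChevLocal Cfsg.Agent.H70.PermFix Cfsg.Agent.H70.ChevDiag
  Cfsg.Agent.H70.AutFix Cfsg.Agent.H70.ChevTab Cfsg.Agent.H70.ChevFix
  Cfsg.Agent.H70.ChevField Cfsg.Agent.H70.OutCount Cfsg.Agent.H69.OutGF Cfsg.Agent.H430.CfGraph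

variable {p : ℕ} [Fact p.Prime] {F : Type} [Field F] [Fintype F]

theorem row_graph (B : Blk) {D : ChevalleyDatum} (hD : InList D) (ho : Nat.card (Out ↥(D.group F)) ≤ 2)
    {β : MulAut ↥(D.group F)} {π : Equiv.Perm (Fin D.rank)} (hβ : Perm D F β π) (hπ : π ≠ 1) (h2 : β * β = 1) :
    Row p ↥(D.group F) :=
  have : Finite (GL D.Idx F) := inferInstance
  row_inv B ho β (fun _ hk => hπ (perm_one_of_inner hD (hk ▸ hβ))) h2

theorem row_field (B : Blk) {D : ChevalleyDatum} (hD : InList D) (ho : Nat.card (Out ↥(D.group F)) ≤ 2)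
    (τ : F ≃+* F) (h1 : ∃ t, τ t ≠ t) (h2 : ∀ t, τ (τ t) = t) : Row p ↥(D.group F) := by
  have : Finite (GL D.Idx F) := inferInstance
  obtain ⟨α, hα⟩ := exists_fieldAut hD τ
  refine row_inv B ho α (fun k hk => ?_) (ext_values hD (fun i t => ?_) fun i t => ?_)
  · have h3 : Perm D F α 1 := perm_one_of_values hD (c := fun _ => 1) (σ := fun _ => τ) (fun _ => one_ne_zero)
      (fun i t => by rw [hα _ (simple_lt hD i.2), one_mul])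
      fun i t => by rw [hα _ (neg_simple_lt hD i.2), inv_one, one_mul]
    rw [hk] at h3
    have h4 : k ∈ HH D F := by
      rw [← normalizer_inf hD, Subgroup.mem_inf, mem_normalizer_iff_smul, mem_normalizer_iff_smul]
      exact ⟨Perm.smul_UU hD h3, Perm.smul_VN hD h3⟩
    have hr := simple_lt hD (RootComb.good_of_mem hD).rank_pos
    obtain ⟨c, -, hc⟩ := diagonal_conj hD (h := (k : GL D.Idx F)) h4 hr
    have h5 : ∀ t, τ t = c * t := fun t => xe_inj hD hr (by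
      rw [← hα _ hr, hk]
      exact Subtype.ext (hc t))
    obtain ⟨t, ht⟩ := h1
    have h6 := h5 1
    rw [map_one, mul_one] at h6
    exact ht (by rw [h5, ← h6, one_mul])
  · rw [MulAut.mul_apply, hα _ (simple_lt hD i.2), hα _ (simple_lt hD i.2), h2, MulAut.one_apply]
  · rw [MulAut.mul_apply, hα _ (neg_simple_lt hD i.2), hα _ (neg_simple_lt hD i.2), h2, MulAut.one_apply]

theorem row_G23 (B : Blk) (hF : Fintype.card F = 3) : Row p ↥(chevG2.group F) := by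
  have : Fact (Nat.Prime 3) := ⟨Nat.prime_three⟩
  have : CharP F 3 := charP_of_card hF
  obtain ⟨β, h1, h2⟩ := exists_graph_G2 (F := F) fun t => by
    have := FiniteField.pow_card t
    rwa [hF] at this
  exact row_graph B hG2 (S2121.result 3 1 (by rw [hF, pow_one]) (by norm_num)).le h1 flip2_ne h2

theorem row_G24 (B : Blk) (hF : Fintype.card F = 4) : Row p ↥(chevG2.group F) := by
  have : CharP F 2 := by
    obtain ⟨r, hr⟩ := CharP.exists F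
    obtain ⟨n, h1, h2⟩ := FiniteField.card F r
    have h3 : r ∣ 2 ^ 2 := by
      rw [show 2 ^ 2 = 4 from rfl, ← hF, h2]
      exact dvd_pow_self r n.ne_zero
    rwa [← (Nat.prime_dvd_prime_iff_eq h1 Nat.prime_two).1 (h1.dvd_of_dvd_pow h3)]
  refine row_field B hG2 (S2121.result 2 2 (by rw [hF]; rfl) (by norm_num)).le (frobeniusEquiv F 2) ?_ fun t => ?_
  · by_contra h
    push Not at h
    classical
    have h1 : (Finset.univ : Finset F) ⊆ {0, 1} := fun t _ => by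
      have h2 : t * (t - 1) = 0 := by
        have h3 : t ^ 2 = t := h t
        linear_combination h3
      rcases mul_eq_zero.1 h2 with h3 | h3
      · simp [h3]
      · simp [sub_eq_zero.1 h3]
    have h2 := (Finset.card_le_card h1).trans Finset.card_le_two
    rw [Finset.card_univ, hF] at h2
    omega
  · have h1 := FiniteField.pow_card t
    rw [hF] at h1
    change (t ^ 2) ^ 2 = t
    rw [← pow_mul, h1]

theorem row_F42 (B : Blk) (hF : Fintype.card F = 2) : Row p ↥(chevF4.group F) := by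
  have : CharP F 2 := charP_of_card hF
  obtain ⟨β, h1, h2⟩ := exists_graph_F4 (F := F) fun t => by
    have := FiniteField.pow_card t
    rwa [hF] at this
  exact row_graph B hF4 (S2122.result 2 1 (by rw [hF, pow_one])).le h1 flip4_ne h2

theorem row_mult' (B : Blk) {S T : Type} [Group S] [Finite S] [Group T] {n : ℕ} (h : HasCyclicSchurMultiplier T n)
    (e : S ≃* T) (ho : Nat.card (Out S) ≤ 2) (hn : ¬ 2 ∣ n) : Row p S := fun G _ _ σ _ _ _ H => by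
  have h0 : (e.toMonoidHom.comp σ).ker = Subgroup.center G := by
    rw [← H.ker]
    ext x
    simp [MonoidHom.mem_ker]
  obtain ⟨π, hπ⟩ := h.2 G (e.toMonoidHom.comp σ) ⟨e.surjective.comp H.surj, h0.le, H.perf ▸ le_top⟩
  have h1 := Subgroup.card_dvd_of_surjective π hπ
  rw [h0, Nat.card_congr Multiplicative.toAdd, Nat.card_zmod] at h1
  exact hn ((s1 B ho H).2.2.1.trans h1)

theorem rowTits (B : Blk) : RowFor (fun _ S _ => Lie.IsoTits S) := by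
  intro p _ _ S _ _ _ _ h
  have ho := H867.TitsOut.card_out_le h
  obtain ⟨e⟩ := h
  exact row_mult' B S2115.result e ho (by norm_num)

end Cfsg.Agent.TO.SM
end
end

-- part: TO/X/Rows
section
set_option linter.all false

/-!
# S4817, exceptional groups: the rows `f4 e6 e7 e8 te6` from the boxes (helper54)
-/

set_option autoImplicit false

namespace Cfsg.Agent.TO.X

open Cfsg Cfsg.Lie Cfsg.Agent.KZ.DatX

/-- a box for all odd primes from the primes `3`, `5`, `7` and the primes `≥ 11` -/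
theorem all_odd {R : ℕ → Prop} (h3 : R 3) (h5 : R 5) (h7 : R 7) (h11 : ∀ p, p.Prime → 11 ≤ p → R p) :
    ∀ p, p.Prime → p ≠ 2 → R p := fun p hp h2 => by
  by_cases h : 11 ≤ p
  · exact h11 p hp h
  · have h1 := hp.two_le
    have h4 : p ≤ 10 := by omega
    interval_cases p <;> first | assumption | exact absurd rfl h2 | exact absurd hp (by decide)

theorem exists_re (F : Type) [Field F] [Fintype F] {p : ℕ} (h : (p : F) ≠ 0) :
    ∃ (r e : ℕ) (_ : Fact r.Prime) (_ : CharP F r), Fintype.card F = r ^ e ∧ p ≠ r := by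
  obtain ⟨r, hr⟩ := CharP.exists F
  obtain ⟨n, h1, h2⟩ := FiniteField.card F r
  exact ⟨r, n, ⟨h1⟩, hr, h2, fun e => h (e ▸ CharP.cast_eq_zero F r)⟩

theorem row_split {C : ChevalleyDatum} (h : ∀ p, p.Prime → p ≠ 2 → RS C p) :
    RowFor fun p S _ => ∃ (F : Type) (_ : Field F) (_ : Fintype F), (p : F) ≠ 0 ∧ Nonempty (S ≃* C.group F) := by
  rintro p _ hp S _ _ _ - ⟨F, _, _, h1, ⟨i⟩⟩
  obtain ⟨r, e, _, _, h2, h3⟩ := exists_re F h1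
  exact (h p Fact.out hp F r e h2 h3).of_equiv i

theorem rs_F4 {p : ℕ} (hp : p.Prime) (h : RF4 p) : RS chevF4 p := fun F _ _ r e _ _ h1 h2 => by
  by_cases h3 : r ^ e = 2
  · have : Fact p.Prime := ⟨hp⟩
    exact SM.row_F42 blk (h1.trans h3)
  · exact h F r e h1 h3 h2

theorem row_f4 (h : ∀ p, p.Prime → p ≠ 2 → RF4 p) :
    RowFor fun p S _ => ∃ (F : Type) (_ : Field F) (_ : Fintype F), (p : F) ≠ 0 ∧ Nonempty (S ≃* chevF4.group F) :=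
  row_split fun p hp h2 => rs_F4 hp (h p hp h2)

theorem row_te6 (h : ∀ p, p.Prime → p ≠ 2 → RT6 p) :
    RowFor fun p S _ => ∃ (K : Type) (_ : Field K) (_ : Fintype K) (q : ℕ), (p : K) ≠ 0 ∧
      IsPrimePow q ∧ Fintype.card K = q ^ 2 ∧ Nonempty (S ≃* twistedE6 K q) := by
  rintro p _ hp S _ _ _ - ⟨K, _, _, q, h1, hq, hK, ⟨i⟩⟩
  obtain ⟨r, e, _, _, -, -, rfl, -⟩ := DL.Tw.setup hq two_ne_zero hK
  exact (h p Fact.out hp K r e hK fun e => h1 (e ▸ CharP.cast_eq_zero K r)).of_equiv i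

/-- the boxes at one prime -/
structure Exc (p : ℕ) : Prop where
  f4 : RF4 p
  e6 : RE6 p
  te6 : RT6 p
  e7 : RE7 p
  e8 : RE8 p

/-- the five rows -/
structure Five : Prop where
  f4 : RowFor fun p S _ => ∃ (F : Type) (_ : Field F) (_ : Fintype F), (p : F) ≠ 0 ∧ Nonempty (S ≃* chevF4.group F)
  e6 : RowFor fun p S _ => ∃ (F : Type) (_ : Field F) (_ : Fintype F), (p : F) ≠ 0 ∧ Nonempty (S ≃* chevE6.group F)
  e7 : RowFor fun p S _ => ∃ (F : Type) (_ : Field F) (_ : Fintype F), (p : F) ≠ 0 ∧ Nonempty (S ≃* chevE7.group F)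
  e8 : RowFor fun p S _ => ∃ (F : Type) (_ : Field F) (_ : Fintype F), (p : F) ≠ 0 ∧ Nonempty (S ≃* chevE8.group F)
  te6 : RowFor fun p S _ => ∃ (K : Type) (_ : Field K) (_ : Fintype K) (q : ℕ), (p : K) ≠ 0 ∧
    IsPrimePow q ∧ Fintype.card K = q ^ 2 ∧ Nonempty (S ≃* twistedE6 K q)

/-- **the assembly** -/
theorem five (h3 : Exc 3) (h5 : Exc 5) (h7 : Exc 7) (h11 : ∀ p, p.Prime → 11 ≤ p → Exc p) : Five :=
  have h := all_odd h3 h5 h7 h11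
  ⟨row_f4 fun p hp h2 => (h p hp h2).f4, row_split fun p hp h2 => (h p hp h2).e6,
    row_split fun p hp h2 => (h p hp h2).e7, row_split fun p hp h2 => (h p hp h2).e8,
    row_te6 fun p hp h2 => (h p hp h2).te6⟩

end Cfsg.Agent.TO.X
end
end
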